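import Cfsg.Agent.TO.Box
import Cfsg.Agent.H641.Inertial
import Cfsg.Agent.H649.AbelLocal
import Cfsg.Agent.S0968

/-!
# S4817: canonical characters, the basic facts (helper65)

* `Can.root` : the root `blockOf M θ`; `Can.hmax`, `Can.hdef` : the maximal pair, the defect group of the root;
* `Can.eq_of_tst`, `Can.of_tst` : the canonical character is the member of the root which is trivial on `D`;
* `Can.map` : transport along an isomorphism; `Can.conj` : two pairs of one block are conjugate;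
* `Can.blk_eq` : the pair determines the block; `Can.mem_In` : the inertia group is the stabiliser of the root;
* `boxCAN0`.
-/

set_option autoImplicit false
set_option linter.unusedSectionVars false
set_option linter.unusedVariables false

namespace Cfsg.Agent.TO

open Cfsg Subgroup
open Cfsg.Agent.H649 Cfsg.Agent.Blocks.Basic

universe u v

variable {G : Type u} [Group G] [Finite G] {p : ℕ} [Fact p.Prime] {M : Ideal AlgInt}
  {b b' : Set (IrrCharacter G)} {D D' : Subgroup G} {θ θ' : G → ℂ}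

namespace Cn

theorem mem_Fn {f : G → ℂ} : f ∈ Fn b ↔ ∃ χ ∈ b, (χ : G → ℂ) = f := Iff.rfl

theorem coe_mem_Fn {χ : IrrCharacter G} : (χ : G → ℂ) ∈ Fn b ↔ χ ∈ b :=
  ⟨fun ⟨ψ, h1, h2⟩ => Subtype.ext h2 ▸ h1, fun h => ⟨χ, h, rfl⟩⟩

theorem mem_LA {α : MulAut G} : α ∈ LA D θ ↔ (∀ x, α x ∈ D ↔ x ∈ D) ∧ ∀ g, θ (α g) = θ g := Iff.rfl

theorem mem_In {x : G} : x ∈ In D θ ↔ (∀ y, x * y * x⁻¹ ∈ D ↔ y ∈ D) ∧ ∀ g, θ (x * g * x⁻¹) = θ g := Iff.rfl

theorem mem_Stab {α : MulAut G} : α ∈ Stab b ↔ ∀ f : G → ℂ, f ∘ α ∈ Fn b ↔ f ∈ Fn b := Iff.rfl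

/-- the stabiliser in terms of the transport of blocks -/
theorem mem_Stab_iff {α : MulAut G} : α ∈ Stab b ↔ blkMap α b = b := by
  constructor
  · intro h
    ext ξ
    rw [mem_blkMap, ← coe_mem_Fn, ← coe_mem_Fn]
    exact h ξ
  · intro h f
    constructor
    · rintro ⟨χ, h1, h2⟩
      refine ⟨irrMap α χ, by rw [← h]; exact irrMap_mem_blkMap.2 h1, funext fun g => ?_⟩
      rw [irrMap_apply, h2, Function.comp_apply, MulEquiv.apply_symm_apply]
    · rintro ⟨χ, h1, rfl⟩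
      rw [← h] at h1
      exact ⟨irrMap α.symm χ, mem_blkMap.1 h1, rfl⟩

theorem map_eq_of_iff {α : MulAut G} (h : ∀ x, α x ∈ D ↔ x ∈ D) : D.map α.toMonoidHom = D := by
  ext y
  rw [mem_map_equiv, ← h, MulEquiv.apply_symm_apply]

theorem iff_of_map_eq {H : Type v} [Group H] {e : G ≃* H} {E : Subgroup H} (h : D.map e.toMonoidHom = E) (x : G) :
    e x ∈ E ↔ x ∈ D := by
  rw [← h]
  exact map_mem_map_iff e D x

theorem Ce_iff {H : Type v} [Group H] {e : G ≃* H} {E : Subgroup H} (h : D.map e.toMonoidHom = E) (x : G) :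
    e x ∈ Ce E ↔ x ∈ Ce D := by
  rw [← h]
  exact map_mem_centralizer_iff e D x

end Cn

open Cn

namespace Can

/-- the canonical character as a character of the centralizer -/
def chr (h : Can p M b D θ) : IrrCharacter (Ce D) := ⟨fun c => θ c, h.irr⟩

theorem chr_apply (h : Can p M b D θ) (c : Ce D) : (h.chr : Ce D → ℂ) c = θ c := rfl

/-- the root -/
abbrev root (M : Ideal AlgInt) (D : Subgroup G) (θ : G → ℂ) : Set (IrrCharacter (Ce D)) :=
  blockOf M (fun c : Ce D => θ c)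

theorem prime (h : Can p M b D θ) : M.IsPrime := h.hM.2.1.isPrime

theorem hb (h : Can p M b D θ) : IsPBlock M b := h.ind.2.1

theorem he (h : Can p M b D θ) : IsPBlock M (root M D θ) := h.ind.1

theorem pg (h : Can p M b D θ) : IsPGroup p D := isPGroup_of_isDefectGroup h.hD

theorem comm (h : Can p M b D θ) : ∀ x ∈ D, ∀ y ∈ D, x * y = y * x := fun x hx y hy =>
  mem_centralizer_iff.1 (h.ab hy) x hx

theorem chr_mem (h : Can p M b D θ) : h.chr ∈ root M D θ :=
  haveI := h.prime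
  mem_blockOf_self h.chr

theorem one_ne (h : Can p M b D θ) : θ 1 ≠ 0 :=
  Cfsg.Agent.Characters.Core.isIrr_apply_one_ne_zero (χ := fun c : Ce D => θ c) h.irr

theorem hmax (h : Can p M b D θ) : IsMaximalBrauerPair p M b D (root M D θ) :=
  haveI := h.prime
  Cfsg.Agent.H641.isMaximal_of_induced h.hM h.hD h.ind

theorem tst (h : Can p M b D θ) : Tst ⟨D, root M D θ⟩ θ := ⟨h.chr, h.chr_mem, fun _ => rfl⟩

end Can

theorem Cn.sup_cent_eq_top (hab : D ≤ Ce D) :
    D.subgroupOf (Ce D) ⊔ centralizer ((D.subgroupOf (Ce D) : Subgroup (Ce D)) : Set (Ce D)) = ⊤ := by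
  rw [eq_top_iff]
  intro c _
  exact mem_sup_right (mem_centralizer_iff.2 fun d hd => Subtype.ext (mem_centralizer_iff.1 c.2 d hd))

/-- the defect group of a root -/
theorem Cn.root_defect (hM : IsPModular p M) {e : Set (IrrCharacter (Ce D))} (hmax : IsMaximalBrauerPair p M b D e)
    (hab : D ≤ Ce D) : IsDefectGroup p M e (D.subgroupOf (Ce D)) := by
  have := hM.2.1.isPrime
  have := Fintype.ofFinite G
  obtain ⟨k, h1, -⟩ := exists_locIdx_eq hM hmax.1.1 hab Relation.ReflTransGen.refl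
  exact Cfsg.Agent.H644.isDefectGroup_of_isMaximalBrauerPair hM (isMaximal_local hM hmax hab Relation.ReflTransGen.refl h1)

namespace Can

theorem hdef (h : Can p M b D θ) : IsDefectGroup p M (root M D θ) (D.subgroupOf (Ce D)) :=
  root_defect h.hM h.hmax h.ab

/-- the member of the root which is trivial on `D` -/
theorem eq_chr (h : Can p M b D θ) {ξ : IrrCharacter (Ce D)} (h1 : ξ ∈ root M D θ)
    (h2 : ∀ d : Ce D, (d : G) ∈ D → (ξ : Ce D → ℂ) d = (ξ : Ce D → ℂ) 1) : ξ = h.chr := by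
  obtain ⟨ζ, -, hu⟩ := (Cfsg.Agent.S0968.result p M h.hM _ h.pg.comap_subtype (sup_cent_eq_top h.ab) _ h.he h.hdef).1
  rw [hu ξ ⟨h1, h2⟩, hu h.chr ⟨h.chr_mem, fun d hd => h.triv d hd⟩]

theorem eq_of_tst (h : Can p M b D θ) {φ : G → ℂ} (h1 : Tst ⟨D, root M D θ⟩ φ) (h2 : ∀ d ∈ D, φ d = φ 1)
    (h3 : ∀ g, g ∉ Ce D → φ g = 0) : φ = θ := by
  obtain ⟨ξ, k1, k2⟩ := h1
  have k3 := h.eq_chr k1 fun d hd => by rw [← k2, ← k2]; exact h2 d hd
  funext g
  by_cases hg : g ∈ Ce D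
  · have k4 := k2 ⟨g, hg⟩
    rw [k3] at k4
    exact k4
  · rw [h3 g hg, h.zero g hg]

/-- a canonical character from a pair -/
theorem of_tst (hM : IsPModular p M) {e : Set (IrrCharacter (Ce D))} (hp : IsBrauerPairOf p M b D e)
    (hD : IsDefectGroup p M b D) (hab : D ≤ Ce D) (h1 : Tst ⟨D, e⟩ θ) (h2 : ∀ d ∈ D, θ d = θ 1)
    (h3 : ∀ g, g ∉ Ce D → θ g = 0) : Can p M b D θ ∧ root M D θ = e := by
  have := hM.2.1.isPrime
  obtain ⟨ξ, k1, k2⟩ := h1
  have k3 : (fun c : Ce D => θ c) = ξ := funext k2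
  have k4 : root M D θ = e := by
    rw [root, k3]
    exact (isPBlock_eq_blockOf hp.1.2 k1).symm
  refine ⟨⟨hM, hD, hab, by rw [k3]; exact ξ.2, ?_, h3, h2⟩, k4⟩
  show IsInducedBlock M (Ce D) (root M D θ) b
  rw [k4]
  exact (isBrauerPairOf_iff_isInducedBlock hM hp.2.1 hp.1.1 hp.1.2).1 hp

/-- **transport** -/
theorem map (h : Can p M b D θ) {H : Type v} [Group H] [Finite H] (e : G ≃* H) :
    Can p M (blkMap e b) (D.map e.toMonoidHom) (fun y => θ (e.symm y)) := by
  refine (of_tst h.hM ((isBrauerPairOf_map_iff e b D _).2 h.hmax.1) (isDefectGroup_blkMap h.hD) ?_ ?_ ?_ ?_).1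
  · rintro _ ⟨x, hx, rfl⟩
    exact (map_mem_centralizer_iff e D x).2 (h.ab hx)
  · refine (idxMap_test e ⟨D, root M D θ⟩ _).2 ?_
    simp only [MulEquiv.symm_apply_apply]
    exact h.tst
  · rintro _ ⟨x, hx, rfl⟩
    simp only [MulEquiv.coe_toMonoidHom, MulEquiv.symm_apply_apply, map_one]
    exact h.triv x hx
  · intro g hg
    refine h.zero _ fun h1 => hg ?_
    have h2 := (map_mem_centralizer_iff e D _).2 h1
    rwa [MulEquiv.apply_symm_apply] at h2

/-- the pair determines the block -/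
theorem blk_eq (h : Can p M b D θ) (h' : Can p M b' D θ) : b = b' :=
  haveI := h.prime
  Cfsg.Agent.H648.Dict.isInducedBlock_unique h.ind h'.ind

/-- an isomorphism of pairs carries the canonical character to the canonical character -/
theorem of_idx (h : Can p M b D θ) {H : Type v} [Group H] [Finite H] {c : Set (IrrCharacter H)} {E : Subgroup H}
    {η : H → ℂ} (h' : Can p M c E η) {e : G ≃* H}
    (he : idxMap e ⟨D, root M D θ⟩ = ⟨E, root M E η⟩) : D.map e.toMonoidHom = E ∧ ∀ g, η (e g) = θ g := by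
  have h1 : D.map e.toMonoidHom = E := congrArg (fun a => a.1) he
  refine ⟨h1, congrFun (h.eq_of_tst (φ := fun g => η (e g)) ?_ (fun d hd => ?_) fun g hg => ?_)⟩
  · rw [← idxMap_test, he]
    exact h'.tst
  · rw [map_one]
    exact h'.triv _ ((iff_of_map_eq h1 d).2 hd)
  · exact h'.zero _ fun h2 => hg ((Ce_iff h1 g).1 h2)

/-- **two pairs of one block are conjugate** -/
theorem conj (h : Can p M b D θ) (h' : Can p M b D' θ') :
    ∃ x : G, (∀ y, x * y * x⁻¹ ∈ D ↔ y ∈ D') ∧ ∀ g, θ (x * g * x⁻¹) = θ' g := by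
  have := h.prime
  obtain ⟨x, hx⟩ := Cfsg.Agent.H644.exists_conjIdx_eq h.hM h.hmax.1 h'.hmax.1 h.hD h'.hD
  obtain ⟨h1, h2⟩ := h'.of_idx h (e := MulAut.conj x) hx
  exact ⟨x, iff_of_map_eq h1, h2⟩

/-- **the inertia group is the stabiliser of the root** -/
theorem mem_In_iff (h : Can p M b D θ) (x : G) :
    x ∈ In D θ ↔ x ∈ normalizer (D : Set G) ∧ StabilizesBlock (Ce D) (root M D θ) x := by
  have := h.prime
  constructor
  · rintro ⟨h1, h2⟩
    have h3 : x ∈ normalizer (D : Set G) := mem_normalizer_iff.2 fun y => (h1 y).symm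
    refine ⟨h3, (stabilizesBlock_iff h.he x).2 ⟨mem_normalizer_centralizer h3, ?_⟩⟩
    refine isPBlock_eq_of_mem (isPBlock_blkMap h.he) h.he (irrMap_mem_blkMap.2 h.chr_mem) ?_
    have h4 : irrMap (conjAut (Ce D) x (mem_normalizer_centralizer h3)) h.chr = h.chr := Subtype.ext (funext fun k => by
      rw [irrMap_apply, chr_apply, chr_apply, conjAut_symm_coe, ← h2]
      congr 1
      show x * (x⁻¹ * k * x) * x⁻¹ = k
      group)
    rw [h4]
    exact h.chr_mem
  · intro h1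
    obtain ⟨h2, h3⟩ := h.of_idx h (e := MulAut.conj x) ((conjIdx_eq_iff h.he x).2 h1)
    exact ⟨iff_of_map_eq h2, h3⟩

theorem le_Stab (h : Can p M b D θ) : LA D θ ≤ Stab b := by
  intro α hα
  have h1 := h.map α
  have h2 : (fun y => θ (α.symm y)) = θ := funext fun y => by rw [← hα.2, MulEquiv.apply_symm_apply]
  rw [map_eq_of_iff hα.1, h2] at h1
  exact mem_Stab_iff.2 (h1.blk_eq h)

theorem frat (h : Can p M b D θ) {α : MulAut G} (hα : α ∈ Stab b) : ∃ g : G, MulAut.conj g * α ∈ LA D θ := by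
  have h1 := h.map α
  rw [mem_Stab_iff.1 hα] at h1
  obtain ⟨x, h2, h3⟩ := h.conj h1
  refine ⟨x, fun y => (h2 (α y)).trans (map_mem_map_iff α D y), fun g => ?_⟩
  have h4 := h3 (α g)
  rw [MulEquiv.symm_apply_apply] at h4
  exact h4

end Can

/-- **[CAN0]** -/
theorem boxCAN0 : BoxCAN0 := by
  intro G _ _ p _ M b D hM hb hD hab
  have := hM.2.1.isPrime
  obtain ⟨e, he⟩ := exists_pair_of_isDefectGroup hM hb hD
  have h1 := root_defect hM (Cfsg.Agent.H644.isMaximalBrauerPair_of_isDefectGroup hM he hD) hab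
  obtain ⟨ξ, ⟨h2, h3⟩, -⟩ :=
    (Cfsg.Agent.S0968.result p M hM _ he.1.1.comap_subtype (sup_cent_eq_top hab) _ he.1.2 h1).1
  have h4 : ∀ c : Ce D, extendByZero (Ce D) (ξ : Ce D → ℂ) c = (ξ : Ce D → ℂ) c := fun c =>
    Subtype.val_injective.extend_apply _ _ c
  refine ⟨extendByZero (Ce D) ξ, (Can.of_tst hM he hD hab ⟨ξ, h2, h4⟩ (fun d hd => ?_) fun g hg => ?_).1⟩
  · exact (h4 ⟨d, hab hd⟩).trans ((h3 ⟨d, hab hd⟩ hd).trans (h4 1).symm)
  · exact Function.extend_apply' _ _ _ fun ⟨c, hc⟩ => hg (hc ▸ c.2)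

end Cfsg.Agent.TO
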