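import Cfsg.Agent.TO.CovA
import Cfsg.Agent.TO.KBox
import Cfsg.Agent.TO.Can
import Cfsg.Agent.S0919
import Cfsg.Agent.S0965
import Cfsg.Agent.S4438

/-!
# S4817: the covering block of a character over the canonical character (helper77)

* `Cov.exists_cover` : a character of `C_G(D)` over `θ` gives a covering block;
* `Cov.over_inv` : it is fixed by the inertia group of `θ`;
* `boxCOV2`.
-/

set_option autoImplicit false

namespace Cfsg.Agent.TO

namespace Cov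

open Cfsg Cfsg.Agent.Blocks.Basic Cfsg.Agent.Blocks.Local Cfsg.Agent.Characters
open Cfsg.Agent.H666.Clif (tl tl_apply Ov ov_iff exists_tl)
open scoped ComplexConjugate

section

variable {G : Type*} [Group G] [Finite G]

/-- Gallagher in a subgroup -/
theorem tl_of_over {T H : Subgroup G} (hHT : H ≤ T) [H.Normal] (hc : IsCyclic (G ⧸ H)) [Fintype H] {ϑ : H → ℂ}
    (hϑ : IsIrrCharacter H ϑ) {ψ ψ' : T → ℂ} (h1 : IsIrrCharacter T ψ) (h2 : IsIrrCharacter T ψ')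
    (h3 : classInner (fun n : H => ψ ⟨n, hHT n.2⟩) ϑ ≠ 0) (h4 : classInner (fun n : H => ψ' ⟨n, hHT n.2⟩) ϑ ≠ 0) :
    ∃ l : T →* ℂˣ, (∀ x : T, (x : G) ∈ H → l x = 1) ∧ ∀ x, ψ' x = l x * ψ x := by
  have := Fintype.ofFinite T
  have := Fintype.ofFinite (H.subgroupOf T)
  let e := Subgroup.subgroupOfEquivOfLe hHT
  have key : ∀ χ : IrrCharacter T, classInner (fun n : H => (χ : T → ℂ) ⟨n, hHT n.2⟩) ϑ ≠ 0 →
      Ov (H.subgroupOf T) χ ⟨_, Core.isIrr_comp e.toMonoidHom e.surjective hϑ⟩ := fun χ h => by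
    rw [← Clifford.classInner_comp_mulEquiv e] at h
    exact (ov_iff _ _ _).2 h
  obtain ⟨l, h5, h6⟩ := exists_tl (H.subgroupOf T) (cyc_sub H T hc) (key ⟨ψ, h1⟩ h3) (key ⟨ψ', h2⟩ h4)
  exact ⟨l, h5, fun x => congrFun (congrArg Subtype.val h6) x⟩

theorem ov_of_res {N : Subgroup G} {χ : IrrCharacter G} {ε : IrrCharacter N}
    (h : ∀ n : N, (χ : G → ℂ) n = (ε : N → ℂ) n) : Ov N χ ε := by
  have := Fintype.ofFinite G
  have := Fintype.ofFinite N
  rw [ov_iff, funext h, Core.classInner_irr_self ε.2]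
  exact one_ne_zero

/-- a character over an invariant character is an extension -/
theorem res_of_inv (N : Subgroup G) [hN : N.Normal] (hc : IsCyclic (G ⧸ N)) {χ : IrrCharacter G} {ε : IrrCharacter N}
    (h : Ov N χ ε) (hi : ∀ (g : G) (n : N), (ε : N → ℂ) ⟨g * n * g⁻¹, hN.conj_mem n n.2 g⟩ = (ε : N → ℂ) n) (n : N) :
    (χ : G → ℂ) n = (ε : N → ℂ) n := by
  obtain ⟨χ0, h1, h2⟩ := S0886.result N hc _ ε.2 hi
  obtain ⟨l, h3, rfl⟩ := exists_tl N hc (ov_of_res (χ := ⟨χ0, h1⟩) h2) h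
  rw [tl_apply, h3 n n.2, Units.val_one, one_mul]
  exact h2 n

omit [Finite G] in
theorem comm_mem (N : Subgroup G) [N.Normal] (hc : IsCyclic (G ⧸ N)) (t x : G) : t * x * t⁻¹ * x⁻¹ ∈ N := by
  let _ := hc.commGroup
  have h1 : (QuotientGroup.mk' N) (t * x * t⁻¹ * x⁻¹) = 1 := by
    have h2 : ∀ a b : G ⧸ N, a * b = b * a := fun a b => mul_comm a b
    rw [map_mul, map_mul, map_mul, h2 (QuotientGroup.mk' N t), map_inv, map_inv, mul_inv_cancel_right, mul_inv_cancel]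
  exact (QuotientGroup.eq_one_iff _).1 h1

end

variable {G : Type*} [Group G] [Finite G] {p : ℕ} {M : Ideal AlgInt} {N : Subgroup G} {b : Set (IrrCharacter N)}
  {D : Subgroup G} {θ : G → ℂ}

omit [Finite G] in
theorem irr_L (hD : D ≤ N) (h : Can p M b (D.subgroupOf N) fun n => θ n) :
    IsIrrCharacter (N.subgroupOf (Ce D)) fun x => θ ((x : Ce D) : G) :=
  Core.isIrr_comp ((((Ce D).subtype.comp (N.subgroupOf (Ce D)).subtype).codRestrict N fun x => x.2).codRestrict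
    (Ce (D.subgroupOf N)) fun x => (mem_Ce_sub hD).2 x.1.2)
    (fun y => ⟨⟨⟨y.1, (mem_Ce_sub hD).1 y.2⟩, y.1.2⟩, rfl⟩) h.irr

/-- `θ` on `C_N(D)` -/
def thL (hD : D ≤ N) (h : Can p M b (D.subgroupOf N) fun n => θ n) : IrrCharacter (N.subgroupOf (Ce D)) :=
  ⟨_, irr_L hD h⟩

omit [Finite G] in
theorem zero_C (hD : D ≤ N) (h0 : ∀ g, g ∉ N → θ g = 0) (h : Can p M b (D.subgroupOf N) fun n => θ n) {g : G}
    (hg : g ∉ Ce D) : θ g = 0 := by
  by_cases hN : g ∈ N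
  · exact h.zero ⟨g, hN⟩ fun h1 => hg ((mem_Ce_sub hD).1 h1)
  · exact h0 g hN

omit [Finite G] in
theorem ab_D (hD : D ≤ N) (h : Can p M b (D.subgroupOf N) fun n => θ n) : D ≤ Ce D := fun d hd =>
  (mem_Ce_sub hD (n := ⟨d, hD hd⟩)).1 (h.ab hd)

omit [Finite G] in
theorem pg_D (hD : D ≤ N) (h : Can p M b (D.subgroupOf N) fun n => θ n) : IsPGroup p D :=
  (isPGroup_of_isDefectGroup h.hD).of_equiv (Subgroup.subgroupOfEquivOfLe hD)

omit [Finite G] in
theorem ext_coe {H : Subgroup G} (χ : H → ℂ) : (fun c : H => extendByZero H χ c) = χ :=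
  funext fun c => Core.extendByZero_of_mem H χ c.2

omit [Finite G] in
theorem fs_L {C : Subgroup G} [Fintype (N.subgroupOf C)] {F : G → ℂ} (hF : ∀ g, g ∉ C → F g = 0) {S : Set G}
    [DecidablePred (· ∈ S)] (hS : S ⊆ N) : ∑ᶠ x ∈ S, F x / F 1 =
      (∑ n : N.subgroupOf C, (if ((n : C) : G) ∈ S then 1 else 0) * F (n : C)) / F 1 := by
  rw [← fs_ext C (F := fun x => F x / F 1) fun g hg => by rw [hF g hg, zero_div], Finset.sum_div,
    ← finsum_eq_sum_of_fintype]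
  have e : {h : C | (h : G) ∈ S} = Subtype.val '' {n : N.subgroupOf C | ((n : C) : G) ∈ S} := by
    ext x
    exact ⟨fun hx => ⟨⟨x, hS hx⟩, hx, rfl⟩, by rintro ⟨y, hy, rfl⟩; exact hy⟩
  rw [e, finsum_mem_image Subtype.val_injective.injOn, finsum_mem_def]
  refine finsum_congr fun n => ?_
  by_cases hn : ((n : C) : G) ∈ S
  · rw [Set.indicator_of_mem (by exact hn), if_pos hn, one_mul]
  · rw [Set.indicator_of_notMem (by exact hn), if_neg hn, zero_mul, zero_div]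

variable [N.Normal]

theorem over_sum (hD : D ≤ N) (h0 : ∀ g, g ∉ N → θ g = 0) (h : Can p M b (D.subgroupOf N) fun n => θ n)
    {χ : IrrCharacter (Ce D)} (hχ : Ov (N.subgroupOf (Ce D)) χ (thL hD h)) {S : Set G} (hS : S ⊆ N)
    (hi : ∀ c ∈ Ce D, ∀ x, c * x * c⁻¹ ∈ S ↔ x ∈ S) :
    ∑ᶠ x ∈ S, extendByZero (Ce D) χ x / extendByZero (Ce D) χ 1 = ∑ᶠ x ∈ S, θ x / θ 1 := by
  classical
  have := Fintype.ofFinite (Ce D)
  have := Fintype.ofFinite (N.subgroupOf (Ce D))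
  rw [fs_L (fun g hg => Core.extendByZero_of_notMem _ _ hg) hS, fs_L (fun g hg => zero_C hD h0 h hg) hS]
  have h1 := Blocks.Over.sum_mul_eq_of_over (N.subgroupOf (Ce D)) χ.2 (thL hD h).2 ((ov_iff _ _ _).1 hχ)
    (fun n => if ((n : Ce D) : G) ∈ S then 1 else 0) fun g n => if_congr (hi g g.2 _) rfl rfl
  simp only [fun c : Ce D => Core.extendByZero_of_mem (Ce D) (χ : Ce D → ℂ) c.2,
    Core.extendByZero_of_mem (Ce D) (χ : Ce D → ℂ) (one_mem _)]
  exact h1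

theorem over_triv (hD : D ≤ N) (h0 : ∀ g, g ∉ N → θ g = 0) (h : Can p M b (D.subgroupOf N) fun n => θ n)
    {χ : IrrCharacter (Ce D)} (hχ : Ov (N.subgroupOf (Ce D)) χ (thL hD h)) {d : G} (hd : d ∈ D) :
    extendByZero (Ce D) χ d = extendByZero (Ce D) χ 1 := by
  have h1 := over_sum hD h0 h hχ (S := {d}) (Set.singleton_subset_iff.2 (hD hd)) fun c hc x => by
    rw [Set.mem_singleton_iff, Set.mem_singleton_iff, mul_inv_eq_iff_eq_mul, mem_Ce.1 hc d hd, mul_right_inj]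
  have h2 : θ d = θ 1 := h.triv ⟨d, hD hd⟩ hd
  have h3 : θ 1 ≠ 0 := fun h5 => irr_one_ne_zero (thL hD h).2 h5
  have h4 : extendByZero (Ce D) χ 1 ≠ 0 := by
    rw [Core.extendByZero_of_mem _ _ (one_mem _)]
    exact irr_one_ne_zero χ.2
  rwa [finsum_mem_singleton, finsum_mem_singleton, h2, div_self h3, div_eq_one_iff_eq h4] at h1

variable [Fact p.Prime]

/-- **the covering block** -/
theorem exists_cover [Fintype N] (hD : D ≤ N) (h0 : ∀ g, g ∉ N → θ g = 0)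
    (h : Can p M b (D.subgroupOf N) fun n => θ n) {χ : IrrCharacter (Ce D)}
    (hχ : Ov (N.subgroupOf (Ce D)) χ (thL hD h)) :
    ∃ B, IsInducedBlock M (Ce D) (blockOf M (χ : Ce D → ℂ)) B ∧ Covers N B b := by
  have := Fintype.ofFinite G
  have := isPrime_of_isPModular h.hM
  obtain ⟨B, hB⟩ := S0919.result p M h.hM D (Ce D) (pg_D hD h) (ab_D hD h) le_rfl
    (Subgroup.centralizer_le_normalizer _) _ (isPBlock_blockOf χ)
  refine ⟨B, hB, (S0965.result p M h.hM N B hB.2.1 b h.ind.2.1).2 fun χ' hχ' ψ hψ n => ?_⟩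
  have h1 := ind_sum (θ := extendByZero (Ce D) χ) (by rw [ext_coe]; exact χ.2)
    (fun g hg => Core.extendByZero_of_notMem _ _ hg) (by rw [ext_coe]; exact hB) hχ' {x | IsConj (n : G) x}
    fun x hx y hy => IsConj.trans hx hy
  rw [← cc_eq χ'.2, over_sum hD h0 h hχ (S := {x | IsConj (n : G) x}) (fun x hx => by
      obtain ⟨c, rfl⟩ := isConj_iff.1 hx
      exact Subgroup.Normal.conj_mem ‹_› _ n.2 c)
    (fun c _ x => ⟨fun hx => IsConj.trans hx (isConj_iff.2 ⟨c, rfl⟩).symm,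
      fun hx => IsConj.trans hx (isConj_iff.2 ⟨c, rfl⟩)⟩),
    ← fs_ext N (F := fun x => θ x / θ 1) fun g hg => by rw [h0 g hg, zero_div]] at h1
  exact memLocalIdeal_sub_trans (memLocalIdeal_sub_comm h1) (ind_sum h.irr h.zero h.ind hψ
    {x : N | IsConj (n : G) (x : G)} fun x hx y hy => IsConj.trans hx (N.subtype.map_isConj hy))

/-- index prime to `p`: the canonical character -/
theorem exists_can [Fintype N] (hi : ¬ p ∣ N.index) (hD : D ≤ N) (h0 : ∀ g, g ∉ N → θ g = 0)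
    (h : Can p M b (D.subgroupOf N) fun n => θ n) {χ : IrrCharacter (Ce D)}
    (hχ : Ov (N.subgroupOf (Ce D)) χ (thL hD h)) : ∃ B, Can p M B D (extendByZero (Ce D) χ) ∧ Covers N B b := by
  have := Fintype.ofFinite G
  obtain ⟨B, hB, hc⟩ := exists_cover hD h0 h hχ
  obtain ⟨P, hP, hPN⟩ := S4438.result p M h.hM N b h.ind.2.1 D hD h.hD B hB.2.1 hc
  have h1 : P ≤ N := by
    intro x hx
    obtain ⟨k, hk⟩ := isPGroup_of_isDefectGroup hP ⟨x, hx⟩
    have h2 : (QuotientGroup.mk' N x) ^ p ^ k = 1 := by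
      rw [← map_pow, show x ^ p ^ k = 1 from congrArg Subtype.val hk, map_one]
    have h3 : (QuotientGroup.mk' N x) ^ N.index = 1 := pow_card_eq_one'
    have h4 := pow_gcd_eq_one.2 ⟨h2, h3⟩
    rw [Nat.Coprime.gcd_eq_one (((Nat.Prime.coprime_iff_not_dvd Fact.out).2 hi).pow_left k), pow_one] at h4
    exact (QuotientGroup.eq_one_iff x).1 h4
  rw [inf_eq_left.2 h1] at hPN
  subst hPN
  exact ⟨B, ⟨h.hM, hP, ab_D hD h, by rw [ext_coe]; exact χ.2, by rw [ext_coe]; exact hB,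
    fun g hg => Core.extendByZero_of_notMem _ _ hg, fun d hd => over_triv hD h0 h hχ hd⟩, hc⟩

omit [Fact p.Prime] in
/-- **invariance** of the characters over `θ` -/
theorem over_inv (hc : IsCyclic (G ⧸ N)) (hD : D ≤ N) (h0 : ∀ g, g ∉ N → θ g = 0)
    (h : Can p M b (D.subgroupOf N) fun n => θ n) {η : G → ℂ} (h1 : IsIrrCharacter ↥(In D θ ⊓ N) fun x => η x)
    (h2 : ∀ c ∈ Ce D, c ∈ N → η c = θ c) (h3 : ∀ t ∈ In D θ, ∀ x ∈ In D θ, x ∈ N → η (t * x * t⁻¹) = η x)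
    {χ : IrrCharacter (Ce D)} (hχ : Ov (N.subgroupOf (Ce D)) χ (thL hD h)) :
    In D θ ≤ In D (extendByZero (Ce D) χ) := by
  intro t ht
  have hn := In_le_normalizer ht
  refine ⟨ht.1, fun c => ?_⟩
  show extendByZero (Ce D) χ (t * c * t⁻¹) = extendByZero (Ce D) χ c
  by_cases hcC : c ∈ Ce D
  swap
  · rw [Core.extendByZero_of_notMem _ _ hcC, Core.extendByZero_of_notMem _ _ fun h4 => hcC ((conj_mem_Ce hn).1 h4)]
  have := Fintype.ofFinite (Ce D)
  have := Fintype.ofFinite (N.subgroupOf (Ce D))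
  have := Fintype.ofFinite ((In D θ).subgroupOf (Ce D))
  have hT : ∀ g : Ce D, g ∈ (In D θ).subgroupOf (Ce D) ↔ ∀ n : N.subgroupOf (Ce D),
      (thL hD h : N.subgroupOf (Ce D) → ℂ) ⟨g * n * g⁻¹, Subgroup.Normal.conj_mem inferInstance _ n.2 g⟩ =
        (thL hD h : N.subgroupOf (Ce D) → ℂ) n := by
    intro g
    have hg : (g : G) ∈ Subgroup.normalizer (D : Set G) := Subgroup.centralizer_le_normalizer _ g.2
    refine ⟨fun h4 n => (mem_In.1 h4).2 _, fun h4 => mem_In.2 ⟨fun x => (Subgroup.mem_normalizer_iff.1 hg x).symm,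
      fun x => ?_⟩⟩
    show θ (g * x * (g : G)⁻¹) = θ x
    by_cases hx : x ∈ Ce D
    · by_cases hx' : x ∈ N
      · exact h4 ⟨⟨x, hx⟩, hx'⟩
      · rw [h0 x hx', h0 _ fun h5 => hx' (Subgroup.Normal.mem_comm_iff inferInstance |>.1 h5 |> fun h6 => by
          rwa [inv_mul_cancel_left] at h6)]
    · rw [zero_C hD h0 h hx, zero_C hD h0 h fun h5 => hx ((conj_mem_Ce hg).1 h5)]
  have hLT : N.subgroupOf (Ce D) ≤ (In D θ).subgroupOf (Ce D) := fun g hg =>
    (hT g).2 fun n => irr_conj (thL hD h).2 n ⟨g, hg⟩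
  obtain ⟨ψ, h4, h5, h6⟩ := CharDeep.CliffordCorr.clifford_correspondence _ _ (thL hD h).2 _ hT hLT _ χ.2
    ((ov_iff _ _ _).1 hχ)
  obtain ⟨f, h7, h8⟩ := exists_extn N (In D θ) hc h1 h3
  let j : (In D θ).subgroupOf (Ce D) →* In D θ :=
    ((Ce D).subtype.comp ((In D θ).subgroupOf (Ce D)).subtype).codRestrict (In D θ) fun x => x.2
  have h9 : (fun n : N.subgroupOf (Ce D) => f (j ⟨n, hLT n.2⟩)) = (thL hD h : N.subgroupOf (Ce D) → ℂ) :=
    funext fun n => (h8 (j ⟨n, hLT n.2⟩) n.2).trans (h2 _ n.1.2 n.2)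
  obtain ⟨l, h10, h11⟩ := tl_of_over hLT (cyc_sub N (Ce D) hc) (thL hD h).2 (ψ := fun x => f (j x))
    (irr_of_comp (Subgroup.inclusion hLT) (Core.isCharacter_comp j (irr_isCharacter h7)) (h9 ▸ (thL hD h).2)) h4
    (by rw [h9, Core.classInner_irr_self (thL hD h).2]; exact one_ne_zero) (by rw [h6]; exact (ov_iff _ _ _).1 hχ)
  let κ : MulAut (Ce D) := (Ce D).normalizerMonoidHom ⟨t, Subgroup.mem_normalizer_iff.2 fun x => (conj_mem_Ce hn).symm⟩
  have hκ : ∀ x : Ce D, ((κ x : Ce D) : G) = t * x * t⁻¹ := fun _ => rfl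
  have h12 : ∀ x : Ce D, κ x ∈ (In D θ).subgroupOf (Ce D) ↔ x ∈ (In D θ).subgroupOf (Ce D) := fun x => by
    rw [Subgroup.mem_subgroupOf, Subgroup.mem_subgroupOf, hκ, Subgroup.mul_mem_cancel_right _ (inv_mem ht),
      Subgroup.mul_mem_cancel_left _ ht]
  have h13 : ∀ x : Ce D, extendByZero _ ψ (κ x) = extendByZero _ ψ x := fun x => by
    by_cases hx : x ∈ (In D θ).subgroupOf (Ce D)
    · rw [Core.extendByZero_of_mem _ _ hx, Core.extendByZero_of_mem _ _ ((h12 x).2 hx), h11, h11]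
      congr 1
      · have h14 := h10 (⟨κ x, (h12 x).2 hx⟩ * ⟨x, hx⟩⁻¹) (Subgroup.mem_subgroupOf.2 (comm_mem N hc t x))
        rw [map_mul, map_inv, mul_inv_eq_one] at h14
        rw [h14]
      · exact irr_conj h7 (j ⟨x, hx⟩) ⟨t, ht⟩
    · rw [Core.extendByZero_of_notMem _ _ hx, Core.extendByZero_of_notMem _ _ fun h14 => hx ((h12 x).1 h14)]
  rw [Core.extendByZero_of_mem _ _ hcC, Core.extendByZero_of_mem _ _ ((conj_mem_Ce hn).2 hcC), ← h5, Core.indFun_apply,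
    Core.indFun_apply, ← Equiv.sum_comp κ.toEquiv]
  refine congrArg _ (Finset.sum_congr rfl fun x _ => ?_)
  rw [← h13 (x⁻¹ * ⟨c, hcC⟩ * x), map_mul, map_mul, map_inv]
  rfl

end Cov

open Cfsg Cov

/-- **COV2** -/
theorem boxCOV2 : BoxCOV2 := by
  intro G _ _ p _ M N _ _ hc hi b D hD θ h0 h _ η h1 h2 h3
  obtain ⟨χ, hχ⟩ := H666.Clif.exists_ov _ (thL hD h)
  obtain ⟨B, h4, h5⟩ := exists_can hi hD h0 h hχ
  exact ⟨B, _, h4, h5, over_inv hc hD h0 h h1 h2 h3 hχ⟩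

end Cfsg.Agent.TO
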