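import Cfsg.Agent.TO.Can
import Cfsg.Agent.S4714
import Cfsg.Agent.S4663
import Cfsg.Agent.S4655
import Cfsg.Agent.S4658
import Cfsg.Agent.S4687
import Cfsg.Agent.S4690
import Cfsg.Agent.S4889
import Cfsg.Agent.ODD.Red.Bas
import Cfsg.Agent.H700.PrinCrit
import Cfsg.Agent.Blocks.PPart

/-!
# S4817: the properties of the canonical character (helper65)

`Can.mul'`, `Can.van`, `Can.deg`, `Can.idx`, `Can.prin`, `Can.cent`, `Can.loc`, `Can.nil`; `boxCAN1`.
-/

set_option autoImplicit false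
set_option linter.unusedSectionVars false
set_option linter.unusedVariables false

namespace Cfsg.Agent.TO

open Cfsg Subgroup
open Cfsg.Agent.H649 Cfsg.Agent.Blocks.Basic Cfsg.Agent.Blocks.Local Cfsg.Agent.TO.Cn

universe u

variable {G : Type u} [Group G] [Finite G] {p : ℕ} [Fact p.Prime] {M : Ideal AlgInt}
  {b : Set (IrrCharacter G)} {D : Subgroup G} {θ : G → ℂ}

theorem Cn.isChar {H : Type u} [Group H] {χ : H → ℂ} (h : IsIrrCharacter H χ) : IsCharacter H χ := by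
  obtain ⟨n, ρ, -, h1⟩ := h
  exact ⟨n, ρ, h1⟩

theorem Cn.Cu_eq (u : G) : Cu u = Ce (zpowers u) := by
  ext x
  rw [mem_centralizer_singleton_iff, mem_centralizer_iff]
  constructor
  · rintro h _ ⟨k, rfl⟩
    exact ((show Commute x u from h).zpow_right k).eq.symm
  · intro h
    exact (h u (mem_zpowers u)).symm

theorem Cn.mem_Ce_sub {H : Subgroup G} (hD : D ≤ H) (x : H) : x ∈ Ce (D.subgroupOf H) ↔ (x : G) ∈ Ce D :=
  ⟨fun h => mem_centralizer_iff.2 fun d hd => congrArg Subtype.val (mem_centralizer_iff.1 h ⟨d, hD hd⟩ hd),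
    fun h => mem_centralizer_iff.2 fun d hd => Subtype.ext (mem_centralizer_iff.1 h d hd)⟩

theorem Cn.induced_center {H : Subgroup G} (ξ : H → ℂ) {z : G} (hz : z ∈ center G) (hH : z ∈ H) :
    inducedCentralChar H ξ z = ξ ⟨z, hH⟩ / ξ 1 := by
  have h : {h : H | IsConj z (h : G)} = {⟨z, hH⟩} := by
    ext x
    rw [Set.mem_ofPred_eq, Set.mem_singleton_iff, isConj_iff]
    constructor
    · rintro ⟨c, hc⟩
      refine Subtype.ext ?_
      rw [← hc, mem_center_iff.1 hz c, mul_inv_cancel_right]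
    · rintro rfl
      exact ⟨1, by simp⟩
  rw [inducedCentralChar, h, finsum_mem_singleton]

theorem Cn.central_center (χ : G → ℂ) {z : G} (hz : z ∈ center G) : centralChar χ z = χ z / χ 1 := by
  have h : centralizer ({z} : Set G) = ⊤ :=
    eq_top_iff.2 fun g _ => mem_centralizer_singleton_iff.2 (mem_center_iff.1 hz g)
  rw [centralChar, h, index_top, Nat.cast_one, one_mul]

namespace Can

theorem mul' (h : Can p M b D θ) {d : G} (hd : d ∈ D) (g : G) : θ (d * g) = θ g := by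
  by_cases hg : g ∈ Ce D
  · exact Cfsg.Agent.ODD.Red.apply_mul_of_ker (χ := fun c : Ce D => θ c)
      (isChar h.irr) (z := ⟨d, h.ab hd⟩) (h.triv d hd) ⟨g, hg⟩
  · rw [h.zero g hg, h.zero _ fun h1 => hg ((mul_mem_cancel_left (h.ab hd)).1 h1)]

theorem van (h : Can p M b D θ) {g x : G} (h1 : IsPPart p g x) (hx : x ∉ D) : θ g = 0 := by
  by_cases hg : g ∈ Ce D
  · obtain ⟨ζ, -, h2⟩ := ((Cfsg.Agent.S4714.result p M h.hM _ h.pg.comap_subtype (sup_cent_eq_top h.ab) _ h.he h.hdef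
      h.chr h.chr_mem fun y hy => h.triv y hy).1 h.chr).1 h.chr_mem
    refine h2 ⟨g, hg⟩ fun y hy hD => hx ?_
    obtain ⟨y', k1, k2, ⟨k, k3⟩, k4⟩ := hy
    have k5 : IsPPart p g (y : G) := ⟨(y' : G), congrArg Subtype.val k1, congrArg Subtype.val k2.eq,
      ⟨k, by rw [orderOf_coe, k3]⟩, by rwa [orderOf_coe]⟩
    rw [Cfsg.Agent.Blocks.PPart.isPPart_unique h1 k5]
    exact hD
  · exact h.zero g hg

theorem deg (h : Can p M b D θ) : (charDegree θ).factorization p = (D.relIndex (Ce D)).factorization p :=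
  (Cfsg.Agent.S0968.result p M h.hM _ h.pg.comap_subtype (sup_cent_eq_top h.ab) _ h.he h.hdef).2.1 h.chr h.chr_mem
    fun y hy => h.triv y hy

theorem idx (h : Can p M b D θ) : ¬ p ∣ (Ce D).relIndex (In D θ) := by
  have := h.prime
  have h1 := Cfsg.Agent.H641.not_dvd_relIndex h.hM h.hmax
  rwa [← Cfsg.Agent.H641.eq_pairStab h.hM h.he h.mem_In_iff, sup_eq_right.2 h.ab] at h1

theorem prin (h : Can p M b D θ) (h1 : ∀ c ∈ Ce D, θ c = 1) : (fun _ => (1 : ℂ)) ∈ Fn b := by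
  have := h.prime
  have := Fintype.ofFinite G
  have h2 : root M D θ = principalBlock M (Ce D) := congrArg (blockOf M) (funext fun c => h1 c c.2)
  have h3 := (Cfsg.Agent.S4663.result p M h.hM D h.pg _ h.he).2 h2
  have h4 := Cfsg.Agent.H648.Dict.isInducedBlock_unique h.ind
    ((isBrauerPairOf_iff_isInducedBlock h.hM h3.2.1 h.pg h.he).1 h3)
  rw [h4]
  exact ⟨⟨_, isIrrCharacter_one⟩, mem_blockOf_self ⟨_, isIrrCharacter_one⟩, rfl⟩

theorem cent (h : Can p M b D θ) {z : G} (hz : z ∈ center G) (hr : IsPRegular p z) {χ : G → ℂ} (hχ : χ ∈ Fn b) (g : G) :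
    θ (z * g) * χ 1 = χ z * θ g := by
  have := h.prime
  obtain ⟨χ, hχ, rfl⟩ := hχ
  have hzC : z ∈ Ce D := mem_centralizer_iff.2 fun d _ => mem_center_iff.1 hz d
  by_cases hg : g ∈ Ce D
  · obtain ⟨c, c1, c2, -⟩ := Cfsg.Agent.ODD.Red.exists_central h.irr (z := ⟨z, hzC⟩)
      (mem_center_iff.2 fun y => Subtype.ext (mem_center_iff.1 hz y))
    obtain ⟨a, a1, a2, -⟩ := Cfsg.Agent.ODD.Red.exists_central χ.2 hz
    have c3 : c ^ orderOf z = 1 := c2 _ (Subtype.ext (pow_orderOf_eq_one z))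
    have a3 : a ^ orderOf z = 1 := a2 _ (pow_orderOf_eq_one z)
    have h0 : 0 < orderOf z := orderOf_pos z
    have a4 : a * a ^ (orderOf z - 1) = 1 := by rw [← pow_succ', Nat.sub_add_cancel h0, a3]
    have c4 : θ z = c * θ 1 := by
      have h1 := c1 1
      rwa [mul_one] at h1
    have a5 : (χ : G → ℂ) z = a * (χ : G → ℂ) 1 := by
      have h1 := a1 1
      rwa [mul_one] at h1
    have h1 := h.ind.2.2 h.chr h.chr_mem χ hχ z
    rw [induced_center _ hz hzC, central_center _ hz, a5, mul_div_assoc,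
      div_self (Cfsg.Agent.Characters.Core.isIrr_apply_one_ne_zero χ.2), mul_one] at h1
    have h2 : (h.chr : Ce D → ℂ) ⟨z, hzC⟩ / (h.chr : Ce D → ℂ) 1 = c := by
      show θ z / θ 1 = c
      rw [c4, mul_div_assoc, div_self h.one_ne, mul_one]
    rw [h2] at h1
    have h3 : MemLocalRing M a := memLocalRing_of_isIntegral
      ⟨Polynomial.X ^ orderOf z - 1, Polynomial.monic_X_pow_sub_C 1 h0.ne', by simp [a3]⟩
    have h4 := memLocalIdeal_mul_right h1 (memLocalRing_pow h3 (orderOf z - 1))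
    rw [sub_mul, a4] at h4
    have h5 := Cfsg.Agent.H700.PrinCrit.eq_one_of_sub_mem h.hM hr (by
      rw [mul_pow, c3, ← pow_mul, mul_comm (orderOf z - 1), pow_mul, a3, one_pow, one_mul]) h4
    have h6 : c = a := by linear_combination a * h5 - c * a4
    have h7 : θ (z * g) = c * θ g := c1 ⟨g, hg⟩
    rw [h7, a5, h6]
    ring
  · rw [h.zero g hg, h.zero _ fun h1 => hg ((mul_mem_cancel_left hzC).1 h1), zero_mul, mul_zero]

/-- the local block on the centralizer of a subgroup of `D` -/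
theorem loc' (h : Can p M b D θ) {Q : Subgroup G} (hQ : Q ≤ D) {H : Subgroup G} (hH : H = Ce Q) :
    ∃ c : Set (IrrCharacter H), IsInducedBlock M H c b ∧ Can p M c (D.subgroupOf H) (fun x => θ x) := by
  subst hH
  have := h.prime
  have := Fintype.ofFinite G
  have hDQ : D ≤ Ce Q := fun d hd => mem_centralizer_iff.2 fun q hq => h.comm q (hQ hq) d hd
  obtain ⟨f, ⟨f1, f2⟩, -⟩ := Cfsg.Agent.S4655.result p M h.hM D Q _ h.hmax.1.1 hQ
  have f3 := (Cfsg.Agent.S4658.result p M h.hM D Q _ f h.hmax.1.1 ⟨h.pg.to_le hQ, f1⟩ f2 b h.hb).1 h.hmax.1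
  obtain ⟨k, k1, k2⟩ := exists_locIdx_eq h.hM h.hmax.1.1 hDQ f2
  refine ⟨f, (isBrauerPairOf_iff_isInducedBlock h.hM h.hb f3.1.1 f1).1 f3, (of_tst h.hM k1
    (Cfsg.Agent.H644.isDefectGroup_of_isMaximalBrauerPair h.hM (isMaximal_local h.hM h.hmax hDQ f2 k1))
    (fun d hd => (mem_Ce_sub hDQ d).2 (h.ab hd)) ?_ (fun d hd => h.triv d hd) fun g hg => ?_).1⟩
  · rw [← locIdx_test, k2]
    exact h.tst
  · exact h.zero _ fun h1 => hg ((mem_Ce_sub hDQ g).2 h1)

theorem loc (h : Can p M b D θ) {u : G} (hu : u ∈ D) :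
    ∃ c : Set (IrrCharacter (Cu u)), IsInducedBlock M (Cu u) c b ∧ Can p M c (D.subgroupOf (Cu u)) (fun x => θ x) :=
  h.loc' ((zpowers_le).2 hu) (Cu_eq u)

theorem nilp (h : Can p M b D θ) (h1 : In D θ ≤ Ce D) : IsNilpotentBlock p M b := by
  have := Fintype.ofFinite G
  exact (Cfsg.Agent.S4687.result p M h.hM b D _ h.hmax h.comm).2 fun x h2 h3 => h1 ((h.mem_In_iff x).2 ⟨h2, h3⟩)

theorem nil (h : Can p M b D θ) (h1 : In D θ ≤ Ce D) {χ ψ : G → ℂ} (hχ : χ ∈ Fn b) (hψ : ψ ∈ Fn b) : χ 1 = ψ 1 := by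
  have := Fintype.ofFinite G
  have h2 := h.nilp h1
  have hc : ∀ x y : D, x * y = y * x := fun x y => Subtype.ext (h.comm x x.2 y y.2)
  obtain ⟨Φ, hΦ⟩ := Cfsg.Agent.S4690.result p M h.hM b h2 D h.hD
  obtain ⟨d, hd⟩ := (Cfsg.Agent.S4889.result p M h.hM b h.hb D h.hD ⟨⟨hc⟩⟩ fun ξ hξ => by
    have h3 := hΦ ⟨ξ, hξ⟩
    rw [charDegree, Cfsg.Agent.Characters.CCBasic.irr_apply_one_of_comm hc (Φ ⟨ξ, hξ⟩).2] at h3
    simpa using h3).2 h2
  have key : ∀ ξ ∈ b, (ξ : G → ℂ) 1 = d := fun ξ hξ => by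
    obtain ⟨n, -, hn⟩ := Cfsg.Agent.Characters.Core.isIrr_apply_one ξ.2
    have h3 := hd ξ hξ
    rw [charDegree, hn] at h3
    rw [hn, ← h3]
    simp
  obtain ⟨χ, hχ, rfl⟩ := hχ
  obtain ⟨ψ, hψ, rfl⟩ := hψ
  rw [key χ hχ, key ψ hψ]

end Can

/-- **[CAN1]** -/
theorem boxCAN1 : BoxCAN1 := fun G _ _ p _ M b D θ h =>
  { mul := fun _ hd g => h.mul' hd g
    van := fun _ _ h1 h2 => h.van h1 h2
    deg := h.deg
    le := h.le_Stab
    frat := fun _ hα => h.frat hα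
    idx := h.idx
    prin := h.prin
    cent := fun _ hz hr _ hχ g => h.cent hz hr hχ g
    loc := fun _ hu => h.loc hu
    nil := fun h1 _ hχ _ hψ => h.nil h1 hχ hψ }

end Cfsg.Agent.TO
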