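import Cfsg.Agent.TO.CovC
import Cfsg.Agent.S0906
import Cfsg.Agent.S0908
import Cfsg.Agent.S0917
import Cfsg.Agent.S0966
import Cfsg.Agent.S0970
import Cfsg.Agent.S4640
import Cfsg.Agent.Blocks.PPart

/-!
# S4817: the box DA (helper77)

* `Cov.ext_p` : cyclic extensions of `p`-power index; `Cov.exists_frame` : the group `G ⋊ ⟨α⟩`;
* `boxDA`.
-/

set_option autoImplicit false

namespace Cfsg.Agent.TO

namespace Cov

open Cfsg Cfsg.Agent.Blocks.Basic Cfsg.Agent.Blocks.Local Cfsg.Agent.Characters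
open Cfsg.Agent.H666.Clif (tl tl_apply Ov ov_iff exists_tl)

section

variable {G : Type*} [Group G] [Finite G] {p : ℕ} [Fact p.Prime] {M : Ideal AlgInt} {N : Subgroup G}
  {b : Set (IrrCharacter N)} {D : Subgroup G} {θ : G → ℂ}

omit [Finite G] [Fact p.Prime] in
theorem le_defect {B : Set (IrrCharacter G)} {E U : Subgroup G} (hE : IsDefectGroup p M B E) (hU : IsPGroup p U)
    (hZ : U ≤ Subgroup.center G) : U ≤ E := by
  obtain ⟨g, -, h1⟩ := isDefectGroup_iff.1 hE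
  obtain ⟨h2, h3, h4⟩ := (isSylowCentralizer_iff p g E).1 h1
  have : U.Normal := ⟨fun d hd x => by rwa [Subgroup.mem_center_iff.1 (hZ hd) x, mul_inv_cancel_right]⟩
  rw [← h4 (E ⊔ U) (h2.to_sup_of_normal_right hU) (sup_le h3 (hZ.trans (Subgroup.center_le_centralizer _))) le_sup_left]
  exact le_sup_right

omit [Finite G] [Fact p.Prime] in
theorem card_C [N.Normal] (hD : D ≤ N) (h : Can p M b (D.subgroupOf N) fun n => θ n) (hNC : N ⊔ Ce D = ⊤) :
    Nat.card (Ce D) = Nat.card (D.subgroupOf N) * (D.subgroupOf N).relIndex (Ce (D.subgroupOf N)) * N.index := by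
  have h1 : Nat.card (N.subgroupOf (Ce D)) = Nat.card (Ce (D.subgroupOf N)) :=
    Nat.card_congr ⟨fun x => ⟨⟨x.1, x.2⟩, (mem_Ce_sub hD).2 x.1.2⟩, fun y => ⟨⟨y.1, (mem_Ce_sub hD).1 y.2⟩, y.1.2⟩,
      fun _ => rfl, fun _ => rfl⟩
  have h2 : (N.subgroupOf (Ce D)).index = N.index := by
    rw [← N.relIndex_top_right, ← hNC, Subgroup.relIndex_sup_left]
    rfl
  rw [← (N.subgroupOf (Ce D)).card_mul_index, h1, h2, ← ((D.subgroupOf N).subgroupOf (Ce (D.subgroupOf N))).card_mul_index,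
    Nat.card_congr (Subgroup.subgroupOfEquivOfLe h.ab).toEquiv]
  rfl

/-- **`p`-power index**: every member of the block extends -/
theorem ext_p [hN : N.Normal] (hc : IsCyclic (G ⧸ N)) {k : ℕ} (hi : N.index = p ^ k) (hD : D ≤ N)
    (h0 : ∀ g, g ∉ N → θ g = 0) (h : Can p M b (D.subgroupOf N) fun n => θ n) (hNC : N ⊔ Ce D = ⊤)
    (hC : Ce D ≤ In D θ) {ψ : IrrCharacter N} (hψ : ψ ∈ b) :
    ∃ χ : IrrCharacter G, ∀ n : N, (χ : G → ℂ) n = (ψ : N → ℂ) n := by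
  have := Fintype.ofFinite G
  have := Fintype.ofFinite N
  have := h.prime
  have hp : p.Prime := Fact.out
  have hs := stab_top h (top_le_iff.1 (hNC ▸ sup_le_sup_left hC N))
  obtain ⟨χ, hχ⟩ := H666.Clif.exists_ov _ (thL hD h)
  have h1 : (χ : Ce D → ℂ) 1 = θ 1 :=
    res_of_inv _ (cyc_sub N (Ce D) hc) hχ (fun g n => (mem_In.1 (hC g.2)).2 _) 1
  obtain ⟨B, hB, hcov⟩ := exists_cover hD h0 h hχ
  obtain ⟨g, hg⟩ := S0906.result p M h.hM _ hB.1
  obtain ⟨E, hE0, -⟩ := exists_isSylowCentralizer (p := p) (g := g) IsPGroup.of_bot bot_le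
  have hE : IsDefectGroup p M (blockOf M (χ : Ce D → ℂ)) E := isDefectGroup_iff.2 ⟨g, hg, hE0⟩
  obtain ⟨P, hP, hEP⟩ := S0917.result p M h.hM (Ce D) _ hB.1 B hB.2.1 hB E hE
  obtain ⟨-, h2, h3⟩ := S0970.result p M h.hM N b h.hb (fun g ξ hξ ξ' e => by
      rw [← mem_Fn, show (ξ' : N → ℂ) = (ξ : N → ℂ) ∘ MulAut.conjNormal g from funext e]
      exact (hs g _).2 (mem_Fn.2 hξ)) B hB.2.1 hcov (fun B' hB' hc' => by
      rw [(S0966.result p M h.hM N ⟨k, hi⟩ b h.hb).unique ⟨hB', hc'⟩ ⟨hB.2.1, hcov⟩]) P hP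
  have h4 := S0908.result p M h.hM b h.hb _ h.hD
  have h5 : (charDegree (χ : Ce D → ℂ)).factorization p =
      ((D.subgroupOf N).relIndex (Ce (D.subgroupOf N))).factorization p := by
    rw [charDegree_def, h1]
    exact (S0968.result p M h.hM _ h.pg.comap_subtype (Cn.sup_cent_eq_top h.ab) _ h.he h.hdef).2.1 h.chr h.chr_mem
      fun y hy => h.triv y hy
  have h6 : blockDefect p B ≤ blockDefect p (blockOf M (χ : Ce D → ℂ)) := by
    have h7 : sInf ((fun ξ : IrrCharacter (Ce D) => (charDegree (ξ : Ce D → ℂ)).factorization p) ''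
        blockOf M (χ : Ce D → ℂ)) ≤ _ := Nat.sInf_le ⟨χ, mem_blockOf_self χ, h5⟩
    have h8 : (D.subgroupOf N).relIndex (Ce (D.subgroupOf N)) ≠ 0 := Subgroup.index_ne_zero_of_finite
    rw [h3, blockDefect_def p (blockOf M (χ : Ce D → ℂ)), card_C hD h hNC, h4, Nat.factorization_mul
      (mul_ne_zero (pow_ne_zero _ hp.ne_zero) h8) Subgroup.index_ne_zero_of_finite,
      Nat.factorization_mul (pow_ne_zero _ hp.ne_zero) h8, Finsupp.add_apply, Finsupp.add_apply,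
      Nat.factorization_pow_self hp]
    omega
  have h7 : E.map (Ce D).subtype = P := Subgroup.eq_of_le_of_card_ge hEP (by
    rw [Subgroup.card_map_of_injective (Ce D).subtype_injective, S0908.result p M h.hM _ hB.1 E hE,
      S0908.result p M h.hM _ hB.2.1 P hP]
    exact Nat.pow_le_pow_right hp.pos h6)
  have h8 : P ≤ Ce D := h7 ▸ Subgroup.map_subtype_le E
  have h9 : D ≤ P := fun d hd => h7 ▸ ⟨⟨d, ab_D hD h hd⟩, le_defect hE (U := D.subgroupOf (Ce D)) (pg_D hD h).comap_subtype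
    (fun x hx => Subgroup.mem_center_iff.2 fun y => Subtype.ext (mem_Ce.1 y.2 x hx).symm) hd, rfl⟩
  have h10 : D.subgroupOf N = (P ⊓ N).subgroupOf N := Subgroup.eq_of_le_of_card_ge
    (Subgroup.subgroupOf_mono N (le_inf h9 hD)) (by rw [h4, S0908.result p M h.hM b h.hb _ h2])
  have h11 := ((QuotientGroup.mk' N).comp P.subtype).isMulCommutative_of_isCyclic_of_ker_le_center fun x hx => by
    have h12 : (x : G) ∈ N := (QuotientGroup.eq_one_iff _).1 hx
    have h13 : (⟨x, h12⟩ : N) ∈ D.subgroupOf N := h10 ▸ ⟨x.2, h12⟩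
    exact Subgroup.mem_center_iff.2 fun y => Subtype.ext (mem_Ce.1 (h8 y.2) x h13).symm
  obtain ⟨-, -, -, h12, -⟩ := S4640.result p M h.hM N ⟨k, hi⟩ b h.hb (fun g => ⟨by
      rw [Subgroup.normalizer_eq_top]; exact Subgroup.mem_top g, fun ξ hξ => by
      obtain ⟨ξ', h13, h14⟩ := (hs g⁻¹ _).2 (mem_Fn.2 hξ)
      refine ⟨ξ', h13, fun x y e => ?_⟩
      rw [h14]
      exact congrArg (ξ : N → ℂ) (Subtype.ext ((MulAut.conjNormal_apply g⁻¹ y).trans (by rw [e]; group)))⟩) B hB.2.1 hcov P hP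
    fun x hx y hy => congrArg Subtype.val (h11.is_comm.comm (⟨x, hx⟩ : P) ⟨y, hy⟩)
  obtain ⟨⟨χ', -, h13⟩⟩ := (Nat.card_ne_zero.1 ((h12 ψ hψ).trans_ne Subgroup.index_ne_zero_of_finite)).1
  exact ⟨χ', h13⟩

end

/-- the group `G ⋊ ⟨α⟩` -/
theorem exists_frame {G : Type} [Group G] [Finite G] (α : MulAut G) :
    ∃ (H : Type) (_ : Group H) (_ : Finite H) (N : Subgroup H) (_ : N.Normal) (e : G ≃* N) (a : H),
      (∀ g, a * (e g : H) * a⁻¹ = e (α g)) ∧ (∀ x : H, ∃ (g : G) (k : ℕ), x = e g * a ^ k) ∧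
        N.index = orderOf α ∧ IsCyclic (H ⧸ N) := by
  let H := G ⋊[(Subgroup.zpowers α).subtype] Subgroup.zpowers α
  have hr := SemidirectProduct.range_inl_eq_ker_rightHom (φ := (Subgroup.zpowers α).subtype)
  have hn : (SemidirectProduct.inl : G →* H).range.Normal := hr ▸ inferInstance
  have h1 : ∀ x : H, ∃ (g : G) (k : ℕ), x = SemidirectProduct.inl g *
      (SemidirectProduct.inr ⟨α, Subgroup.mem_zpowers α⟩ : H) ^ k := by
    intro x
    obtain ⟨k, hk⟩ := mem_powers_iff_mem_zpowers.2 x.right.2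
    refine ⟨x.left, k, ?_⟩
    rw [← map_pow, show (⟨α, Subgroup.mem_zpowers α⟩ : Subgroup.zpowers α) ^ k = x.right from Subtype.ext hk,
      SemidirectProduct.inl_left_mul_inr_right]
  refine ⟨H, inferInstance, Finite.of_equiv _ SemidirectProduct.equivProd.symm, _, hn,
    MonoidHom.ofInjective SemidirectProduct.inl_injective, SemidirectProduct.inr ⟨α, Subgroup.mem_zpowers α⟩,
    fun g => ?_, h1, ?_, ⟨QuotientGroup.mk (SemidirectProduct.inr ⟨α, Subgroup.mem_zpowers α⟩), fun y => ?_⟩⟩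
  · rw [← map_inv]
    exact (SemidirectProduct.inl_aut _ g).symm
  · rw [hr, Subgroup.index_ker, MonoidHom.range_eq_top.2 SemidirectProduct.rightHom_surjective, Subgroup.card_top,
      Nat.card_zpowers]
  · obtain ⟨x, rfl⟩ := QuotientGroup.mk_surjective y
    obtain ⟨g, k, rfl⟩ := h1 x
    refine ⟨k, ?_⟩
    show _ ^ (k : ℤ) = _
    rw [zpow_natCast, QuotientGroup.mk_mul, (QuotientGroup.eq_one_iff _).2 (MonoidHom.mem_range.2 ⟨g, rfl⟩), one_mul, QuotientGroup.mk_pow]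

section

variable {G : Type*} [Group G] {D : Subgroup G} {θ η : G → ℂ}

theorem conj_mem_iff (N : Subgroup G) [hN : N.Normal] (t y : G) : t * y * t⁻¹ ∈ N ↔ y ∈ N :=
  ⟨fun h => by
    have h1 := hN.conj_mem _ h t⁻¹
    rwa [show t⁻¹ * (t * y * t⁻¹) * t⁻¹⁻¹ = y by group] at h1, fun h => hN.conj_mem y h t⟩

theorem LA_In {α : MulAut G} (h : α ∈ LA D θ) {t : G} (ht : t ∈ In D θ) : α t ∈ In D θ := by
  have e : MulAut.conj (α t) = α * MulAut.conj t * α⁻¹ := MulEquiv.ext fun x => by simp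
  rw [In, Subgroup.mem_comap, e]
  exact mul_mem (mul_mem h ht) (inv_mem h)

theorem mem_LA_of {α : MulAut G} (h1 : ∀ d ∈ D, α d = d) (h2 : ∀ g, θ (α g) = θ g) : α ∈ LA D θ :=
  ⟨fun x => ⟨fun h => by rwa [α.injective (h1 _ h)] at h, fun h => by rwa [h1 x h]⟩, h2⟩

theorem hyp_pow {α : MulAut G} (h1 : ∀ d ∈ D, α d = d) (h2 : ∀ g, θ (α g) = θ g) (h3 : ∀ x ∈ In D θ, η (α x) = η x)
    (k : ℕ) : (∀ d ∈ D, (α ^ k) d = d) ∧ (∀ g, θ ((α ^ k) g) = θ g) ∧ ∀ x ∈ In D θ, η ((α ^ k) x) = η x := by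
  induction k with
  | zero => exact ⟨fun _ _ => rfl, fun _ => rfl, fun _ _ => rfl⟩
  | succ k ih =>
    simp only [pow_succ, MulAut.mul_apply]
    exact ⟨fun d hd => by rw [h1 d hd, ih.1 d hd], fun g => by rw [ih.2.1, h2],
      fun x hx => by rw [ih.2.2 _ (LA_In (mem_LA_of h1 h2) hx), h3 x hx]⟩

end

theorem da_one {G : Type} [Group G] [Finite G] {p : ℕ} [Fact p.Prime] {M : Ideal AlgInt} {b : Set (IrrCharacter G)}
    {D : Subgroup G} {θ η : G → ℂ} (h : Can p M b D θ) (hη : Ext D θ (In D θ) η) {α : MulAut G}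
    (h1 : ∀ d ∈ D, α d = d) (h2 : ∀ g, θ (α g) = θ g) (h3 : ∀ x ∈ In D θ, η (α x) = η x)
    (ho : ¬ p ∣ orderOf α ∨ ∃ k, orderOf α = p ^ k) {χ : IrrCharacter G} (hχ : χ ∈ b) : (χ : G → ℂ) ∘ α = χ := by
  obtain ⟨H, _, _, N, _, e, a, ha, hx, hi, hc⟩ := exists_frame α
  have := Fintype.ofFinite N
  let i : G →* H := N.subtype.comp e.toMonoidHom
  have hinj : Function.Injective i := N.subtype_injective.comp e.injective
  have hN : ∀ x ∈ N, ∃ g, i g = x := fun x hx => ⟨e.symm ⟨x, hx⟩, congrArg Subtype.val (e.apply_symm_apply _)⟩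
  have hiN : ∀ g, i g ∈ N := fun g => (e g).2
  have hex : ∀ (f : G → ℂ) (g : G), extendByZero N (fun n => f (e.symm n)) (i g) = f g := fun f g =>
    (Core.extendByZero_of_mem N _ (hiN g)).trans (congrArg f (e.symm_apply_apply g))
  obtain ⟨θ', hθ'⟩ : ∃ θ', θ' = extendByZero N fun n => θ (e.symm n) := ⟨_, rfl⟩
  have e0 : ∀ x, x ∉ N → θ' x = 0 := fun x hx => hθ' ▸ Core.extendByZero_of_notMem _ _ hx
  have e1 : ∀ g, θ' (i g) = θ g := fun g => hθ' ▸ hex θ g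
  have hD : D.map i ≤ N := by
    rintro _ ⟨d, -, rfl⟩
    exact hiN d
  have h' : Can p M (H649.blkMap e b) ((D.map i).subgroupOf N) fun n => θ' n := by
    have e2 : (D.map i).subgroupOf N = D.map e.toMonoidHom := by
      rw [← Subgroup.map_map]
      exact Subgroup.comap_map_eq_self_of_injective N.subtype_injective _
    rw [e2, hθ', ext_coe]
    exact can_map e h
  have hak : ∀ (k : ℕ) (g : G), a ^ k * i g * (a ^ k)⁻¹ = i ((α ^ k) g) := by
    intro k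
    induction k with
    | zero => intro g; rw [pow_zero, pow_zero, one_mul, inv_one, mul_one, MulAut.one_apply]
    | succ k ih =>
      intro g
      rw [pow_succ α, MulAut.mul_apply, ← ih, show i (α g) = a * i g * a⁻¹ from (ha g).symm, pow_succ]
      group
  have haC : a ∈ Ce (D.map i) := mem_Ce.2 (by
    rintro _ ⟨d, hd, rfl⟩
    have h4 : a * i d * a⁻¹ = i (α d) := ha d
    rw [h1 d hd, mul_inv_eq_iff_eq_mul] at h4
    exact h4.symm)
  have haI : a ∈ In (D.map i) θ' := by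
    refine mem_In.2 ⟨fun x => (Subgroup.mem_normalizer_iff.1 (Subgroup.centralizer_le_normalizer _ haC) x).symm,
      fun x => ?_⟩
    by_cases h4 : x ∈ N
    · obtain ⟨g, rfl⟩ := hN x h4
      rw [show a * i g * a⁻¹ = i (α g) from ha g, e1, e1, h2]
    · rw [e0 x h4, e0 _ fun h5 => h4 ((conj_mem_iff N a x).1 h5)]
  have hI : ∀ g, i g ∈ In (D.map i) θ' ↔ g ∈ In D θ := by
    intro g
    have h4 : ∀ x, i g * i x * (i g)⁻¹ = i (g * x * g⁻¹) := fun x => by rw [map_mul, map_mul, map_inv]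
    rw [mem_In, mem_In]
    refine ⟨fun h5 => ⟨fun x => ?_, fun x => ?_⟩, fun h5 => ⟨fun y => ?_, fun y => ?_⟩⟩
    · rw [← Subgroup.mem_map_iff_mem hinj, ← h4, h5.1, Subgroup.mem_map_iff_mem hinj]
    · rw [← e1, ← h4, h5.2, e1]
    · by_cases h6 : y ∈ N
      · obtain ⟨x, rfl⟩ := hN y h6
        rw [h4, Subgroup.mem_map_iff_mem hinj, Subgroup.mem_map_iff_mem hinj, h5.1]
      · exact ⟨fun h7 => absurd ((conj_mem_iff N _ y).1 (hD h7)) h6, fun h7 => absurd (hD h7) h6⟩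
    · by_cases h6 : y ∈ N
      · obtain ⟨x, rfl⟩ := hN y h6
        rw [h4, e1, e1, h5.2]
      · rw [e0 y h6, e0 _ fun h7 => h6 ((conj_mem_iff N _ y).1 h7)]
  have hNC : N ⊔ Ce (D.map i) = ⊤ := top_le_iff.1 fun x _ => by
    obtain ⟨g, k, rfl⟩ := hx x
    exact Subgroup.mul_mem_sup (e g).2 (pow_mem haC k)
  have hC : Ce (D.map i) ≤ In (D.map i) θ' := fun x h4 => by
    obtain ⟨g, k, rfl⟩ := hx x
    exact mul_mem ((hI g).2 (ce_le_In h ((mem_Ce_map i hinj).1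
      ((Subgroup.mul_mem_cancel_right _ (pow_mem haC k)).1 h4)))) (pow_mem haI k)
  have key : ∃ χ' : H → ℂ, IsIrrCharacter H χ' ∧ ∀ n : N, χ' n = (H649.irrMap e χ : N → ℂ) n := by
    rcases ho with ho | ⟨k, ho⟩
    · obtain ⟨B, θ'', h4, h5, -, -, -, h6⟩ := boxCOV' H p M N hc (hi ▸ ho) _ _ hD θ' e0 h'
        (top_le_iff.1 (hNC ▸ sup_le_sup_left hC N)) hC (extendByZero N fun n => η (e.symm n)) (by
          have e2 : (fun x : ↥(In (D.map i) θ' ⊓ N) => extendByZero N (fun n => η (e.symm n)) x) =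
              fun x : ↥(In (D.map i) θ' ⊓ N) => η (e.symm ⟨x, x.2.2⟩) :=
            funext fun x => Core.extendByZero_of_mem N _ x.2.2
          rw [e2]
          exact Core.isIrr_comp ((e.symm.toMonoidHom.comp (Subgroup.inclusion inf_le_right)).codRestrict (In D θ)
            fun x : ↥(In (D.map i) θ' ⊓ N) => (hI (e.symm ⟨x, x.2.2⟩)).1 (by
              rw [show i _ = x from congrArg Subtype.val (e.apply_symm_apply ⟨x, x.2.2⟩)]
              exact x.2.1))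
            (fun y => ⟨⟨i y, (hI y).2 y.2, hiN y⟩, Subtype.ext (e.symm_apply_apply y)⟩) hη.irr)
        (fun c h4 h5 => by
          obtain ⟨g, rfl⟩ := hN c h5
          rw [hex, e1, hη.ext g ((mem_Ce_map i hinj).1 h4)])
        (fun t h4 x h5 h6 => by
          obtain ⟨g, k, rfl⟩ := hx t
          obtain ⟨y, rfl⟩ := hN x h6
          have h7 := (hI g).1 ((Subgroup.mul_mem_cancel_right _ (pow_mem haI k)).1 h4)
          have h8 := (hI y).1 h5
          obtain ⟨h9, h10, h11⟩ := hyp_pow h1 h2 h3 k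
          rw [show (e g : H) * a ^ k * i y * ((e g : H) * a ^ k)⁻¹ = i (g * (α ^ k) y * g⁻¹) by
            rw [map_mul, map_mul, map_inv, ← hak, show (e g : H) = i g from rfl]; group, hex, hex, ← h11 y h8]
          exact irr_conj hη.irr ⟨_, LA_In (mem_LA_of h9 h10) h8⟩ ⟨g, h7⟩)
      obtain ⟨_, ⟨⟨χ', -, rfl⟩, h7⟩, -⟩ := (h6 hNC B h4.hb h5).2.2 _ (mem_Fn.2 (H649.irrMap_mem_blkMap.2 hχ))
      exact ⟨χ', χ'.2, congrFun h7⟩
    · obtain ⟨χ', h4⟩ := ext_p hc (hi.trans ho) hD e0 h' hNC hC (H649.irrMap_mem_blkMap.2 hχ)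
      exact ⟨χ', χ'.2, h4⟩
  obtain ⟨χ', h4, h5⟩ := key
  funext g
  rw [Function.comp_apply, ← H649.irrMap_apply' e, ← H649.irrMap_apply' e, ← h5, ← h5, ← ha, irr_conj h4]

end Cov

open Cfsg Cov

/-- **DA** -/
theorem boxDA : BoxDA := by
  rintro G _ _ p _ M b D θ η h hη α h1 h2 h3 _ ⟨χ, hχ, rfl⟩
  obtain ⟨x, hx⟩ := Blocks.PPart.exists_isPPart p α
  obtain ⟨n, hn⟩ := Blocks.PPart.exists_pow_eq (G := MulAut G) p
  have e1 := hn α x hx
  obtain ⟨y, e, -, h4, h5⟩ := hx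
  obtain ⟨m, e2⟩ : y ∈ Submonoid.powers α := mem_powers_iff_mem_zpowers.2 (by
    rw [eq_inv_mul_of_mul_eq e, ← e1]
    exact mul_mem (inv_mem (Subgroup.npow_mem_zpowers α n)) (Subgroup.mem_zpowers α))
  obtain ⟨a1, a2, a3⟩ := hyp_pow h1 h2 h3 n
  obtain ⟨b1, b2, b3⟩ := hyp_pow h1 h2 h3 m
  rw [e1] at a1 a2 a3
  rw [show α ^ m = y from e2] at b1 b2 b3
  rw [← e, MulAut.coe_mul, ← Function.comp_assoc, da_one h hη a1 a2 a3 (Or.inr h4) hχ,
    da_one h hη b1 b2 b3 (Or.inl h5) hχ]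

end Cfsg.Agent.TO
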