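import Cfsg.Agent.TO.RedA
import Cfsg.Agent.S0967
import Cfsg.Agent.H591.QuotDefect
import Cfsg.Agent.CharactersDeep.Extraspecial

/-!
# S4817: the reduction to the rows (helper3)

* `Two.push` : (H) passes along a surjection; `exists_defl` : blocks of `G / N`, `N` a `p'`-subgroup of the kernel;
* `boxRED`.
-/

set_option autoImplicit false

namespace Cfsg.Agent.TO

open Cfsg
open Cfsg.Agent.BHZ.Nil
open Cfsg.Agent.Blocks
open scoped ComplexConjugate

universe u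

section
variable {G H : Type*} [Group G] [Group H] {b : Set (IrrCharacter G)} {b' : Set (IrrCharacter H)}

theorem TwoOf.push {π : G →* H} (hπ : Function.Surjective π) (h1 : ∀ f : H → ℂ, f ∈ Fn b' ↔ f ∘ π ∈ Fn b)
    (h2 : ∀ f ∈ Fn b, ∃ f' : H → ℂ, f = f' ∘ π) (h3 : ∀ α ∈ Stab b, ∃ β : MulAut H, ∀ g, π (α g) = β (π g))
    {χ₁ χ₂ : G → ℂ} (h : TwoOf b χ₁ χ₂) : ∃ ψ₁ ψ₂, TwoOf b' ψ₁ ψ₂ := by
  obtain ⟨ψ₁, rfl⟩ := h2 _ h.m1
  obtain ⟨ψ₂, rfl⟩ := h2 _ h.m2
  have key : ∀ f ψ : H → ℂ, f ∘ π ∈ Orb b (ψ ∘ π) → f ∈ Orb b' ψ := by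
    rintro f ψ ⟨α, hα, e⟩
    obtain ⟨β, hβ⟩ := h3 α hα
    have e1 : ∀ f : H → ℂ, (f ∘ β) ∘ π = (f ∘ π) ∘ α := fun f => funext fun g => congrArg f (hβ g).symm
    exact ⟨β, fun f => by rw [h1, e1, hα, h1], hπ.injective_comp_right (e.trans (e1 ψ).symm)⟩
  refine ⟨ψ₁, ψ₂, (h1 _).2 h.m1, (h1 _).2 h.m2, fun e => h.ne ?_, fun f hf => (h.cov _ ((h1 f).1 hf)).imp (key _ _) (key _ _)⟩
  show ψ₁ (π 1) = ψ₂ (π 1)
  rwa [map_one]

theorem Two.of_equiv [Finite G] {p : ℕ} [Fact p.Prime] {M : Ideal AlgInt} {D : Subgroup G} (e : G ≃* H)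
    (h : Two p M b D) : Two p M (H660.BlockTransport.blockMap e b) (D.map e.toMonoidHom) := by
  obtain ⟨χ₁, χ₂, h1⟩ := h.two
  refine ⟨h.odd, h.hM, H660.BlockTransport.isPBlock_blockMap e h.hb, H660.BlockTransport.isDefectGroup_blockMap e h.hD,
    fun hc => h.nc (isCyclic_of_injective (e.toMonoidHom.subgroupMap D) (e.subgroupMap D).injective), ?_⟩
  refine h1.push (π := e.toMonoidHom) e.surjective (fun f => ⟨?_, ?_⟩) (fun f _ => ⟨f ∘ e.symm, funext fun g => by simp⟩)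
    fun α _ => ⟨(e.symm.trans α).trans e, fun g => by simp⟩
  · rintro ⟨ψ, hψ, rfl⟩
    exact ⟨_, hψ, rfl⟩
  · rintro ⟨χ, hχ, h2⟩
    refine ⟨_, H660.BlockTransport.irrMap_mem_blockMap.2 hχ, funext fun x => ?_⟩
    rw [H660.BlockTransport.irrMap_apply, h2]
    simp

variable [Finite G] {p : ℕ} [Fact p.Prime] {M : Ideal AlgInt}

/-- the block of `G / N` which is dominated by `b` -/
theorem exists_defl (hM : IsPModular p M) (hb : IsPBlock M b) (N : Subgroup G) [N.Normal] (hN : ¬ p ∣ Nat.card N)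
    {f : G → ℂ} (hf : f ∈ Fn b) (hk : ∀ n ∈ N, f n = f 1) :
    ∃ c : Set (IrrCharacter (G ⧸ N)), IsPBlock M c ∧ (∀ f : G ⧸ N → ℂ, f ∈ Fn c ↔ f ∘ QuotientGroup.mk' N ∈ Fn b) ∧
      (∀ f ∈ Fn b, ∃ f' : G ⧸ N → ℂ, f = f' ∘ QuotientGroup.mk' N) ∧
      ∀ D, IsDefectGroup p M b D → IsDefectGroup p M c (D.map (QuotientGroup.mk' N)) := by
  have := Local.isPrime_of_isPModular hM
  have := Fintype.ofFinite N
  have hs := QuotientGroup.mk'_surjective N
  obtain ⟨χ, hχ, rfl⟩ := hf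
  have hc : (Nat.card N : ℂ) ≠ 0 := Nat.cast_ne_zero.2 Nat.card_pos.ne'
  obtain ⟨χ', e⟩ := Deflate.exists_deflation N χ.1 χ.2 (by
    rw [Finset.sum_congr rfl fun (n : N) _ => hk n n.2, Finset.sum_const, Finset.card_univ, nsmul_eq_mul,
      ← Nat.card_eq_fintype_card]
    exact mul_ne_zero hc (Basic.irr_one_ne_zero χ.2))
  have hbe : b = blockOf M ((χ' : G ⧸ N → ℂ) ∘ QuotientGroup.mk) := by
    rw [← e]
    exact Basic.isPBlock_eq_blockOf hb hχ
  let inf : IrrCharacter (G ⧸ N) → IrrCharacter G := fun ψ =>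
    ⟨ψ.1 ∘ QuotientGroup.mk' N, Characters.Core.isIrr_comp _ hs ψ.2⟩
  have h1 : ∀ ψ ∈ blockOf M χ'.1, inf ψ ∈ b := fun ψ hψ => by
    rw [hbe]
    intro g
    show MemLocalIdeal M (_ - centralChar (ψ.1 ∘ QuotientGroup.mk) g)
    rw [H591.QuotDefect.centralChar_inflate, H591.QuotDefect.centralChar_inflate, ← mul_sub]
    exact Local.memLocalIdeal_mul_left (Local.memLocalRing_natCast _) (hψ _)
  have h2 : ∀ ψ ∈ b, ∃ ψ' ∈ blockOf M χ'.1, inf ψ' = ψ := fun ψ hψ => by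
    obtain ⟨ψ', e1, h3⟩ := S0967.result p M hM N hN χ' ψ (hbe ▸ hψ)
    exact ⟨ψ', h3, Subtype.ext e1.symm⟩
  refine ⟨blockOf M χ'.1, ⟨χ', rfl⟩, fun f => ⟨?_, ?_⟩, ?_, fun D hD => ?_⟩
  · rintro ⟨ψ, hψ, rfl⟩
    exact ⟨_, h1 ψ hψ, rfl⟩
  · rintro ⟨ψ, hψ, e1⟩
    obtain ⟨ψ', h3, rfl⟩ := h2 ψ hψ
    exact ⟨ψ', h3, hs.injective_comp_right e1⟩
  · rintro _ ⟨ψ, hψ, rfl⟩
    obtain ⟨ψ', -, rfl⟩ := h2 ψ hψ
    exact ⟨ψ'.1, rfl⟩
  obtain ⟨g, hg, hPg⟩ := Basic.isDefectGroup_iff.1 hD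
  have h3 : blockCoeff (blockOf M χ'.1) (QuotientGroup.mk g) = Nat.card N * blockCoeff b g := by
    have h4 : ∑ᶠ ψ ∈ blockOf M χ'.1, ψ.1 1 * conj (ψ.1 (QuotientGroup.mk g)) = ∑ᶠ ψ ∈ b, ψ.1 1 * conj (ψ.1 g) :=
      finsum_mem_eq_of_bijOn inf ⟨h1, fun _ _ _ _ e1 => Subtype.ext (hs.injective_comp_right (congrArg Subtype.val e1)),
        fun ψ hψ => h2 ψ hψ⟩ fun _ _ => rfl
    have h5 : (Nat.card (G ⧸ N) : ℂ) ≠ 0 := Nat.cast_ne_zero.2 Nat.card_pos.ne'
    rw [Basic.blockCoeff_def, Basic.blockCoeff_def, h4, Subgroup.card_eq_card_quotient_mul_card_subgroup N, Nat.cast_mul]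
    field_simp
  have h4 : ∀ ψ ∈ blockOf M χ'.1, ¬ MemLocalIdeal M (centralChar (ψ.1 ∘ QuotientGroup.mk) g) :=
    fun ψ hψ => hg.2.2 _ (h1 ψ hψ)
  refine Basic.isDefectGroup_iff.2 ⟨QuotientGroup.mk g, ⟨?_, ?_, fun ψ hψ hd => h4 ψ hψ ?_⟩,
    H591.QuotDefect.isSylowCentralizer_map N hPg fun hd => h4 χ' (Basic.mem_blockOf_self χ') ?_⟩
  · rw [h3]
    exact Local.memLocalRing_mul (Local.memLocalRing_natCast _) hg.1
  · intro hd
    have h5 := Local.memLocalIdeal_mul_left (Local.memLocalRing_inv_natCast hM hN) hd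
    rw [h3, inv_mul_cancel_left₀ hc] at h5
    exact hg.2.1 h5
  · rw [H591.QuotDefect.centralChar_inflate]
    exact Local.memLocalIdeal_mul_left (Local.memLocalRing_natCast _) hd
  · rw [H591.QuotDefect.centralChar_inflate]
    exact Local.memLocalIdeal_mul_right ((Local.memLocalIdeal_natCast_iff hM _).2 hd)
      (Osima.memLocalRing_centralChar hM χ'.2 _)

omit [Finite G] in
/-- the central part of the kernel of a character -/
theorem exists_kerZ {f : G → ℂ} (hf : IsIrrCharacter G f) :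
    ∃ K : Subgroup G, (∀ z, z ∈ K ↔ z ∈ Subgroup.center G ∧ f z = f 1) := by
  obtain ⟨c, hc, -⟩ := CharactersDeep.Extraspecial.exists_central_hom hf
  refine ⟨c.ker.map (Subgroup.center G).subtype, fun z => ⟨?_, fun ⟨h1, h2⟩ => ⟨⟨z, h1⟩, Units.ext ?_, rfl⟩⟩⟩
  · rintro ⟨z, hz, rfl⟩
    have h1 := hc 1 z
    rw [one_mul, show c z = 1 from hz, Units.val_one, mul_one] at h1
    exact ⟨z.2, h1⟩
  · have h3 := hc 1 ⟨z, h1⟩
    rw [one_mul] at h3
    exact (mul_eq_left₀ (Basic.irr_one_ne_zero hf)).1 (h3.symm.trans h2)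

theorem cyc_of_faith {f : G → ℂ} (hf : IsIrrCharacter G f) (h : ∀ z ∈ Subgroup.center G, f z = f 1 → z = 1) :
    IsCyclic (Subgroup.center G) := by
  obtain ⟨c, hc, -⟩ := CharactersDeep.Extraspecial.exists_central_hom hf
  refine isCyclic_of_injective_ringHom ((Units.coeHom ℂ).comp c) ((injective_iff_map_eq_one _).2 fun z hz => ?_)
  have h1 := hc 1 z
  rw [one_mul, show (c z : ℂ) = 1 from hz, mul_one] at h1
  exact Subtype.ext (h z z.2 h1)

omit [Finite G] in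
theorem normal_of_le_center {K : Subgroup G} (h : K ≤ Subgroup.center G) : K.Normal :=
  ⟨fun n hn g => by rwa [Subgroup.mem_center_iff.1 (h hn) g, mul_inv_cancel_right]⟩

/-- the members of a block have the same kernel on a centre of order prime to `p` -/
theorem ker_common (hM : IsPModular p M) (hb : IsPBlock M b) (hZ : ¬ p ∣ Nat.card (Subgroup.center G)) {f f' : G → ℂ}
    (hf : f ∈ Fn b) (hf' : f' ∈ Fn b) {z : G} (hz : z ∈ Subgroup.center G) (h : f z = f 1) : f' z = f' 1 := by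
  obtain ⟨K, hK⟩ := exists_kerZ (Fn.irr hf)
  have h1 : K ≤ Subgroup.center G := fun z hz => ((hK z).1 hz).1
  have := normal_of_le_center h1
  obtain ⟨-, -, -, h2, -⟩ := exists_defl hM hb K (fun hd => hZ (hd.trans (Subgroup.card_dvd_of_le h1))) hf
    fun n hn => ((hK n).1 hn).2
  obtain ⟨f0, rfl⟩ := h2 f' hf'
  show f0 (QuotientGroup.mk z) = f0 (QuotientGroup.mk 1)
  rw [(QuotientGroup.eq_one_iff z).2 ((hK z).2 ⟨hz, h⟩), QuotientGroup.mk_one]

end

section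
variable {G : Type} [Group G] [Finite G] {p : ℕ} [Fact p.Prime] {M : Ideal AlgInt} {b : Set (IrrCharacter G)}
  {D : Subgroup G}

/-- the centre has order prime to `p` -/
theorem Two.zp (hS : BoxSUB) (h0 : BoxCAN0) (h2 : BoxCAN2) (H : Two p M b D) : ¬ p ∣ Nat.card (Subgroup.center G) := by
  intro hd
  obtain ⟨z, hz⟩ := exists_prime_orderOf_dvd_card' p hd
  have hz1 : (z : G) ≠ 1 := fun e => (Fact.out : p.Prime).one_lt.ne' (by
    rw [← hz, orderOf_eq_one_iff]; exact Subtype.ext e)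
  have hzD : (z : G) ∈ D := sat_defect H.hM H.hb H.hD (QuotientGroup.ker_mk' (Subgroup.center G)).le z
    ((QuotientGroup.eq_one_iff _).2 z.2) 1 (by
      rw [pow_one, ← hz, ← Subgroup.coe_pow, pow_orderOf_eq_one]; rfl)
  have h3 : D ≤ Subgroup.center G := fun d hd => by
    by_cases hd1 : d = 1
    · rw [hd1]; exact one_mem _
    obtain ⟨α, -, rfl⟩ := H.conj hS hzD hd hz1 hd1
    exact aut_center α z.2
  have h4 : ∀ x, x ∈ Ce D := fun x => Subgroup.mem_centralizer_iff.2 fun d hd => (Subgroup.mem_center_iff.1 (h3 hd) x).symm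
  obtain ⟨θ, hθ⟩ := h0 G p M b D H.hM H.hb H.hD fun x _ => h4 x
  exact (h2 G p M b D θ H hθ).2 fun x _ => h4 x

omit [Finite G] in
theorem not_comm_quot (hG : IsQuasisimple G) : ¬ IsMulCommutative (G ⧸ Subgroup.center G) := by
  intro h
  have hs := hG.2
  have hP := hG.1
  have h1 : Group.IsPerfect (G ⧸ Subgroup.center G) :=
    Group.IsPerfect.ofSurjective (f := QuotientGroup.mk' (Subgroup.center G)) (QuotientGroup.mk'_surjective _)
  have h2 : commutator (G ⧸ Subgroup.center G) = ⊥ := by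
    rw [commutator_def, Subgroup.commutator_eq_bot_iff_le_centralizer]
    exact fun x _ => Subgroup.mem_centralizer_iff.2 fun y _ => h.1.1 y x
  exact bot_ne_top (h2.symm.trans h1.commutator_eq_top)

/-- normalisation of (H) -/
theorem Two.exists_hyp (hG : IsQuasisimple G) (H : Two p M b D) (hZ : ¬ p ∣ Nat.card (Subgroup.center G)) :
    ∃ (G' : Type) (_ : Group G') (_ : Finite G') (σ : G' →* G ⧸ Subgroup.center G) (b' : Set (IrrCharacter G'))
      (D' : Subgroup G'), Hyp p M b' D' σ := by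
  have hs := hG.2
  have hP := hG.1
  obtain ⟨χ₁, χ₂, h1⟩ := H.two
  obtain ⟨K, hK⟩ := exists_kerZ (Fn.irr h1.m1)
  have hle : K ≤ Subgroup.center G := fun z hz => ((hK z).1 hz).1
  have := normal_of_le_center hle
  have hKp : ¬ p ∣ Nat.card K := fun hd => hZ (hd.trans (Subgroup.card_dvd_of_le hle))
  have hπ := QuotientGroup.mk'_surjective K
  obtain ⟨c, hc, h2, h3, h4⟩ := exists_defl H.hM H.hb K hKp h1.m1 fun n hn => ((hK n).1 hn).2
  have hst : ∀ α ∈ Stab b, ∀ g ∈ (QuotientGroup.mk' K).ker, α g ∈ (QuotientGroup.mk' K).ker := by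
    rw [QuotientGroup.ker_mk']
    intro α hα g hg
    have h5 := ker_common H.hM H.hb hZ h1.m1 ((hα χ₁).2 h1.m1) (hle hg) ((hK g).1 hg).2
    exact (hK _).2 ⟨aut_center α (hle hg), h5.trans (congrArg χ₁ (map_one α))⟩
  let σ : G ⧸ K →* G ⧸ Subgroup.center G := QuotientGroup.lift K (QuotientGroup.mk' _) (by rwa [QuotientGroup.ker_mk'])
  have hσ : Function.Surjective σ := fun x => by
    obtain ⟨g, rfl⟩ := QuotientGroup.mk_surjective x
    exact ⟨QuotientGroup.mk g, rfl⟩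
  have hZ0 : Subgroup.center (G ⧸ Subgroup.center G) = ⊥ :=
    (Subgroup.Normal.eq_bot_or_eq_top inferInstance).resolve_right fun h5 =>
      not_comm_quot hG ⟨⟨fun x y => Subgroup.mem_center_iff.1 (h5 ▸ Subgroup.mem_top y) x⟩⟩
  have hcen : ∀ g : G, (QuotientGroup.mk g : G ⧸ K) ∈ Subgroup.center (G ⧸ K) ↔ g ∈ Subgroup.center G := fun g => by
    constructor
    · intro h5
      have h6 : σ (QuotientGroup.mk g) ∈ Subgroup.center (G ⧸ Subgroup.center G) := Subgroup.mem_center_iff.2 fun x => by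
        obtain ⟨y, rfl⟩ := hσ x
        rw [← map_mul, ← map_mul, Subgroup.mem_center_iff.1 h5]
      rw [hZ0] at h6
      exact (QuotientGroup.eq_one_iff g).1 h6
    · intro h5
      refine Subgroup.mem_center_iff.2 fun x => ?_
      obtain ⟨y, rfl⟩ := QuotientGroup.mk_surjective x
      rw [← QuotientGroup.mk_mul, ← QuotientGroup.mk_mul, Subgroup.mem_center_iff.1 h5]
  have hfa : ∀ f ∈ Fn c, ∀ z ∈ Subgroup.center (G ⧸ K), f z = f 1 → z = 1 := by
    intro f hf z hz e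
    obtain ⟨g, rfl⟩ := QuotientGroup.mk_surjective z
    exact (QuotientGroup.eq_one_iff g).2 ((hK g).2 ⟨(hcen g).1 hz,
      ker_common H.hM H.hb hZ ((h2 f).1 hf) h1.m1 ((hcen g).1 hz) e⟩)
  obtain ⟨ψ₁, ψ₂, h5⟩ := h1.push hπ h2 h3 fun α hα => exists_ind hπ (hst α hα) (hst _ (inv_mem hα))
  have hcpp : CentPP p (QuotientGroup.mk' K) := ⟨by rwa [QuotientGroup.ker_mk'], by rwa [QuotientGroup.ker_mk']⟩
  refine ⟨G ⧸ K, inferInstance, inferInstance, σ, c, D.map (QuotientGroup.mk' K), ⟨H.odd, H.hM, hc, h4 D H.hD,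
    fun h6 => H.nc (isCyclic_of_injective ((QuotientGroup.mk' K).subgroupMap D) ?_), ψ₁, ψ₂, h5⟩,
    (Group.IsPerfect.ofSurjective hπ).commutator_eq_top, hσ, ?_, fun hd => hZ (hd.trans ?_),
    cyc_of_faith (Fn.irr h5.m1) (hfa _ h5.m1), hfa⟩
  · rw [injective_iff_map_eq_one]
    intro d hd
    obtain ⟨n, hn⟩ := isPGroup_defect H.hD d
    exact Subtype.ext (hcpp.eq_one (congrArg Subtype.val hd) (congrArg Subtype.val hn))
  · ext x
    obtain ⟨g, rfl⟩ := QuotientGroup.mk_surjective x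
    rw [hcen]
    exact QuotientGroup.eq_one_iff g
  · have h6 : Subgroup.center (G ⧸ K) = (Subgroup.center G).map (QuotientGroup.mk' K) := by
      ext x
      constructor
      · intro hx
        obtain ⟨g, rfl⟩ := QuotientGroup.mk_surjective x
        exact ⟨g, (hcen g).1 hx, rfl⟩
      · rintro ⟨g, hg, rfl⟩
        exact (hcen g).2 hg
    rw [h6]
    exact Subgroup.card_map_dvd _ _

end

/-- **[RED]** -/
theorem boxRED (hS : BoxSUB) (h0 : BoxCAN0) (h2 : BoxCAN2) : BoxRED.{u} := by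
  intro hR S _ _ hq p _ M b D H
  let e : S ≃* Shrink.{0} S := (Shrink.mulEquiv.{0}).symm
  have : Finite (Shrink.{0} S) := Finite.of_equiv _ e.toEquiv
  have hq' : IsQuasisimple (Shrink.{0} S) := by
    have hs := hq.2
    have hP := hq.1
    refine ⟨Group.IsPerfect.ofSurjective (f := e.toMonoidHom) e.surjective, ?_⟩
    refine (QuotientGroup.congr (Subgroup.center S) (Subgroup.center (Shrink.{0} S)) e ?_).symm.isSimpleGroup
    ext x
    constructor
    · rintro ⟨z, hz, rfl⟩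
      refine Subgroup.mem_center_iff.2 fun y => ?_
      obtain ⟨y, rfl⟩ := e.surjective y
      show e y * e z = e z * e y
      rw [← map_mul, ← map_mul, Subgroup.mem_center_iff.1 hz]
    · intro hx
      refine ⟨e.symm x, Subgroup.mem_center_iff.2 fun y => e.injective ?_, e.apply_symm_apply x⟩
      rw [map_mul, map_mul, e.apply_symm_apply, Subgroup.mem_center_iff.1 hx]
  have H' := H.of_equiv e
  obtain ⟨G', _, _, σ, b', D', h3⟩ := H'.exists_hyp hq' (H'.zp hS h0 h2)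
  have hs := hq'.2
  exact hR p H.odd _ (not_comm_quot hq') trivial G' σ M b' D' h3

end Cfsg.Agent.TO
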