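import Cfsg.Agent.TO.Can1

/-!
# S4817: the local automorphisms (helper65)

`boxCAN2` : the local automorphisms are transitive on `D \ 1`; `boxNEG` : some element of the inertia group inverts `D`.
-/

set_option autoImplicit false
set_option linter.unusedSectionVars false
set_option linter.unusedVariables false

namespace Cfsg.Agent.TO

open Cfsg Subgroup
open Cfsg.Agent.H649 Cfsg.Agent.Blocks.Basic Cfsg.Agent.TO.Cn

universe u

variable {G : Type u} [Group G] [Finite G] {p : ℕ} [Fact p.Prime] {M : Ideal AlgInt}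
  {b : Set (IrrCharacter G)} {D : Subgroup G} {θ : G → ℂ}

namespace Cn

theorem Cu_iff {α : MulAut G} {u v : G} (h : α u = v) (x : G) : α x ∈ Cu v ↔ x ∈ Cu u := by
  rw [mem_centralizer_singleton_iff, mem_centralizer_singleton_iff, ← h, ← map_mul, ← map_mul, α.injective.eq_iff]

/-- the restriction of an automorphism to the centralizer of an element -/
def cuIso (α : MulAut G) {u v : G} (h : α u = v) : Cu u ≃* Cu v where
  toFun x := ⟨α x, (Cu_iff h x).2 x.2⟩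
  invFun y := ⟨α.symm y, (Cu_iff h _).1 (by rw [MulEquiv.apply_symm_apply]; exact y.2)⟩
  left_inv x := Subtype.ext (α.symm_apply_apply x)
  right_inv y := Subtype.ext (α.apply_symm_apply y)
  map_mul' x y := Subtype.ext (map_mul α _ _)

theorem pElt (hD : IsPGroup p D) {u : G} (hu : u ∈ D) : PElt p u := by
  obtain ⟨k, hk⟩ := IsPGroup.iff_orderOf.1 hD ⟨u, hu⟩
  exact ⟨k, by rw [← hk, ← orderOf_coe]⟩

theorem Ce_le_Cu {u : G} (hu : u ∈ D) : Ce D ≤ Cu u := fun _ hx =>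
  mem_centralizer_singleton_iff.2 (mem_centralizer_iff.1 hx u hu).symm

theorem la_Ce {α : MulAut G} (h : α ∈ LA D θ) (x : G) : α x ∈ Ce D ↔ x ∈ Ce D := Ce_iff (map_eq_of_iff h.1) x

theorem la_In {α : MulAut G} (h : α ∈ LA D θ) {t : G} (ht : t ∈ In D θ) : α t ∈ In D θ := by
  have h1 : MulAut.conj (α t) = α * MulAut.conj t * α⁻¹ := by
    ext x
    simp
  show MulAut.conj (α t) ∈ LA D θ
  rw [h1]
  exact mul_mem (mul_mem h ht) (inv_mem h)

/-- commuting involutions which are permuted by a transitive group -/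
theorem neg_core {S : Set (MulAut G)} (hab : ∀ x ∈ D, ∀ y ∈ D, x * y = y * x) (hN : ∀ s ∈ S, ∀ d ∈ D, s d ∈ D)
    (h2 : ∀ s ∈ S, ∀ d ∈ D, s (s d) = d) (hc : ∀ s ∈ S, ∀ s' ∈ S, ∀ d ∈ D, s (s' d) = s' (s d))
    (htr : ∀ u ∈ D, ∀ v ∈ D, u ≠ 1 → v ≠ 1 → ∃ α : MulAut G, α u = v ∧ ∀ s ∈ S, α⁻¹ * s * α ∈ S)
    {s₀ : MulAut G} (h0 : s₀ ∈ S) {d₁ : G} (hd : d₁ ∈ D) (hne : s₀ d₁ ≠ d₁) : ∀ d ∈ D, s₀ d = d⁻¹ := by
  have hD : D ≠ ⊥ := fun h => hne (by
    have h1 : d₁ = 1 := by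
      rw [h] at hd
      exact mem_bot.1 hd
    rw [h1, map_one])
  obtain ⟨B, ⟨b1, b2, b3⟩, hmin⟩ := WellFounded.has_min (wellFounded_lt (α := Subgroup G))
    {B | B ≤ D ∧ B ≠ ⊥ ∧ ∀ s ∈ S, ∀ d ∈ B, s d ∈ B} ⟨D, le_rfl, hD, hN⟩
  have key : ∀ s ∈ S, ∀ d ∈ B, s d = d ∨ s d = d⁻¹ := by
    intro s hs d hdB
    by_cases h : B ⊓ s.toMonoidHom.eqLocus (MonoidHom.id G) = ⊥
    · have h3 : d * s d ∈ B ⊓ s.toMonoidHom.eqLocus (MonoidHom.id G) := ⟨mul_mem hdB (b3 s hs d hdB), by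
        show s (d * s d) = d * s d
        rw [map_mul, h2 s hs d (b1 hdB), hab d (b1 hdB) _ (hN s hs d (b1 hdB))]⟩
      rw [h, mem_bot] at h3
      exact Or.inr (eq_inv_of_mul_eq_one_right h3)
    · have h3 := hmin (B ⊓ s.toMonoidHom.eqLocus (MonoidHom.id G)) ⟨inf_le_left.trans b1, h, fun s' hs' x hx =>
        ⟨b3 s' hs' x hx.1, by
          show s (s' x) = s' x
          rw [hc s hs s' hs' x (b1 hx.1), show s x = x from hx.2]⟩⟩
      have h4 : B ⊓ s.toMonoidHom.eqLocus (MonoidHom.id G) = B := (eq_or_lt_of_le inf_le_left).resolve_right h3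
      exact Or.inl (h4.ge hdB).2
  obtain ⟨⟨d₀, h3⟩, h4⟩ := ne_bot_iff_exists_ne_one.1 b2
  have h5 : d₀ ≠ 1 := fun h => h4 (Subtype.ext h)
  have all : ∀ v ∈ D, s₀ v = v ∨ s₀ v = v⁻¹ := by
    intro v hv
    by_cases h6 : v = 1
    · exact Or.inl (by rw [h6, map_one])
    · obtain ⟨α, rfl, h7⟩ := htr d₀ (b1 h3) v hv h5 h6
      have h8 : s₀ (α d₀) = α ((α⁻¹ * s₀ * α) d₀) := by simp
      rcases key _ (h7 s₀ h0) d₀ h3 with h9 | h9
      · exact Or.inl (by rw [h8, h9])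
      · exact Or.inr (by rw [h8, h9, map_inv])
  have h6 := (all d₁ hd).resolve_left hne
  intro d hd'
  rcases all d hd' with h7 | h7
  · rcases all (d * d₁) (mul_mem hd' hd) with h8 | h8
    · rw [map_mul, h7] at h8
      exact absurd (mul_left_cancel h8) hne
    · rw [map_mul, h7, h6, hab d hd' d₁ hd, mul_inv_rev] at h8
      exact h7.trans (mul_right_cancel h8)
  · exact h7

theorem exists_invol {Q : Type*} [Group Q] {z : Q} (hz : z ≠ 1) : ∀ k : ℕ, z ^ 2 ^ k = 1 →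
    ∃ j : ℕ, z ^ j ≠ 1 ∧ z ^ j * z ^ j = 1
  | 0, h => absurd (by simpa using h) hz
  | k + 1, h => by
    by_cases h1 : z ^ 2 ^ k = 1
    · exact exists_invol hz k h1
    · exact ⟨2 ^ k, h1, by rw [← pow_add, ← two_mul, ← pow_succ', h]⟩

theorem normal_Ce : ((Ce D).subgroupOf (In D θ)).Normal :=
  ⟨fun n hn t => mem_subgroupOf.2 ((la_Ce (α := MulAut.conj (t : G)) t.2 n).2 hn)⟩

/-- an element of prime order modulo the centralizer of a group of order nine -/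
theorem nine_prime (h9 : Nat.card D = 9) {t : G} (ht : ∀ d ∈ D, t * d * t⁻¹ ∈ D) {r : ℕ} (hr : r.Prime)
    (h1 : t ∉ Ce D) (h2 : t ^ r ∈ Ce D) : r = 2 ∨ r = 3 := by
  classical
  have := Fact.mk hr
  have := Fintype.ofFinite D
  let f : Function.End D := fun d => ⟨t * d * t⁻¹, ht d d.2⟩
  have hf : ∀ (n : ℕ) (d : D), ((f ^ n) d : G) = t ^ n * d * (t ^ n)⁻¹ := fun n => by
    induction n with
    | zero => intro d; simp; rfl
    | succ n ih =>
      intro d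
      rw [pow_succ', pow_succ']
      show t * ((f ^ n) d : G) * t⁻¹ = _
      rw [ih]
      group
  have h3 := Equiv.Perm.card_fixedPoints_modEq (f := f) (p := r) (n := 1) (funext fun d => Subtype.ext (by
    rw [hf, pow_one, ← mem_centralizer_iff.1 h2 d d.2, mul_inv_cancel_right]
    rfl))
  have h4 : Nat.card f.fixedPoints = Nat.card ((Cu t).subgroupOf D) := Nat.card_congr (Equiv.subtypeEquivRight fun d => by
    rw [mem_subgroupOf, mem_centralizer_singleton_iff, Function.mem_fixedPoints_iff, Subtype.ext_iff]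
    show t * d * t⁻¹ = d ↔ _
    rw [mul_inv_eq_iff_eq_mul, eq_comm])
  rw [← Nat.card_eq_fintype_card, ← Nat.card_eq_fintype_card, h4, h9] at h3
  have h5 := ((Cu t).subgroupOf D).card_subgroup_dvd_card
  have h6 : Nat.card ((Cu t).subgroupOf D) ≠ 9 := fun h => h1 (mem_centralizer_iff.2 fun d hd => by
    have h7 := eq_top_of_card_eq _ (h.trans h9.symm)
    exact mem_centralizer_singleton_iff.1 (mem_subgroupOf.1 (h7 ▸ mem_top (⟨d, hd⟩ : D))))
  rw [h9] at h5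
  generalize Nat.card ((Cu t).subgroupOf D) = n at h3 h5 h6
  have h7 : n ≤ 9 := Nat.le_of_dvd (by norm_num) h5
  have h8 := (Nat.modEq_iff_dvd' h7).1 h3.symm
  have h10 : n = 1 ∨ n = 3 := by
    interval_cases n <;> omega
  rcases h10 with rfl | rfl
  · exact Or.inl ((Nat.prime_dvd_prime_iff_eq hr Nat.prime_two).1 (hr.dvd_of_dvd_pow (show r ∣ 2 ^ 3 from h8)))
  · rcases (Nat.Prime.dvd_mul hr).1 (show r ∣ 2 * 3 from h8) with h | h
    · exact Or.inl ((Nat.prime_dvd_prime_iff_eq hr Nat.prime_two).1 h)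
    · exact Or.inr ((Nat.prime_dvd_prime_iff_eq hr Nat.prime_three).1 h)

end Cn

/-- the inertial quotient for a defect group of order nine is a `2`-group -/
theorem Can.two_of_nine (h : Can p M b D θ) (h9 : Nat.card D = 9) : ∀ t ∈ In D θ, ∃ k : ℕ, t ^ 2 ^ k ∈ Ce D := by
  have := normal_Ce (D := D) (θ := θ)
  have h3 : p = 3 := by
    obtain ⟨n, hn⟩ := IsPGroup.iff_card.1 h.pg
    rw [h9] at hn
    have h1 : n ≠ 0 := by
      rintro rfl
      exact absurd hn (by norm_num)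
    exact (Nat.prime_dvd_prime_iff_eq Fact.out Nat.prime_three).1
      ((Fact.out : p.Prime).dvd_of_dvd_pow (show p ∣ 3 ^ 2 by
        rw [show 3 ^ 2 = 9 from rfl, hn]
        exact dvd_pow_self p h1))
  have h1 : IsPGroup 2 (In D θ ⧸ (Ce D).subgroupOf (In D θ)) :=
    IsPGroup.of_card (Nat.eq_prime_pow_of_unique_prime_dvd Nat.card_pos.ne' fun {r} hr hd => by
      have := Fact.mk hr
      obtain ⟨q, hq⟩ := exists_prime_orderOf_dvd_card' r hd
      obtain ⟨t, rfl⟩ := QuotientGroup.mk_surjective q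
      have h2 : (t : G) ∉ Ce D := fun h4 => hr.one_lt.ne' (by
        rw [← hq, (QuotientGroup.eq_one_iff t).2 (mem_subgroupOf.2 h4), orderOf_one])
      have h4 : (t : G) ^ r ∈ Ce D := by
        have h5 := pow_orderOf_eq_one (t : In D θ ⧸ (Ce D).subgroupOf (In D θ))
        rw [hq, ← QuotientGroup.mk_pow, QuotientGroup.eq_one_iff] at h5
        exact h5
      exact (nine_prime h9 (fun d hd' => (t.2.1 d).2 hd') hr h2 h4).resolve_right fun h5 => h.idx (by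
        rw [h3, ← h5]
        exact hd))
  intro t ht
  obtain ⟨k, hk⟩ := h1 (⟨t, ht⟩ : In D θ)
  rw [← QuotientGroup.mk_pow, QuotientGroup.eq_one_iff] at hk
  exact ⟨k, hk⟩

theorem Can.neg (h : Can p M b D θ) (htr : ∀ u ∈ D, ∀ v ∈ D, u ≠ 1 → v ≠ 1 → ∃ α ∈ LA D θ, α u = v)
    (hne : ¬ In D θ ≤ Ce D) (h2 : ∀ t ∈ In D θ, ∃ k : ℕ, t ^ 2 ^ k ∈ Ce D) :
    ∃ t ∈ In D θ, ∀ d ∈ D, t * d * t⁻¹ = d⁻¹ := by
  have := normal_Ce (D := D) (θ := θ)
  have := Fact.mk Nat.prime_two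
  have h1 : IsPGroup 2 (In D θ ⧸ (Ce D).subgroupOf (In D θ)) := fun q => by
    obtain ⟨t, rfl⟩ := QuotientGroup.mk_surjective q
    obtain ⟨k, hk⟩ := h2 t t.2
    exact ⟨k, by rw [← QuotientGroup.mk_pow, QuotientGroup.eq_one_iff]; exact hk⟩
  have h3 : Nontrivial (In D θ ⧸ (Ce D).subgroupOf (In D θ)) := by
    obtain ⟨t, h4, h5⟩ := SetLike.not_le_iff_exists.1 hne
    exact ⟨((⟨t, h4⟩ : In D θ) : _ ⧸ _), 1, fun h6 =>
      h5 (mem_subgroupOf.1 ((QuotientGroup.eq_one_iff (⟨t, h4⟩ : In D θ)).1 h6))⟩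
  have := h1.center_nontrivial
  obtain ⟨⟨z, z1⟩, z2⟩ := exists_ne (1 : center (In D θ ⧸ (Ce D).subgroupOf (In D θ)))
  obtain ⟨k, hk⟩ := h1 z
  obtain ⟨j, j1, j2⟩ := exists_invol (fun h4 => z2 (Subtype.ext h4)) k hk
  have j3 := pow_mem z1 j
  generalize z ^ j = y at j1 j2 j3
  obtain ⟨s, rfl⟩ := QuotientGroup.mk_surjective y
  let P : G → Prop := fun s => s ∈ In D θ ∧ s * s ∈ Ce D ∧ ∀ t ∈ In D θ, (s * t)⁻¹ * (t * s) ∈ Ce D
  have s1 : P s := by
    refine ⟨s.2, ?_, fun t ht => ?_⟩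
    · rw [← QuotientGroup.mk_mul, QuotientGroup.eq_one_iff] at j2
      exact j2
    · have h4 := mem_center_iff.1 j3 ((⟨t, ht⟩ : In D θ) : _ ⧸ _)
      rw [← QuotientGroup.mk_mul, ← QuotientGroup.mk_mul] at h4
      exact mem_subgroupOf.1 (QuotientGroup.eq.1 h4.symm)
  have s2 : ∃ d ∈ D, (s : G) * d * (s : G)⁻¹ ≠ d := by
    by_contra h4
    push Not at h4
    exact j1 ((QuotientGroup.eq_one_iff s).2 (mem_subgroupOf.2 (mem_centralizer_iff.2 fun d hd =>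
      (mul_inv_eq_iff_eq_mul.1 (h4 d hd)).symm)))
  obtain ⟨d₁, s3, s4⟩ := s2
  refine ⟨s, s.2, neg_core (S := {σ | ∃ x, P x ∧ σ = MulAut.conj x}) h.comm ?_ ?_ ?_ ?_ ⟨s, s1, rfl⟩ s3 s4⟩
  · rintro _ ⟨x, hx, rfl⟩ d hd
    exact (hx.1.1 d).2 hd
  · rintro _ ⟨x, hx, rfl⟩ d hd
    show x * (x * d * x⁻¹) * x⁻¹ = d
    calc x * (x * d * x⁻¹) * x⁻¹ = x * x * d * (x * x)⁻¹ := by group
      _ = d := by rw [← mem_centralizer_iff.1 hx.2.1 d hd, mul_inv_cancel_right]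
  · rintro _ ⟨x, hx, rfl⟩ _ ⟨y, hy, rfl⟩ d hd
    show x * (y * d * y⁻¹) * x⁻¹ = y * (x * d * x⁻¹) * y⁻¹
    have h4 := mem_centralizer_iff.1 (hx.2.2 y hy.1) d hd
    calc x * (y * d * y⁻¹) * x⁻¹ = x * y * (d * ((x * y)⁻¹ * (y * x))) * (y * x)⁻¹ := by group
      _ = _ := by rw [h4]; group
  · intro u hu v hv h4 h5
    obtain ⟨α, h6, h7⟩ := htr u hu v hv h4 h5
    refine ⟨α, h7, ?_⟩
    rintro _ ⟨x, hx, rfl⟩
    refine ⟨α⁻¹ x, ⟨la_In (inv_mem h6) hx.1, ?_, fun t ht => ?_⟩, ?_⟩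
    · rw [← map_mul]
      exact (la_Ce (inv_mem h6) _).2 hx.2.1
    · have h8 := (la_Ce (inv_mem h6) _).2 (hx.2.2 _ (la_In h6 ht))
      simpa using h8
    · ext g
      simp

/-- **[CAN2]** -/
theorem boxCAN2 (hS : BoxSUB) : BoxCAN2 := by
  intro G _ _ p _ M b D θ H h
  have := h.prime
  refine ⟨fun u hu v hv h1 h2 => ?_, fun h1 => ?_⟩
  · obtain ⟨c, c1, c2⟩ := h.loc hu
    obtain ⟨c', c3, c4⟩ := h.loc hv
    obtain ⟨α, -, a1, a2⟩ := hS G p M b D H u v (pElt h.pg hu) (pElt h.pg hv) h1 h2 c c' c1 c3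
    have h3 : blkMap (cuIso α a1) c = c' := by
      obtain ⟨ξ', k1⟩ := isPBlock_nonempty c3.1
      obtain ⟨ξ, k2, k3⟩ := a2 ξ' k1
      refine isPBlock_eq_of_mem (isPBlock_blkMap c1.1) c3.1 (irrMap_mem_blkMap.2 k2) ?_
      have k4 : irrMap (cuIso α a1) ξ = ξ' := Subtype.ext (funext fun y => k3 _ y (α.apply_symm_apply y).symm)
      rw [k4]
      exact k1
    have h4 := c2.map (cuIso α a1)
    rw [h3] at h4
    obtain ⟨x, x1, x2⟩ := c4.conj h4
    have out : ∀ y, y ∉ Cu u → (x : G) * α y * (x : G)⁻¹ ∉ Cu v := fun y hy h5 =>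
      hy ((Cu_iff a1 y).1 ((mul_mem_cancel_left x.2).1 ((mul_mem_cancel_right (inv_mem x.2)).1 h5)))
    refine ⟨MulAut.conj (x : G) * α, ⟨fun y => ?_, fun g => ?_⟩, ?_⟩
    · by_cases hy : y ∈ Cu u
      · exact (x1 (cuIso α a1 ⟨y, hy⟩)).trans (map_mem_map_iff (cuIso α a1) _ _)
      · exact ⟨fun h5 => absurd (Ce_le_Cu hv (h.ab h5)) (out y hy), fun h5 => absurd (Ce_le_Cu hu (h.ab h5)) hy⟩
    · by_cases hg : g ∈ Cu u
      · have h5 := x2 (cuIso α a1 ⟨g, hg⟩)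
        rw [MulEquiv.symm_apply_apply] at h5
        exact h5
      · rw [h.zero g fun h5 => hg (Ce_le_Cu hu h5)]
        exact h.zero _ fun h5 => out g hg (Ce_le_Cu hv h5)
    · show (x : G) * α u * (x : G)⁻¹ = v
      rw [a1, mem_centralizer_singleton_iff.1 x.2, mul_inv_cancel_right]
  · obtain ⟨χ₁, χ₂, h2⟩ := H.two
    exact h2.ne (h.nil h1 h2.m1 h2.m2)

/-- **[NEG]** -/
theorem boxNEG (hS : BoxSUB) : BoxNEG := by
  intro G _ _ p _ M b D θ H h h1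
  obtain ⟨h2, h3⟩ := boxCAN2 hS G p M b D θ H h
  exact h.neg h2 h3 (h1.elim id h.two_of_nine)

end Cfsg.Agent.TO
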