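import Cfsg.Agent.TO.InvBase
import Cfsg.Agent.H646.RegInner
import Cfsg.Agent.S0913

/-!
# S4817, the functions in the span of a block which live on one section
-/

set_option autoImplicit false

namespace Cfsg.Agent.TO.Inv

open Cfsg Cfsg.Agent.Blocks.Basic Cfsg.Agent.Blocks.Local Cfsg.Agent.Characters
open Cfsg.Agent.H660.BlockTransport Cfsg.Agent.H646.RegInner Cfsg.Agent.Blocks
open scoped ComplexConjugate

variable {G : Type} [Group G]

theorem commute_Cu {u : G} (s : Cu u) : Commute u (s : G) :=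
  (Subgroup.mem_centralizer_singleton_iff.1 s.2).symm

theorem isPPart_mul_Cu {p : ℕ} {u : G} (hu : PElt p u) {s : Cu u} (hs : IsPRegular p s) :
    IsPPart p (u * (s : G)) u :=
  PPart.isPPart_mul (commute_Cu s) hu (by rw [Subgroup.orderOf_coe]; exact hs)

theorem pReg_mem [Finite G] {p : ℕ} {M : Ideal AlgInt} (hM : IsPModular p M) {c : Set (IrrCharacter G)}
    (hc : IsPBlock M c) {f : G → ℂ} (hf : f ∈ V c) : pRegularPart p f ∈ V c := by
  have := isPrime_of_isPModular hM
  rw [← H608.BlockRank.pReg_eq]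
  exact H608.BlockRank.map_pReg_le hM (H608.BlockRank.isUnion_of_isPBlock hc) ⟨f, hf, rfl⟩

/-- `F` lies in the span of `b`, lives on the section of `u` and has the values `f` there -/
structure IsSec (p : ℕ) (b : Set (IrrCharacter G)) (u : G) [Fintype G] [Fintype (Cu u)]
    (f : Cu u → ℂ) (F : G → ℂ) : Prop where
  mem : F ∈ V b
  off : ∀ g x, IsPPart p g x → ¬ IsConj u x → F g = 0
  on : ∀ s : Cu u, IsPRegular p s → F (u * (s : G)) = f s
  inner : ∀ F' ∈ V b, classInner F' F = classInner (fun s : Cu u => F' (u * (s : G))) (pRegularPart p f)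

theorem IsSec.sub_smul {p : ℕ} {b : Set (IrrCharacter G)} {u : G} [Fintype G] [Fintype (Cu u)]
    {f f' : Cu u → ℂ} {F F' : G → ℂ} (h : IsSec p b u f F) (h' : IsSec p b u f' F') (r : ℂ) :
    IsSec p b u (f - r • f') (F - r • F') where
  mem := Submodule.sub_mem _ h.mem (Submodule.smul_mem _ _ h'.mem)
  off g x hg hx := by simp [h.off g x hg hx, h'.off g x hg hx]
  on s hs := by simp [h.on s hs, h'.on s hs]
  inner X hX := by
    have e : pRegularPart p (f - r • f') = pRegularPart p f - r • pRegularPart p f' := by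
      rw [← regMap_apply, map_sub, map_smul]
      rfl
    rw [e, Core.classInner_sub_right, Core.classInner_sub_right, Core.classInner_smul_right,
      Core.classInner_smul_right, h.inner X hX, h'.inner X hX]

theorem exists_sec [Fintype G] {p : ℕ} [Fact p.Prime] {M : Ideal AlgInt} (hM : IsPModular p M)
    {b : Set (IrrCharacter G)} {u : G} (hu : PElt p u) [Fintype (Cu u)]
    {c : Set (IrrCharacter (Cu u))} (hc : IsInducedBlock M (Cu u) c b) {f : Cu u → ℂ} (hf : f ∈ V c) :
    ∃ F, IsSec p b u f F := by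
  classical
  have := isPrime_of_isPModular hM
  have : Finite (IrrCharacter G) := Core.finite_irr
  have := Fintype.ofFinite (IrrCharacter G)
  have : Finite (IrrCharacter (Cu u)) := Core.finite_irr
  have := Fintype.ofFinite (IrrCharacter (Cu u))
  have hb := hc.2.1
  set F : G → ℂ := ∑ χ : IrrCharacter G with χ ∈ b,
    classInner (pRegularPart p f) (fun s : Cu u => χ.1 (u * (s : G))) • χ.1 with hF
  have hFg : ∀ g, F g = (Nat.card (Cu u) : ℂ)⁻¹ * ∑ s : Cu u, pRegularPart p f s *
      ∑ᶠ χ ∈ b, (χ : G → ℂ) g * conj ((χ : G → ℂ) (u * (s : G))) := by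
    intro g
    rw [hF, Finset.sum_apply]
    simp only [Pi.smul_apply, smul_eq_mul, Core.classInner_def,
      Orthogonality.finsum_mem_eq_sum_filter, Finset.mul_sum, Finset.sum_mul]
    rw [Finset.sum_comm]
    refine Finset.sum_congr rfl fun s _ => Finset.sum_congr rfl fun χ _ => ?_
    ring
  refine ⟨F, ?_, ?_, ?_, ?_⟩
  · exact Submodule.sum_mem _ fun χ hχ => Submodule.smul_mem _ _ (mem_V (by simpa using hχ))
  · intro g x hg hx
    rw [hFg, Finset.sum_eq_zero, mul_zero]
    intro s _
    by_cases hs : p ∣ orderOf s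
    · rw [pRegularPart_of_dvd hs, zero_mul]
    · rw [Orthogonality.block_orthogonality hM b (S0913.result p M hM b hb) hg (isPPart_mul_Cu hu hs)
        (fun h => hx h.symm), mul_zero]
  · intro y hy
    set A : Set (IrrCharacter (Cu u)) := {ξ | IsInducedBlock M (Cu u) (blockOf M ξ.1) b} with hA
    have hcA : c ⊆ A := by
      intro ξ hξ
      rw [hA, Set.mem_ofPred_eq, ← isPBlock_eq_blockOf hc.1 hξ]
      exact hc
    have h1 := congrFun (V_expand (V_mono hcA (pReg_mem hM hc.1 hf))) y
    rw [pRegularPart_of_not_dvd hy] at h1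
    rw [hFg, h1, Finset.sum_apply]
    have h2 : ∀ s : Cu u, pRegularPart p f s *
        ∑ᶠ χ ∈ b, (χ : G → ℂ) (u * (y : G)) * conj ((χ : G → ℂ) (u * (s : G))) =
        pRegularPart p f s * ∑ ξ : IrrCharacter (Cu u) with ξ ∈ A, ξ.1 y * conj (ξ.1 s) := by
      intro s
      by_cases hs : p ∣ orderOf s
      · rw [pRegularPart_of_dvd hs, zero_mul, zero_mul]
      · rw [CentralizerSum.sum_section hM u hu rfl hb (A := A) (fun _ => Iff.rfl) y s hy hs,
          Orthogonality.finsum_mem_eq_sum_filter]
    simp only [h2, Pi.smul_apply, smul_eq_mul, Core.classInner_def, Finset.mul_sum, Finset.sum_mul]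
    rw [Finset.sum_comm]
    refine Finset.sum_congr rfl fun ξ _ => Finset.sum_congr rfl fun s _ => ?_
    ring
  · intro X hX
    have h1 : (fun s : Cu u => X (u * (s : G))) = ∑ χ : IrrCharacter G with χ ∈ b,
        classInner X χ.1 • fun s : Cu u => χ.1 (u * (s : G)) := by
      funext s
      conv_lhs => rw [V_expand hX]
      rw [Finset.sum_apply, Finset.sum_apply]
      rfl
    rw [h1, hF, Core.classInner_sum_right, Core.classInner_sum_left]
    refine Finset.sum_congr rfl fun χ _ => ?_
    rw [Core.classInner_smul_right, Core.classInner_smul_left, Core.classInner_conj_symm, mul_comm]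

/-- the isomorphism of the centralizers -/
def cuE (β : MulAut G) {u v : G} (h : β u = v) : Cu u ≃* Cu v where
  toFun x := ⟨β x, Subgroup.mem_centralizer_singleton_iff.2 (by
    rw [← h, ← map_mul, ← map_mul, (commute_Cu x).eq])⟩
  invFun y := ⟨β.symm y, Subgroup.mem_centralizer_singleton_iff.2 (β.injective (by
    rw [map_mul, map_mul, h, MulEquiv.apply_symm_apply, (commute_Cu y).eq]))⟩
  left_inv x := Subtype.ext (β.symm_apply_apply x)
  right_inv y := Subtype.ext (β.apply_symm_apply y)
  map_mul' x y := Subtype.ext (map_mul β (x : G) y)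

theorem cuE_coe (β : MulAut G) {u v : G} (h : β u = v) (x : Cu u) : (cuE β h x : G) = β x := rfl

section key

variable [Fintype G] {p : ℕ} {b : Set (IrrCharacter G)} {u v : G} [Fintype (Cu u)] [Fintype (Cu v)]
  {f : Cu u → ℂ} {f' : Cu v → ℂ} {F F' : G → ℂ}

theorem inner_of_not_conj (hu : PElt p u) (h : IsSec p b u f F) (h' : IsSec p b v f' F') {α : MulAut G}
    (hα : α ∈ Stab b) (hn : ¬ IsConj v (α u)) : classInner (F' ∘ α) F = 0 := by
  rw [h.inner _ (comp_mem_V hα h'.mem), Core.classInner_def, Finset.sum_eq_zero, mul_zero]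
  intro s _
  by_cases hs : p ∣ orderOf s
  · rw [pRegularPart_of_dvd hs, map_zero, mul_zero]
  · rw [Function.comp_apply, h'.off (α (u * (s : G))) (α u)
      (PPart.isPPart_map α.toMonoidHom α.injective (isPPart_mul_Cu hu hs)) hn, zero_mul]

theorem inner_of_eq (h : IsSec p b u f F) (h' : IsSec p b v f' F') {β : MulAut G}
    (hβ : β ∈ Stab b) (e : β u = v) : classInner (F' ∘ β) F =
      classInner (fun s => pRegularPart p f' (cuE β e s)) (pRegularPart p f) := by
  rw [h.inner _ (comp_mem_V hβ h'.mem), Core.classInner_def, Core.classInner_def]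
  congr 1
  refine Finset.sum_congr rfl fun s _ => ?_
  by_cases hs : p ∣ orderOf s
  · rw [pRegularPart_of_dvd hs, map_zero, mul_zero, mul_zero]
  · have hs' : ¬ p ∣ orderOf (cuE β e s) := by rwa [MulEquiv.orderOf_eq]
    rw [pRegularPart_of_not_dvd hs', ← h'.on _ hs', Function.comp_apply, map_mul, e, cuE_coe]

omit [Fintype (Cu u)] in
theorem exists_adjust (h' : IsSec p b v f' F') {α : MulAut G} (hα : α ∈ Stab b) (hc : IsConj v (α u)) :
    ∃ β ∈ Stab b, β u = v ∧ F' ∘ β = F' ∘ α := by
  obtain ⟨g, hg⟩ := isConj_iff.1 hc.symm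
  refine ⟨MulAut.conj g * α, mul_mem (conj_mem_Stab b g) hα, hg, ?_⟩
  funext x
  exact V_class h'.mem (α x) g

variable [Fintype (Stab b)]

/-- the average vanishes on the `p`-regular elements -/
theorem av_reg (h : IsSec p b u f F) (hu1 : u ≠ 1) {x : G} (hx : IsPRegular p x) : av b F x = 0 := by
  rw [av_apply, Finset.sum_eq_zero]
  intro α _
  refine h.off _ 1 (PPart.isPPart_of_not_dvd ?_) (by simpa using hu1)
  rw [MulEquiv.orderOf_eq]
  exact hx

theorem isPRegular_one {H : Type} [Group H] [hp : Fact p.Prime] : IsPRegular p (1 : H) := by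
  unfold IsPRegular
  rw [orderOf_one, Nat.dvd_one]
  exact hp.out.ne_one

/-- the average does not vanish at `u` -/
theorem av_self [Fact p.Prime] (hu : PElt p u) (h : IsSec p b u f F) (hf : f 1 ≠ 0) : av b F u ≠ 0 := by
  have h1 : F u = f 1 := by simpa using h.on 1 isPRegular_one
  rw [av_apply]
  intro hs
  refine hf (eq_zero_of_sum (fun α => ?_) 1 h1 hs)
  by_cases hc : IsConj u ((α : MulAut G) u)
  · right
    obtain ⟨g, hg⟩ := isConj_iff.1 hc
    rw [← hg, V_class h.mem, h1]
  · left
    refine h.off _ _ (PPart.isPPart_of_isPGroup ?_) hc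
    rw [MulEquiv.orderOf_eq]
    exact hu

end key

end Cfsg.Agent.TO.Inv
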