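import Cfsg.Agent.TO.CovB
import Cfsg.Agent.S0964
import Cfsg.Agent.S4432

/-!
# S4817: the box COV' (helper77)

* `Cov.stab_top` : the block is stable; `Cov.tw_iff` : the linear characters which fix the covering block;
* `boxCOV'`.
-/

set_option autoImplicit false

namespace Cfsg.Agent.TO

namespace Cov

open Cfsg Cfsg.Agent.Blocks.Basic Cfsg.Agent.Blocks.Local Cfsg.Agent.Characters
open Cfsg.Agent.H666.Clif (tl tl_apply Ov ov_iff exists_tl)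

variable {G : Type*} [Group G] [Finite G] {p : ℕ} {M : Ideal AlgInt} {N : Subgroup G} {b : Set (IrrCharacter N)}
  {B B' : Set (IrrCharacter G)} {D : Subgroup G} {θ θ' : G → ℂ}

omit [Finite G] in
theorem conj_mem_Stab (B : Set (IrrCharacter G)) (g : G) : MulAut.conj g ∈ Stab B := by
  have key : ∀ (g : G) (f : G → ℂ), f ∈ Fn B → f ∘ MulAut.conj g = f := by
    rintro g _ ⟨χ, -, rfl⟩
    exact funext fun x => irr_conj χ.2 x g
  refine fun f => ⟨fun h => ?_, fun h => by rwa [key g f h]⟩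
  have h1 := key g⁻¹ _ h
  have h2 : (f ∘ MulAut.conj g) ∘ MulAut.conj g⁻¹ = f := funext fun x => by simp [mul_assoc]
  rwa [← h1, h2] at h

theorem fn_tl (l : G →* ℂˣ) (χ : IrrCharacter G) : (fun g => (χ : G → ℂ) g * l g) = (tl l χ : G → ℂ) :=
  funext fun _ => mul_comm _ _

theorem tl_comm (l m : G →* ℂˣ) (χ : IrrCharacter G) : tl l (tl m χ) = tl m (tl l χ) :=
  Subtype.ext (funext fun _ => mul_left_comm _ _ _)

theorem fn_tl_iff (l : G →* ℂˣ) (f : G → ℂ) : f ∈ Fn B ↔ (fun g => f g * l g) ∈ Fn (tl l '' B) := by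
  constructor
  · rintro ⟨χ, hχ, rfl⟩
    exact ⟨_, ⟨χ, hχ, rfl⟩, (fn_tl l χ).symm⟩
  · rintro ⟨_, ⟨χ, hχ, rfl⟩, h⟩
    refine ⟨χ, hχ, funext fun g => mul_right_cancel₀ (l g).ne_zero ?_⟩
    rw [← fn_tl] at h
    exact congrFun h g

theorem eq_tl [M.IsPrime] (hB : IsPBlock M B) (hB' : IsPBlock M B') {l : G →* ℂˣ} {χ : IrrCharacter G} (h : χ ∈ B)
    (h' : tl l χ ∈ B') : tl l '' B = B' :=
  isPBlock_eq_of_mem (H666.Clif.isPBlock_tl ‹_› l hB) hB' ⟨χ, h, rfl⟩ h'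

variable [Fact p.Prime]

theorem stab_top [N.Normal] (h : Can p M b (D.subgroupOf N) fun n => θ n) (hT : N ⊔ In D θ = ⊤) (g : G) :
    MulAut.conjNormal g ∈ Stab b := by
  have h1 : N ⊔ In D θ ≤ (Stab b).comap MulAut.conjNormal := by
    refine sup_le (fun n hn => ?_) fun t ht => h.le_Stab ⟨fun x => ht.1 x, fun x => ht.2 x⟩
    have e : (MulAut.conjNormal n : MulAut N) = MulAut.conj ⟨n, hn⟩ := MulEquiv.ext fun _ => rfl
    rw [Subgroup.mem_comap, e]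
    exact conj_mem_Stab b _
  exact h1 (hT ▸ Subgroup.mem_top g)

theorem tw_iff (h : Can p M B D θ') (hD : D ≤ N) (hi : IsIrrCharacter (N.subgroupOf (Ce D)) fun x => θ' ((x : Ce D) : G))
    (hT : ∀ x : G, (∀ y, x * y * x⁻¹ ∈ D ↔ y ∈ D) → (∀ n ∈ N, θ' (x * n * x⁻¹) = θ' n) → ∀ g, θ' (x * g * x⁻¹) = θ' g)
    {l : G →* ℂˣ} (hl : N ≤ l.ker) : tl l '' B = B ↔ Ce D ≤ l.ker := by
  have h1 := can_tl h l (hD.trans hl)
  constructor
  · intro e
    rw [e] at h1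
    obtain ⟨x, h2, h3⟩ := h.conj h1
    have h4 := hT x h2 fun n hn => by rw [h3, show l n = 1 from hl hn, Units.val_one, mul_one]
    rw [← Subgroup.subgroupOf_eq_top]
    refine top_of_vanish _ h.irr (irr_of_comp (Subgroup.inclusion (Subgroup.subgroupOf_mono (Ce D) hl))
      (Clifford.isCharacter_restrict _ (irr_isCharacter h.irr)) hi) fun g hg => ?_
    by_contra h5
    exact hg (Units.ext (mul_left_cancel₀ h5 (((h3 g).symm.trans (h4 g)).trans (mul_one _).symm)))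
  · intro hC
    have e : (fun g => θ' g * l g) = θ' := funext fun g => by
      by_cases hg : g ∈ Ce D
      · rw [show l g = 1 from hC hg, Units.val_one, mul_one]
      · rw [h.zero g hg, zero_mul]
    rw [e] at h1
    exact can_unique h1 h

/-- restriction is a bijection if no linear character fixes the block -/
theorem res_bij [hN : N.Normal] [Fintype N] (hM : IsPModular p M) (hc : IsCyclic (G ⧸ N)) (hb : IsPBlock M b)
    (hs : ∀ g : G, MulAut.conjNormal g ∈ Stab b) (hB : IsPBlock M B) (hcov : Covers N B b)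
    (h1 : ∀ l : G →* ℂˣ, N ≤ l.ker → ∀ χ ∈ B, tl l χ ∈ B → l.ker = ⊤) :
    (∀ χ ∈ Fn B, (fun n : N => χ n) ∈ Fn b) ∧ ∀ ψ ∈ Fn b, ∃! χ, χ ∈ Fn B ∧ (fun n : N => χ n) = ψ := by
  have := Fintype.ofFinite G
  have key : ∀ χ ∈ B, ∀ ε : IrrCharacter N, Ov N χ ε → (fun n : N => (χ : G → ℂ) n) = ε := by
    intro χ hχ ε hε
    obtain ⟨l, h2, -⟩ := H666.Clif.exists_lin N hc (H666.Clif.le_stab N (irr_isClassFunction ε.2))
    have h3 : tl l χ = χ := Subtype.ext (funext fun g => by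
      rw [tl_apply]
      by_cases hg : g ∈ l.ker
      · rw [show l g = 1 from hg, Units.val_one, one_mul]
      · rw [H666.Clif.vanish N hc hε (h2 ▸ hg), mul_zero])
    have h4 := h1 l (h2 ▸ H666.Clif.le_stab N (irr_isClassFunction ε.2)) χ hχ (by rwa [h3])
    rw [h2] at h4
    exact funext (res_of_inv N hc hε fun g n =>
      congrFun ((H666.Clif.mem_stab N (ε : N → ℂ) g).1 (h4 ▸ Subgroup.mem_top g)) n)
  constructor
  · rintro _ ⟨χ, hχ, rfl⟩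
    obtain ⟨ε, hε⟩ := exists_under N χ.2
    obtain ⟨χ0, h2, ψ0, h3, h4⟩ := hcov
    obtain ⟨g, ψ, h5, h6⟩ := S0964.result p M hM N B hB b hb χ0 h2 ψ0 h3 h4 χ hχ ε hε
    rw [key χ hχ ε ((ov_iff _ _ _).2 hε), show (ε : N → ℂ) = (ψ : N → ℂ) ∘ MulAut.conjNormal g from funext h6]
    exact (hs g _).2 (mem_Fn.2 h5)
  · rintro _ ⟨ψ, hψ, rfl⟩
    obtain ⟨χ, hχ, h2⟩ := S4432.result p M hM N B hB b hb hcov ψ hψ
    have h3 := (ov_iff _ _ _).2 h2
    refine ⟨χ, ⟨mem_Fn.2 hχ, key χ hχ ψ h3⟩, ?_⟩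
    rintro _ ⟨⟨χ', hχ', rfl⟩, h4⟩
    obtain ⟨l, h5, rfl⟩ := exists_tl N hc h3 (ov_of_res (congrFun h4))
    have h6 := h1 l h5 χ hχ hχ'
    funext g
    rw [tl_apply, show l g = 1 from MonoidHom.mem_ker.1 (h6 ▸ Subgroup.mem_top g), Units.val_one, one_mul]

theorem exists_tw [N.Normal] [Fintype N] (hM : IsPModular p M) (hc : IsCyclic (G ⧸ N)) (hb : IsPBlock M b)
    (hB : IsPBlock M B) (hcov : Covers N B b) (hB' : IsPBlock M B') (hcov' : Covers N B' b) :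
    ∃ l : G →* ℂˣ, N ≤ l.ker ∧ tl l '' B = B' := by
  have := Fintype.ofFinite G
  have := isPrime_of_isPModular hM
  obtain ⟨χ', h1, ψ, h2, h3⟩ := hcov'
  obtain ⟨χ, h4, h5⟩ := S4432.result p M hM N B hB b hb hcov ψ h2
  obtain ⟨l, h6, rfl⟩ := exists_tl N hc ((ov_iff _ _ _).2 h5) ((ov_iff _ _ _).2 h3)
  exact ⟨l, h6, eq_tl hB hB' h4 h1⟩

end Cov

open Cfsg Cov Cfsg.Agent.Blocks.Basic Cfsg.Agent.Characters
open Cfsg.Agent.H666.Clif (tl)

/-- **COV'** -/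
theorem boxCOV' : BoxCOV' := by
  intro G _ _ p _ M N _ _ hc hi b D hD θ h0 h hT hC η h1 h2 h3
  have := h.prime
  obtain ⟨χ, hχ⟩ := H666.Clif.exists_ov _ (thL hD h)
  obtain ⟨B, h4, h5⟩ := exists_can hi hD h0 h hχ
  have h6 := over_inv hc hD h0 h h1 h2 h3 hχ
  have h7 := res_of_inv _ (cyc_sub N (Ce D) hc) hχ fun g n => (mem_In.1 (hC g.2)).2 _
  generalize he : extendByZero (Ce D) χ = θ' at h4 h6
  have h8 : ∀ n ∈ N, θ' n = θ n := fun n hn => by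
    by_cases hn' : n ∈ Ce D
    · rw [← he, Core.extendByZero_of_mem _ _ hn']
      exact h7 ⟨⟨n, hn'⟩, hn⟩
    · rw [h4.zero n hn', zero_C hD h0 h hn']
  have h9 : ∀ x : G, (∀ y, x * y * x⁻¹ ∈ D ↔ y ∈ D) → (∀ n ∈ N, θ' (x * n * x⁻¹) = θ' n) → x ∈ In D θ := by
    intro x hx hx'
    refine mem_In.2 ⟨hx, fun g => ?_⟩
    by_cases hg : g ∈ N
    · rw [← h8 g hg, ← h8 _ (Subgroup.Normal.conj_mem ‹_› g hg x), hx' g hg]
    · rw [h0 g hg, h0 _ fun h10 => hg (by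
        have h11 := Subgroup.Normal.conj_mem ‹_› _ h10 x⁻¹
        rwa [show x⁻¹ * (x * g * x⁻¹) * x⁻¹⁻¹ = g by group] at h11)]
  have h10 : ∀ {l : G →* ℂˣ}, N ≤ l.ker → (tl l '' B = B ↔ Ce D ≤ l.ker) :=
    tw_iff h4 hD (by
      rw [funext fun x : N.subgroupOf (Ce D) => h8 ((x : Ce D) : G) x.2]
      exact irr_L hD h) fun x hx hx' => (mem_In.1 (h6 (h9 x hx hx'))).2
  refine ⟨B, θ', h4, h5, le_antisymm (fun x hx => h9 x hx.1 fun n _ => hx.2 n) h6, fun l hl => ?_, fun B' hB' hc' => ?_,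
    fun hNC B' hB' hc' => ?_⟩
  · rw [← h10 hl]
    refine ⟨fun h11 => ?_, fun h11 f hf => h11 ▸ (fn_tl_iff l f).1 hf⟩
    obtain ⟨ψ, hψ⟩ := isPBlock_nonempty h4.hb
    have h12 := h11 _ (mem_Fn.2 hψ)
    rw [fn_tl, mem_Fn] at h12
    exact eq_tl h4.hb h4.hb hψ h12
  · obtain ⟨l, h11, rfl⟩ := exists_tw h.hM hc h.hb h4.hb h5 hB' hc'
    exact ⟨l, h11, fn_tl_iff l⟩
  · obtain ⟨m, -, rfl⟩ := exists_tw h.hM hc h.hb h4.hb h5 hB' hc'
    refine ⟨defect_tl m h4.hD, res_bij h.hM hc h.hb (stab_top h hT) hB' hc' ?_⟩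
    rintro l hl _ ⟨ψ, hψ, rfl⟩ ⟨ψ', hψ', e⟩
    rw [tl_comm] at e
    rw [H666.Clif.tl_injective m e] at hψ'
    exact top_le_iff.1 (hNC ▸ sup_le hl ((h10 hl).1 (eq_tl h4.hb h4.hb hψ hψ')))

end Cfsg.Agent.TO
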