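import Cfsg.Agent.TO.CyA
import Cfsg.Agent.H658.Domin
import Cfsg.Agent.H525.ExtMult
import Cfsg.Agent.S0919
import Cfsg.Agent.S4695
import Cfsg.Agent.S4696

/-!
# S4817, box CY: the quotient by a central `p`-subgroup (helper4)

* `quot_can` : the canonical character and the inertial index of the dominated block;
* `boxCY`.
-/

set_option autoImplicit false

namespace Cfsg.Agent.TO.Cy

open Cfsg Cfsg.Agent.Characters.Core Cfsg.Agent.Blocks Cfsg.Agent.H644.CentralQuot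

variable {G : Type} [Group G] {p : ℕ} [Fact p.Prime] {M : Ideal AlgInt} {B : Set (IrrCharacter G)} {D : Subgroup G}
  {θ : G → ℂ}

theorem relIndex_eq {K S T : Subgroup G} (h : S ≤ T) (h1 : ∀ t ∈ T, ∃ s ∈ S, s⁻¹ * t ∈ K) : K.relIndex T = K.relIndex S :=
  (Nat.card_congr (Equiv.ofBijective (Subgroup.quotientSubgroupOfEmbeddingOfLE K h) ⟨Function.Embedding.injective _, fun q => by
    obtain ⟨t, rfl⟩ := QuotientGroup.mk_surjective q
    obtain ⟨s, hs, h2⟩ := h1 t t.2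
    exact ⟨QuotientGroup.mk ⟨s, hs⟩, QuotientGroup.eq.2 h2⟩⟩)).symm

theorem mem_of_coprime {K : Subgroup G} {x : G} {a b : ℕ} (h : a.Coprime b) (ha : x ^ a ∈ K) (hb : x ^ b ∈ K) : x ∈ K := by
  obtain ⟨u, v, e⟩ := Nat.isCoprime_iff_coprime.2 h
  rw [← zpow_one x, ← e, zpow_add, mul_comm u, mul_comm v, zpow_mul, zpow_mul, zpow_natCast, zpow_natCast]
  exact mul_mem (zpow_mem ha u) (zpow_mem hb v)

variable [Finite G]

/-- **the dominated block** -/
theorem quot_can (hc : Can p M B D θ) (hP : CanP p M B D θ) {Z : Subgroup G} [Z.Normal] (hZ : Z ≤ Subgroup.center G)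
    (hZp : IsPGroup p Z) : ∃ θ' : G ⧸ Z → ℂ, Can p M (defl Z B) (D.map (QuotientGroup.mk' Z)) θ' ∧
      (Ce (D.map (QuotientGroup.mk' Z))).relIndex (In (D.map (QuotientGroup.mk' Z)) θ') = (Ce D).relIndex (In D θ) := by
  have := hc.hM.2.1.isPrime
  have := Fintype.ofFinite G
  have hB := hc.ind.2.1
  obtain ⟨hZD, hD'⟩ := H658.isDefectGroup_defl hc.hM hZ hZp hB hc.hD
  set f := QuotientGroup.mk' Z
  have hf : Function.Surjective f := QuotientGroup.mk'_surjective Z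
  set D' := D.map f
  have hDD : D'.comap f = D := Subgroup.comap_map_eq_self ((QuotientGroup.ker_mk' Z).le.trans hZD)
  have hN : ∀ g, f g ∈ Subgroup.normalizer (D' : Set (G ⧸ Z)) ↔ g ∈ Subgroup.normalizer (D : Set G) := fun g => by
    rw [← Subgroup.mem_comap, Subgroup.comap_normalizer_eq_of_surjective _ hf, hDD]
  set C := (Ce D').comap f
  have := Fintype.ofFinite C
  have h1 : Ce D ≤ C := by
    rintro c hc _ ⟨d, hd, rfl⟩
    rw [← map_mul, ← map_mul, hc d hd]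
  have h2 : ∀ x ∈ C, x ∈ Subgroup.normalizer (D : Set G) := fun x hx => (hN x).1 (Subgroup.centralizer_le_normalizer _ hx)
  have h3 : ∀ n ∈ Subgroup.normalizer (D : Set G), n ∈ Subgroup.normalizer (C : Set G) := fun n hn =>
    Subgroup.le_normalizer_comap f (norm_Ce ((hN n).2 hn))
  have hT : ∀ t ∈ In D θ, t ∈ Subgroup.normalizer (D : Set G) := fun t ht =>
    Subgroup.mem_normalizer_iff.2 fun x => (ht.1 x).symm
  have h4 : ∀ x ∈ C, x ∈ In D θ → x ∈ Ce D := fun x hx ht => by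
    obtain ⟨k, hk⟩ := hZp.exists_card_eq
    have : ((Ce D).subgroupOf (In D θ)).Normal := ⟨fun a ha t => (Subgroup.mem_normalizer_iff.1 (norm_Ce (hT t t.2)) a).1 ha⟩
    refine mem_of_coprime (((Nat.Prime.coprime_iff_not_dvd Fact.out).2 hP.idx).pow_left k) (fun d hd => ?_)
      (((Ce D).subgroupOf (In D θ)).pow_index_mem ⟨x, ht⟩)
    have h5 : d⁻¹ * x⁻¹ * d * x ∈ Z := by
      rw [← QuotientGroup.ker_mk' Z, MonoidHom.mem_ker, map_mul, map_mul, map_mul, mul_assoc, mul_assoc, hx _ ⟨d, hd, rfl⟩,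
        map_inv, map_inv, inv_mul_cancel_left, inv_mul_cancel]
    have h6 : ∀ m : ℕ, d * x ^ m = x ^ m * d * (d⁻¹ * x⁻¹ * d * x) ^ m := fun m => by
      induction m with
      | zero => simp
      | succ m ih =>
        rw [pow_succ, ← mul_assoc, ih, mul_assoc, ← Subgroup.mem_center_iff.1 (pow_mem (hZ h5) m) x,
          pow_succ' (_ * x)]
        generalize (d⁻¹ * x⁻¹ * d * x) ^ m = w
        group
    rw [h6, ← hk, show (d⁻¹ * x⁻¹ * d * x) ^ Nat.card Z = 1 from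
      congrArg Subtype.val (pow_card_eq_one' (x := (⟨_, h5⟩ : Z))), mul_one]
  have hL : C ≤ Subgroup.normalizer (Ce D : Set G) := fun x hx => norm_Ce (h2 x hx)
  have hi := up_irr hc.irr hc.zero h1 hL fun x hx h =>
    h4 x hx ⟨fun y => (Subgroup.mem_normalizer_iff.1 (h2 x hx) y).symm, h⟩
  let θ' : G ⧸ Z → ℂ := fun x => up (Ce D) C θ x.out
  have hθ' : ∀ g, θ' (f g) = up (Ce D) C θ g := fun g => by
    obtain ⟨z, hz⟩ := QuotientGroup.mk_out_eq_mul Z g
    show up (Ce D) C θ (QuotientGroup.mk g : G ⧸ Z).out = _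
    rw [hz, up_apply, up_apply]
    congr 1
    refine Finset.sum_congr rfl fun x _ => ?_
    rw [← hP.mul z (hZD z.2) ((x : G)⁻¹ * g * x), ← Subgroup.mem_center_iff.1 (hZ z.2), mul_assoc _ (x : G),
      Subgroup.mem_center_iff.1 (hZ z.2) x]
    congr 1
    group
  have hπ := f.subgroupComap_surjective_of_surjective (Ce D') hf
  have hi' : IsIrrCharacter (Ce D') fun c => θ' c := by
    obtain ⟨χ, hχ, e⟩ := H576.Ext.exists_irr_of_ker _ hπ hi fun z hz => by
      rw [← hθ', ← hθ', show f z = 1 from congrArg Subtype.val hz]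
      rfl
    convert hχ using 1
    funext c
    obtain ⟨c, rfl⟩ := hπ c
    exact (hθ' c).trans (e c)
  have hab : D' ≤ Ce D' := Subgroup.map_le_iff_le_comap.2 (hc.ab.trans h1)
  refine ⟨θ', ⟨hc.hM, hD', hab, hi', ?_, fun x hx => ?_, ?_⟩, ?_⟩
  · obtain ⟨B', hB'⟩ := S0919.result p M hc.hM D' (Ce D') (H641.isPGroup_of_isDefectGroup hD') hab le_rfl
      (Subgroup.centralizer_le_normalizer _) _ (Basic.isPBlock_blockOf ⟨_, hi'⟩)
    obtain ⟨χ', hχ'⟩ := Basic.isPBlock_nonempty hB'.2.1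
    obtain ⟨χ, hχ⟩ := Basic.isPBlock_nonempty hB
    rwa [Basic.isPBlock_eq_of_mem (isPBlock_defl hc.hM hZ hZp hB) hB'.2.1 (Basic.isPBlock_mem_of_sameBlock hB hχ
      (PRegular.sameBlock_of_isPRegular hc.hM χ.2 (infl Z χ').2 fun g hg => ?_)) hχ']
    have h5 := hB'.2.2 ⟨_, hi'⟩ (Basic.sameBlock_refl _) χ' hχ' (f g)
    have h6 : inducedCentralChar C (fun l => up (Ce D) C θ l) g = inducedCentralChar (Ce D') (fun c => θ' c) (f g) := by
      refine finsum_mem_eq_of_bijOn (f.subgroupComap (Ce D')) ⟨fun a ha => f.map_isConj ha, fun a ha b hb e => ?_, ?_⟩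
        fun a _ => ?_
      · obtain ⟨c, hc⟩ := isConj_iff.1 ha
        obtain ⟨c', hc'⟩ := isConj_iff.1 hb
        refine Subtype.ext (eq_of_mk_eq hZ hZp ?_ ?_ (congrArg Subtype.val e))
        · rwa [← hc, ← MulAut.conj_apply, MulEquiv.orderOf_eq]
        · rwa [← hc', ← MulAut.conj_apply, MulEquiv.orderOf_eq]
      · intro y hy
        obtain ⟨c, hc⟩ := isConj_iff.1 hy
        obtain ⟨c, rfl⟩ := hf c
        rw [← map_inv, ← map_mul, ← map_mul] at hc
        exact ⟨⟨c * g * c⁻¹, Subgroup.mem_comap.2 (hc ▸ y.2)⟩, isConj_iff.2 ⟨c, rfl⟩, Subtype.ext hc⟩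
      · exact congrArg₂ (· / ·) (hθ' a).symm (hθ' 1).symm
    rw [centralChar_infl hZ hZp χ' hg]
    exact Local.memLocalIdeal_sub_trans (Local.memLocalIdeal_sub_trans
      (Local.memLocalIdeal_sub_comm (hc.ind.2.2 ⟨_, hc.irr⟩ (Basic.sameBlock_refl _) χ hχ g))
      (up_icc hc.irr hc.zero h1 hi g)) (h6 ▸ h5)
  · obtain ⟨g, rfl⟩ := hf x
    rw [hθ']
    exact up_zero hc.zero hL fun h => hx (h1 h)
  · rintro _ ⟨d, hd, rfl⟩
    rw [← map_one f, hθ', hθ', up_apply, up_apply]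
    congr 1
    refine Finset.sum_congr rfl fun x _ => ?_
    rw [hc.triv _ ((Subgroup.mem_normalizer_iff''.1 (h2 x x.2) d).1 hd), mul_one, inv_mul_cancel]
  · rw [← Subgroup.map_comap_eq_self_of_surjective hf (In D' θ'), ← Subgroup.relIndex_comap,
      relIndex_eq (S := In D θ) (T := (In D' θ').comap f) (fun t ht => ⟨fun x => (Subgroup.mem_normalizer_iff.1 ((hN t).2 (hT t ht)) x).symm, fun x => ?_⟩)
        fun g hg => ?_, ← Subgroup.inf_relIndex_right, ← Subgroup.inf_relIndex_right (Ce D)]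
    · congr 1
      exact le_antisymm (fun x hx => ⟨h4 x hx.1 hx.2, hx.2⟩) (inf_le_inf_right _ h1)
    · obtain ⟨x, rfl⟩ := hf x
      show θ' (f t * f x * (f t)⁻¹) = _
      rw [← map_inv, ← map_mul, ← map_mul, hθ', hθ', up_cj (h3 t (hT t ht)) ht.2]
    · have hn := (hN g).1 (Subgroup.mem_normalizer_iff.2 fun x => (hg.1 x).symm)
      obtain ⟨x, hx, e⟩ := exists_of_up hc.irr hc.zero hL (norm_Ce hn) fun y => by
        rw [← hθ', ← hθ', map_mul, map_mul, map_inv]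
        exact hg.2 (f y)
      refine ⟨x * g, ⟨fun y => (Subgroup.mem_normalizer_iff.1 (mul_mem (h2 x hx) hn) y).symm, e⟩, ?_⟩
      rw [mul_inv_rev]
      exact (Subgroup.mem_normalizer_iff''.1 (h3 g hn) _).1 (inv_mem hx)

omit [Fact p.Prime] [Finite G] in
theorem preg_ext {f g : G → ℂ} (h : ∀ x, IsPRegular p x → f x = g x) : pRegularPart p f = pRegularPart p g := by
  funext x
  unfold pRegularPart
  split_ifs with hx
  · exact h x hx
  · rfl

omit [Fact p.Prime] [Finite G] in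
theorem preg_sum {ι : Type} (s : Finset ι) (c : ι → ℂ) (f : ι → G → ℂ) :
    pRegularPart p (fun x => ∑ i ∈ s, c i * f i x) = ∑ i ∈ s, c i • pRegularPart p (f i) := by
  funext x
  rw [Finset.sum_apply]
  unfold pRegularPart
  simp only [Pi.smul_apply, smul_eq_mul]
  split_ifs with hx
  · rfl
  · simp

end Cfsg.Agent.TO.Cy

namespace Cfsg.Agent.TO

open Cfsg Cfsg.Agent.Characters.Core Cfsg.Agent.Blocks Cfsg.Agent.H644.CentralQuot Cfsg.Agent.TO.Cy

/-- **the box CY** -/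
theorem boxCY (h1 : BoxCAN1) : BoxCY := by
  intro G _ _ p _ M B D θ hc hD u hu hu1 hup huc e he
  classical
  have := Fintype.ofFinite G
  have := finite_irr (G := G)
  have hp : p.Prime := Fact.out
  have hB := hc.ind.2.1
  let Z := Subgroup.zpowers u
  have hZ : Z ≤ Subgroup.center G := Subgroup.zpowers_le.2 huc
  have : Z.Normal := ⟨fun n hn g => by rwa [Subgroup.mem_center_iff.1 (hZ hn) g, mul_inv_cancel_right]⟩
  have := finite_irr (G := G ⧸ Z)
  have hZc : Nat.card Z = p := (Nat.card_zpowers u).trans (orderOf_eq_prime hup hu1)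
  have hZp : IsPGroup p Z := IsPGroup.of_card (hZc.trans (pow_one p).symm)
  obtain ⟨θ', hc', he'⟩ := quot_can hc (h1 G p M B D θ hc) hZ hZp
  have hD' : Nat.card (D.map (QuotientGroup.mk' Z)) = p ^ 1 := by
    have h2 := Subgroup.relIndex_mul_relIndex ⊥ Z D bot_le (Subgroup.zpowers_le.2 hu)
    rw [Subgroup.relIndex_bot_left, Subgroup.relIndex_bot_left, hZc, hD, ← QuotientGroup.ker_mk' Z, Subgroup.relIndex_ker,
      sq] at h2
    rw [pow_one]
    exact Nat.eq_of_mul_eq_mul_left hp.pos h2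
  have hcy : IsCyclic (D.map (QuotientGroup.mk' Z)) := isCyclic_of_prime_card (hD'.trans (pow_one p))
  have hr := S4695.result p M hc.hM _ hcy 1 le_rfl hD' _ hc'.ind.2.1 hc'.hD _ hc'.ind _ (mem_In_iff hc') e (he'.trans he)
  obtain ⟨h2, -, X, Y, hXY, hd, hX, hY, hYY, δ, δ₀, hδ, hδ₀, hrel, -⟩ :=
    S4696.result p M hc.hM _ hcy 1 le_rfl hD' _ hc'.ind.2.1 hc'.hD _ hc'.ind _ (mem_In_iff hc') e (he'.trans he)
  have hi := infl_injective Z
  have hrel' : ∀ ψ ∈ Y, ∀ g, IsPRegular p g → (δ₀ : ℂ) * (infl Z ψ).1 g + ∑ χ ∈ X.toFinite.toFinset, (δ χ : ℂ) * (infl Z χ).1 g = 0 :=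
    fun ψ hψ g hg => by
      rw [← hrel ψ hψ _ (not_dvd_orderOf_mk hg), finsum_mem_eq_finite_toFinset_sum _ X.toFinite]
      rfl
  refine ⟨h2, infl Z '' X, infl Z '' Y, ?_, Set.disjoint_image_of_injective hi hd, ?_, ?_, ?_, ?_,
    Function.extend (infl Z) δ 0, δ₀, ?_, hδ₀, ?_⟩
  · rw [← Set.image_union, ← hXY]
    ext χ
    refine ⟨fun ⟨h3, h4⟩ => ?_, ?_⟩
    · obtain ⟨c, hc⟩ := exists_scalar_center χ huc
      have h5 : c = 1 := by
        have h6 := hc 1
        rw [one_mul, h4] at h6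
        exact (mul_eq_right₀ (isIrr_apply_one_ne_zero χ.2)).1 h6.symm
      have h6 : ∀ n : ℕ, χ.1 (u ^ n) = χ.1 1 := fun n => by
        induction n with
        | zero => rw [pow_zero]
        | succ n ih => rw [pow_succ, hc, h5, one_mul, ih]
      obtain ⟨ψ, hψ, e⟩ := H576.Ext.exists_irr_of_ker _ (QuotientGroup.mk'_surjective Z) χ.2 fun z hz => by
        obtain ⟨n, rfl⟩ := (mem_powers_iff_mem_zpowers).2 ((QuotientGroup.eq_one_iff z).1 hz)
        exact h6 n
      have h7 : infl Z ⟨ψ, hψ⟩ = χ := Subtype.ext (funext fun g => (e g).symm)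
      exact ⟨⟨ψ, hψ⟩, mem_defl.2 (h7 ▸ h3), h7⟩
    · rintro ⟨ψ, hψ, rfl⟩
      exact ⟨hψ, by rw [infl_apply, infl_one, (QuotientGroup.eq_one_iff u).2 (Subgroup.mem_zpowers u)]⟩
  · rw [Set.ncard_image_of_injective _ hi, ← hX, Nat.card_coe_set_eq]
  · rw [Set.ncard_image_of_injective _ hi, ← pow_one p, ← hY, Nat.card_coe_set_eq]
  · rw [← hr, blockRank_defl hc.hM hZ hZp hB, blockRank, blockRank]
    refine congrArg (fun V : Submodule ℂ (G → ℂ) => Module.finrank ℂ V)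
      (le_antisymm (Submodule.span_mono (Set.image_mono ?_)) (Submodule.span_le.2 ?_))
    · rintro _ ⟨ψ, hψ, rfl⟩
      exact mem_defl.1 (hXY ▸ Or.inl hψ)
    · rintro _ ⟨χ, hχ, rfl⟩
      have := Fintype.ofFinite (defl Z B)
      obtain ⟨m, hm⟩ := H658.exists_int_defl hc.hM hZ hZp hB hχ
      show pRegularPart p χ.1 ∈ Submodule.span ℂ _
      rw [preg_ext hm, preg_sum]
      refine Submodule.sum_mem _ fun ψ _ => Submodule.smul_mem _ _ ?_
      rcases (hXY ▸ ψ.2 : ψ.1 ∈ X ∪ Y) with h | h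
      · exact Submodule.subset_span ⟨_, ⟨_, h, rfl⟩, rfl⟩
      · rw [preg_ext (g := fun g => ∑ χ ∈ X.toFinite.toFinset, (-δ₀ * δ χ : ℂ) * (infl Z χ).1 g) fun g hg => by
          have h3 := hrel' ψ h g hg
          simp only [mul_assoc, ← Finset.mul_sum]
          rcases hδ₀ with rfl | rfl <;> push_cast at h3 ⊢
          · linear_combination h3
          · linear_combination -h3, preg_sum]
        exact Submodule.sum_mem _ fun χ hχ => Submodule.smul_mem _ _
          (Submodule.subset_span ⟨_, ⟨_, X.toFinite.mem_toFinset.1 hχ, rfl⟩, rfl⟩)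
  · rintro _ ⟨ψ, hψ, rfl⟩ _ ⟨ψ', hψ', rfl⟩ g hg
    exact hYY ψ hψ ψ' hψ' _ (not_dvd_orderOf_mk hg)
  · rintro _ ⟨χ, hχ, rfl⟩
    rw [hi.extend_apply]
    exact hδ χ hχ
  · rintro _ ⟨ψ, hψ, rfl⟩ g hg
    rw [finsum_mem_image hi.injOn, finsum_mem_eq_finite_toFinset_sum _ X.toFinite]
    simp only [hi.extend_apply]
    exact hrel' ψ hψ g hg

end Cfsg.Agent.TO
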