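import Cfsg.Agent.TO.InvBase
import Cfsg.Agent.S4723

/-!
# S4817, the box FIX
-/

set_option autoImplicit false

namespace Cfsg.Agent.TO

open Cfsg Cfsg.Agent.Blocks.Basic Cfsg.Agent.Characters
open Cfsg.Agent.H660.BlockTransport Cfsg.Agent.TO.Inv

namespace Inv

/-- the length of an orbit is the index of the stabiliser -/
theorem ncard_Orb {G : Type} [Group G] (b : Set (IrrCharacter G)) (χ : G → ℂ) (S : Subgroup (Stab b))
    (hS : ∀ α, α ∈ S ↔ χ ∘ (α : MulAut G) = χ) : (Orb b χ).ncard = S.index := by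
  let act : MulAction (Stab b) (G → ℂ) :=
    { smul := fun α f => f ∘ ((α⁻¹ : Stab b) : MulAut G)
      one_smul := fun f => rfl
      mul_smul := fun α β f => by
        change f ∘ (((α * β)⁻¹ : Stab b) : MulAut G) =
          (f ∘ ((β⁻¹ : Stab b) : MulAut G)) ∘ ((α⁻¹ : Stab b) : MulAut G)
        rw [mul_inv_rev]
        rfl }
  have h1 : Orb b χ = MulAction.orbit (Stab b) χ := by
    ext f
    constructor
    · rintro ⟨α, hα, rfl⟩
      refine ⟨(⟨α, hα⟩ : Stab b)⁻¹, ?_⟩
      change χ ∘ (((⟨α, hα⟩ : Stab b)⁻¹⁻¹ : Stab b) : MulAut G) = _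
      rw [inv_inv]
    · rintro ⟨α, rfl⟩
      exact ⟨_, (α⁻¹).2, rfl⟩
  have h2 : S = MulAction.stabilizer (Stab b) χ := by
    ext α
    rw [← inv_mem_iff, hS]
    rfl
  rw [h1, h2, MulAction.index_stabilizer]

end Inv

theorem boxFIX : BoxFIX := by
  intro G _ _ p _ M b hM hb
  let K := G ⋊[(Stab b).subtype] (Stab b)
  have : Finite K := Finite.of_equiv _ SemidirectProduct.equivProd.symm
  let N : Subgroup K := (SemidirectProduct.inl : G →* K).range
  have hN : N = (SemidirectProduct.rightHom : K →* Stab b).ker := SemidirectProduct.range_inl_eq_ker_rightHom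
  have : N.Normal := hN ▸ inferInstance
  let e : G ≃* N := MonoidHom.ofInjective SemidirectProduct.inl_injective
  have he : ∀ x, (e x : K) = SemidirectProduct.inl x := fun _ => rfl
  -- conjugation by `k` on `N`
  let τ : K → MulAut G := fun k => MulAut.conj k.left * (k.right : MulAut G)
  have hτ : ∀ k, τ k ∈ Stab b := fun k => mul_mem (conj_mem_Stab b _) k.right.2
  have hconj : ∀ (k : K) (x : G), (e (τ k x) : K) = k * e x * k⁻¹ := by
    intro k x
    rw [he, he]
    ext
    · simp [τ, K]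
    · simp [K]
  obtain ⟨θ, hθ, -, S, -, hS, hp⟩ := S4723.result p M hM N (blockMap e b) (isPBlock_blockMap e hb) ⊤ (by
    intro k
    refine ⟨fun _ θ hθ θ' h => ?_, fun _ => trivial⟩
    rw [mem_blockMap, ← mem_Fn] at hθ ⊢
    refine (hτ k _).1 ?_
    convert hθ using 1
    funext x
    exact h (e x) (e (τ k x)) (hconj k x))
  rw [mem_blockMap] at hθ
  refine ⟨_, mem_Fn.2 hθ, ?_⟩
  have hcl := irr_isClassFunction (irrMap e.symm θ).2
  have hNS : N ≤ S := by
    intro k hk
    refine (hS k).2 ⟨trivial, fun h h' hh => ?_⟩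
    have : h' = ⟨k, hk⟩ * h * (⟨k, hk⟩ : N)⁻¹ := Subtype.ext hh
    rw [this, irr_conj θ.2]
  rw [ncard_Orb b _ (S.map SemidirectProduct.rightHom) ?_,
    Subgroup.index_map_eq _ SemidirectProduct.rightHom_surjective (hN ▸ hNS)]
  · rwa [Subgroup.relIndex_top_right] at hp
  intro α
  constructor
  · rintro ⟨k, hk, rfl⟩
    funext x
    have h1 := ((hS k).1 hk).2 (e x) (e (τ k x)) (hconj k x)
    have h2 := hcl ((k.right : MulAut G) x) k.left
    exact h2.symm.trans h1
  · intro h
    refine ⟨SemidirectProduct.inr α, (hS _).2 ⟨trivial, fun y y' hy => ?_⟩, rfl⟩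
    obtain ⟨x, rfl⟩ := e.surjective y
    have h1 : y' = e (τ (SemidirectProduct.inr α) x) := Subtype.ext (hy.trans (hconj _ x).symm)
    have h2 : τ (SemidirectProduct.inr α) x = (α : MulAut G) x := by simp [τ]
    rw [h1, h2]
    exact congrFun h x

end Cfsg.Agent.TO
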