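import Cfsg.Agent.TO.InvSec

/-!
# S4817, the boxes SUB and LOC
-/

set_option autoImplicit false

namespace Cfsg.Agent.TO

open Cfsg Cfsg.Agent.Blocks.Basic Cfsg.Agent.Blocks.Local Cfsg.Agent.Characters
open Cfsg.Agent.H660.BlockTransport Cfsg.Agent.H646.RegInner Cfsg.Agent.Blocks Cfsg.Agent.TO.Inv
open scoped ComplexConjugate

theorem boxSUB : BoxSUB := by
  intro G _ _ p _ M b D H u v hu hv hu1 hv1 c c' hc hc'
  classical
  have := Fintype.ofFinite G
  have := Fintype.ofFinite (Cu u)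
  have := Fintype.ofFinite (Cu v)
  have := Fintype.ofFinite (Stab b)
  have := isPrime_of_isPModular H.hM
  obtain ⟨χ₁, χ₂, h2⟩ := H.two
  obtain ⟨η, hη⟩ := line h2
  obtain ⟨F, hF⟩ := exists_sec H.hM hu hc (reg_mem c)
  obtain ⟨F', hF'⟩ := exists_sec H.hM hv hc' (reg_mem c')
  obtain ⟨t, ht⟩ := hη _ (av_mem hF.mem) (fun α hα => av_inv F hα) (av_reg hF hu1 isPRegular_one)
  obtain ⟨t', ht'⟩ := hη _ (av_mem hF'.mem) (fun α hα => av_inv F' hα) (av_reg hF' hv1 isPRegular_one)
  have h3 := av_self hu hF (reg_one_ne (isPBlock_nonempty hc.1))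
  have h3' := av_self hv hF' (reg_one_ne (isPBlock_nonempty hc'.1))
  rw [ht, Pi.smul_apply, smul_eq_mul, mul_ne_zero_iff] at h3
  rw [ht', Pi.smul_apply, smul_eq_mul, mul_ne_zero_iff] at h3'
  have h4 : classInner (av b F') (av b F) ≠ 0 := by
    rw [ht, ht', Core.classInner_smul_left, Core.classInner_smul_right]
    refine mul_ne_zero h3'.1 (mul_ne_zero (by simpa using h3.1) fun h => h3.2 ?_)
    rw [Core.classInner_self_eq_zero h]
    rfl
  rw [inner_av_right (fun α hα => av_inv F' hα), inner_av_left] at h4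
  obtain ⟨α, -, hα⟩ := Finset.exists_ne_zero_of_sum_ne_zero (right_ne_zero_of_mul h4)
  have h5 : IsConj v ((α : MulAut G) u) := by
    by_contra hn
    exact hα (inner_of_not_conj hu hF hF' α.2 hn)
  obtain ⟨β, hβ, e, hβα⟩ := exists_adjust hF' α.2 h5
  rw [← hβα, inner_of_eq hF hF' hβ e] at hα
  have h6 : blockMap (cuE β e).symm c' = c := by
    by_contra hne
    exact hα (inner_disjoint (isPBlock_disjoint (isPBlock_blockMap _ hc'.1) hc.1 hne)
      (comp_mem_V_blockMap _ (pReg_mem H.hM hc'.1 (reg_mem c'))) (pReg_mem H.hM hc.1 (reg_mem c)))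
  refine ⟨β, hβ, e, fun ξ' hξ' => ⟨irrMap (cuE β e).symm ξ', h6 ▸ irrMap_mem_blockMap.2 hξ', ?_⟩⟩
  intro x y hy
  rw [irrMap_apply]
  exact congrArg ξ'.1 (Subtype.ext hy.symm)

theorem boxLOC : BoxLOC := by
  intro G _ _ p _ M b D H u hu hu1 c hc f hf hinv x hx
  classical
  have := Fintype.ofFinite G
  have := Fintype.ofFinite (Cu u)
  have := Fintype.ofFinite (Stab b)
  have := isPrime_of_isPModular H.hM
  obtain ⟨χ₁, χ₂, h2⟩ := H.two
  obtain ⟨η, hη⟩ := line h2
  obtain ⟨F, hF⟩ := exists_sec H.hM hu hc hf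
  obtain ⟨F', hF'⟩ := exists_sec H.hM hu hc (reg_mem c)
  obtain ⟨t, ht⟩ := hη _ (av_mem hF.mem) (fun α hα => av_inv F hα) (av_reg hF hu1 isPRegular_one)
  obtain ⟨t', ht'⟩ := hη _ (av_mem hF'.mem) (fun α hα => av_inv F' hα) (av_reg hF' hu1 isPRegular_one)
  have h3 := av_self hu hF' (reg_one_ne (isPBlock_nonempty hc.1))
  rw [ht', Pi.smul_apply, smul_eq_mul, mul_ne_zero_iff] at h3
  have hK := hF.sub_smul hF' (t / t')
  set K := F - (t / t') • F' with hKd
  set k := f - (t / t') • reg c with hkd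
  have hk : k ∈ V c := Submodule.sub_mem _ hf (Submodule.smul_mem _ _ (reg_mem c))
  have h4 : av b K = 0 := by
    rw [hKd, av_sub_smul, ht, ht', smul_smul, div_mul_cancel₀ _ h3.1, sub_self]
  have h5 : ∑ α : Stab b, classInner (K ∘ (α : MulAut G)) K = 0 := by
    rw [← inner_av_left, h4, Core.classInner_zero_left]
  have h6 : classInner (pRegularPart p k) (pRegularPart p k) = 0 := by
    refine eq_zero_of_sum (fun α => ?_) 1 (inner_of_eq hK hK (one_mem _) rfl) h5
    by_cases h7 : IsConj u ((α : MulAut G) u)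
    · obtain ⟨β, hβ, e, hβα⟩ := exists_adjust hK α.2 h7
      rw [← hβα, inner_of_eq hK hK hβ e]
      by_cases h8 : blockMap (cuE β e).symm c = c
      · right
        congr 1
        funext s
        by_cases hs : p ∣ orderOf s
        · rw [pRegularPart_of_dvd hs, pRegularPart_of_dvd (by rwa [MulEquiv.orderOf_eq])]
        · rw [pRegularPart_of_not_dvd hs, pRegularPart_of_not_dvd (by rwa [MulEquiv.orderOf_eq]), hkd]
          simp only [Pi.sub_apply, Pi.smul_apply]
          rw [← reg_blockMap, h8, hinv β hβ e (fun ξ hξ => ⟨irrMap (cuE β e).symm ξ,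
            h8 ▸ irrMap_mem_blockMap.2 hξ, fun x y hy => ?_⟩) s (cuE β e s) rfl hs]
          rw [irrMap_apply]
          exact congrArg ξ.1 (Subtype.ext hy.symm)
      · left
        exact inner_disjoint (isPBlock_disjoint (isPBlock_blockMap _ hc.1) hc.1 h8)
          (comp_mem_V_blockMap _ (pReg_mem H.hM hc.1 hk)) (pReg_mem H.hM hc.1 hk)
    · left
      exact inner_of_not_conj hu hK hK α.2 h7
  have h9 : ∀ y, IsPRegular p y → f y = t / t' * reg c y := by
    intro y hy
    have := congrFun (Core.classInner_self_eq_zero h6) y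
    rw [pRegularPart_of_not_dvd hy, hkd] at this
    simp only [Pi.sub_apply, Pi.smul_apply, smul_eq_mul, Pi.zero_apply] at this
    exact sub_eq_zero.1 this
  rw [h9 x hx, h9 1 isPRegular_one]
  ring

end Cfsg.Agent.TO
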