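import Cfsg.Agent.TO.InvSec
import Cfsg.Agent.S0958
import Cfsg.Agent.Characters.Values

/-!
# S4817, the boxes T and NP
-/

set_option autoImplicit false

namespace Cfsg.Agent.TO

open Cfsg Cfsg.Agent.Blocks.Basic Cfsg.Agent.Blocks.Local Cfsg.Agent.Characters
open Cfsg.Agent.H660.BlockTransport Cfsg.Agent.H646.RegInner Cfsg.Agent.Blocks Cfsg.Agent.TO.Inv
open scoped ComplexConjugate

namespace Inv

/-- an element of a defect group has a block of its centralizer which induces the block -/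
theorem exists_local {G : Type} [Group G] [Finite G] {p : ℕ} [Fact p.Prime] {M : Ideal AlgInt}
    (hM : IsPModular p M) {b : Set (IrrCharacter G)} (hb : IsPBlock M b) {D : Subgroup G}
    (hD : IsDefectGroup p M b D) {u : G} (hu : u ∈ D) :
    PElt p u ∧ ∃ c : Set (IrrCharacter (Cu u)), IsInducedBlock M (Cu u) c b := by
  have hP : IsPGroup p D := isPGroup_of_isDefectGroup hD
  have hle : Subgroup.zpowers u ≤ D := Subgroup.zpowers_le.2 hu
  constructor
  · obtain ⟨k, hk⟩ := IsPGroup.iff_orderOf.1 hP ⟨u, hu⟩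
    exact ⟨k, by rw [← hk, Subgroup.orderOf_mk]⟩
  refine (S0958.result p M hM (Subgroup.zpowers u) (Cu u) (hP.to_le hle) ?_ ?_ b hb).2
    ⟨D, hD, 1, by rw [map_conj_one]; exact hle⟩
  · refine sup_le (Subgroup.zpowers_le.2 (Subgroup.mem_centralizer_singleton_iff.2 rfl)) ?_
    exact Subgroup.centralizer_le (Set.singleton_subset_iff.2 (Subgroup.mem_zpowers u))
  · refine le_trans ?_ (Subgroup.centralizer_le_normalizer _)
    intro x hx
    rw [Subgroup.mem_centralizer_iff]
    rintro _ ⟨n, rfl⟩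
    exact ((commute_Cu (⟨x, hx⟩ : Cu u)).zpow_left n).eq

/-- the invariants which vanish at `1` vanish on the `p`-regular elements -/
theorem W_sing {G : Type} [Group G] [Finite G] {p : ℕ} [Fact p.Prime] {M : Ideal AlgInt}
    {b : Set (IrrCharacter G)} {D : Subgroup G} (H : Two p M b D) {X : G → ℂ} (hX : X ∈ V b)
    (hinv : ∀ α ∈ Stab b, X ∘ α = X) (h1 : X 1 = 0) {x : G} (hx : IsPRegular p x) : X x = 0 := by
  classical
  have := Fintype.ofFinite G
  have := Fintype.ofFinite (Stab b)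
  have := isPrime_of_isPModular H.hM
  obtain ⟨u, hu, hu1⟩ : ∃ u ∈ D, u ≠ 1 := by
    by_contra hn
    push Not at hn
    have : Subsingleton D := ⟨fun a b => Subtype.ext ((hn a a.2).trans (hn b b.2).symm)⟩
    exact H.nc inferInstance
  have := Fintype.ofFinite (Cu u)
  obtain ⟨hup, c, hc⟩ := exists_local H.hM H.hb H.hD hu
  obtain ⟨χ₁, χ₂, h2⟩ := H.two
  obtain ⟨η, hη⟩ := line h2
  obtain ⟨F, hF⟩ := exists_sec H.hM hup hc (reg_mem c)
  obtain ⟨t, ht⟩ := hη _ (av_mem hF.mem) (fun α hα => av_inv F hα) (av_reg hF hu1 isPRegular_one)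
  obtain ⟨t', ht'⟩ := hη _ hX hinv h1
  have h3 := av_self hup hF (reg_one_ne (isPBlock_nonempty hc.1))
  rw [ht, Pi.smul_apply, smul_eq_mul, mul_ne_zero_iff] at h3
  have h4 := av_reg hF hu1 hx
  rw [ht, Pi.smul_apply, smul_eq_mul, mul_eq_zero] at h4
  rw [ht', Pi.smul_apply, h4.resolve_left h3.1, smul_zero]

/-- the averages of two members are proportional on the `p`-regular elements -/
theorem av_prop {G : Type} [Group G] [Finite G] {p : ℕ} [Fact p.Prime] {M : Ideal AlgInt}
    {b : Set (IrrCharacter G)} {D : Subgroup G} (H : Two p M b D) [Fintype (Stab b)] {χ ψ : G → ℂ}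
    (hχ : χ ∈ Fn b) (hψ : ψ ∈ Fn b) {x : G} (hx : IsPRegular p x) :
    av b χ x * ψ 1 = av b ψ x * χ 1 := by
  have h := W_sing H (X := ψ 1 • av b χ - χ 1 • av b ψ)
    (Submodule.sub_mem _ (Submodule.smul_mem _ _ (av_mem (Submodule.subset_span hχ)))
      (Submodule.smul_mem _ _ (av_mem (Submodule.subset_span hψ))))
    (fun α hα => by
      conv_rhs => rw [← av_inv χ hα, ← av_inv ψ hα]
      rfl)
    (by
      simp only [Pi.sub_apply, Pi.smul_apply, av_apply, map_one, smul_eq_mul, Finset.sum_const,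
        nsmul_eq_mul]
      ring) hx
  simp only [Pi.sub_apply, Pi.smul_apply, smul_eq_mul] at h
  linear_combination h

/-- a normal subgroup of a perfect group which contains the `p`-regular elements -/
theorem eq_top_of_regular {G : Type} [Group G] [Finite G] {p : ℕ} [Fact p.Prime] (hG : commutator G = ⊤)
    (K : Subgroup G) [K.Normal] (hK : ∀ x, IsPRegular p x → x ∈ K) : K = ⊤ := by
  have hP : IsPGroup p (G ⧸ K) := by
    intro q
    obtain ⟨g, rfl⟩ := QuotientGroup.mk_surjective q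
    obtain ⟨x, y, rfl, -, ⟨k, hk⟩, hy⟩ := PPart.exists_isPPart p g
    refine ⟨k, ?_⟩
    rw [QuotientGroup.mk_mul, (QuotientGroup.eq_one_iff y).2 (hK y hy), mul_one, ← QuotientGroup.mk_pow,
      ← hk, pow_orderOf_eq_one, QuotientGroup.mk_one]
  have := hP.isNilpotent
  have h1 : commutator (G ⧸ K) = ⊤ := by
    rw [commutator_def, ← Subgroup.map_top_of_surjective _ (QuotientGroup.mk'_surjective K),
      ← Subgroup.map_commutator, ← commutator_def, hG]
  by_contra hne
  have : Nontrivial (G ⧸ K) := QuotientGroup.nontrivial_iff.2 hne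
  exact (Group.IsSolvable.commutator_lt_top_of_nontrivial (G ⧸ K)).ne h1

end Inv

theorem boxT : BoxT := by
  intro G _ _ p _ M b D H γ hγ hinv χ hχ ψ hψ
  classical
  have := Fintype.ofFinite (Stab b)
  have h1 : ∀ f : G → ℂ, ∑ x, av b f x * γ x = (Fintype.card (Stab b) : ℂ) * ∑ x, f x * γ x := by
    intro f
    simp only [av_apply, Finset.sum_mul]
    rw [Finset.sum_comm, Finset.sum_congr rfl (g := fun _ => ∑ x, f x * γ x), Finset.sum_const,
      Finset.card_univ, nsmul_eq_mul]
    intro α _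
    refine Fintype.sum_equiv (α : MulAut G).toEquiv _ _ fun x => ?_
    rw [← hinv α α.2 x]
    rfl
  have h2 : (∑ x, av b χ x * γ x) * ψ 1 = (∑ x, av b ψ x * γ x) * χ 1 := by
    rw [Finset.sum_mul, Finset.sum_mul]
    refine Finset.sum_congr rfl fun x _ => ?_
    by_cases hx : IsPRegular p x
    · linear_combination γ x * av_prop H hχ hψ hx
    · rw [hγ x hx]
      ring
  rw [h1, h1, mul_assoc, mul_assoc] at h2
  exact mul_left_cancel₀ (Nat.cast_ne_zero.2 Fintype.card_ne_zero) h2

theorem boxNP : BoxNP := by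
  intro G _ _ p _ M b D H hG h1
  classical
  have := Fintype.ofFinite G
  have := Fintype.ofFinite (Stab b)
  have key : ∀ χ ∈ Fn b, χ 1 = 1 := by
    intro χ hχ
    obtain ⟨ξ, hξ, rfl⟩ := hχ
    obtain ⟨n, ρ, hρ, hch⟩ := ξ.2
    have hd : ξ.1 1 = (Module.finrank ℂ (Fin n → ℂ) : ℂ) := by rw [← hch, Representation.char_one]
    have hreg : ∀ x, IsPRegular p x → x ∈ MonoidHom.ker ρ := by
      intro x hx
      have h2 := av_prop H (mem_Fn.2 hξ) h1 hx
      simp only [av_apply, mul_one, Finset.sum_const, nsmul_eq_mul] at h2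
      have h3 : ∑ α : Stab b, ((Module.finrank ℂ (Fin n → ℂ) : ℝ) - (ξ.1 ((α : MulAut G) x)).re) = 0 := by
        rw [Finset.sum_sub_distrib, ← Complex.re_sum, h2, hd]
        simp
      have h4 : ∀ y, ‖ξ.1 y‖ ≤ Module.finrank ℂ (Fin n → ℂ) := fun y => hch ▸ Values.norm_character_le ρ y
      rw [Finset.sum_eq_zero_iff_of_nonneg
        (fun α _ => sub_nonneg.2 ((Complex.re_le_norm _).trans (h4 _)))] at h3
      have h5 : (ξ.1 x).re = Module.finrank ℂ (Fin n → ℂ) := (sub_eq_zero.1 (h3 1 (Finset.mem_univ _))).symm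
      have h6 : (ξ.1 x).re = ‖ξ.1 x‖ := le_antisymm (Complex.re_le_norm _) (h5 ▸ h4 x)
      have h7 : ξ.1 x = (Module.finrank ℂ (Fin n → ℂ) : ℂ) := by
        apply Complex.ext
        · simpa using h5
        · have h8 := Complex.abs_re_eq_norm.1 (by rw [← h6, abs_of_nonneg]; rw [h6]; exact norm_nonneg _ :
            |(ξ.1 x).re| = ‖ξ.1 x‖)
          simpa using h8
      rw [MonoidHom.mem_ker]
      exact (Values.character_eq_finrank_iff ρ x).1 (hch ▸ h7)
    have htop := eq_top_of_regular (p := p) hG _ hreg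
    have hconst : ∀ x, ξ.1 x = ξ.1 1 := by
      intro x
      have hx : ρ x = 1 := MonoidHom.mem_ker.1 (htop ▸ Subgroup.mem_top x)
      rw [hd, ← hch]
      exact (Values.character_eq_finrank_iff ρ x).2 hx
    by_contra hne
    have h9 := Core.classInner_irr_ne ξ.2 isIrrCharacter_one (fun h => hne (congrFun h 1))
    rw [Core.classInner_def] at h9
    simp only [hconst, map_one, mul_one, Finset.sum_const, Finset.card_univ, nsmul_eq_mul,
      ← Nat.card_eq_fintype_card] at h9
    rw [← mul_assoc, inv_mul_cancel₀ Core.card_ne_zero_complex, one_mul] at h9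
    exact irr_one_ne_zero ξ.2 h9
  obtain ⟨χ₁, χ₂, h2⟩ := H.two
  exact h2.ne ((key _ h2.m1).trans (key _ h2.m2).symm)

end Cfsg.Agent.TO
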