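import Cfsg.Agent.TO.Q8T
import Cfsg.Agent.S4683
import Cfsg.Agent.S4889
import Cfsg.Agent.S4690
import Cfsg.Agent.S0925

/-!
# S4817, box Q8A: the generalized decomposition numbers for a regular inertial quotient
-/

set_option autoImplicit false
set_option linter.unusedSectionVars false

namespace Cfsg.Agent.TO.Q8

open Cfsg Cfsg.Agent.Blocks.Basic Cfsg.Agent.Blocks.Local Cfsg.Agent.H650
open scoped ComplexConjugate

/-- the value at `1` of the `c`-part of `s ↦ f (u s)` -/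
noncomputable def dd {G : Type} [Group G] [Finite G] (u : G) (c : Set (IrrCharacter (Cu u))) (f : G → ℂ) : ℂ :=
  blockPart c (fun s : Cu u => f (u * (s : G))) 1

theorem cube_add_conj {l : ℂ} (h1 : l * conj l = 1) (h3 : l ^ 3 = 1) : ∃ m : ℤ, l + conj l = m := by
  have h4 : conj l = l ^ 2 := by
    calc conj l = l ^ 3 * conj l := by rw [h3, one_mul]
      _ = l ^ 2 * (l * conj l) := by ring
      _ = l ^ 2 := by rw [h1, mul_one]
  have h5 : (l - 1) * (l ^ 2 + l + 1) = 0 := by linear_combination h3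
  rcases mul_eq_zero.1 h5 with h | h
  · exact ⟨2, by rw [h4, sub_eq_zero.1 h]; norm_num⟩
  · exact ⟨-1, by rw [h4]; push_cast; linear_combination h⟩

theorem int_of_half {d : ℂ} (hd : IsIntegral ℤ d) {m : ℤ} (h : d + d = m) : ∃ z : ℤ, d = z := by
  have h1 : d = algebraMap ℚ ℂ ((m : ℚ) / 2) := by
    simp only [map_div₀, map_intCast, map_ofNat]
    linear_combination h / 2
  rw [h1, isIntegral_algebraMap_iff (algebraMap ℚ ℂ).injective] at hd
  obtain ⟨z, hz⟩ := IsIntegrallyClosed.isIntegral_iff.1 hd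
  refine ⟨z, ?_⟩
  rw [h1, ← hz]
  simp

variable {G : Type} [Group G] [Finite G] {M : Ideal AlgInt}

theorem inner_shift {u : G} [Fintype (Cu u)] (hu : u ^ 3 = 1) {f : G → ℂ} (hf : IsIrrCharacter G f)
    (ξ : IrrCharacter (Cu u)) : ∃ (n : ℕ) (l : ℂ), l * conj l = 1 ∧ l ^ 3 = 1 ∧
      classInner (fun s : Cu u => f (u * (s : G))) (ξ : Cu u → ℂ) = n * l := by
  obtain ⟨z, hz, hzc⟩ := exists_zH (G := G) (z := u) (H := Cu u) rfl
  obtain ⟨l, hl, hl'⟩ := Blocks.CentralizerSum.exists_central_scalar ξ.2 hzc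
  obtain ⟨n, hn⟩ := Characters.Core.classInner_isNat
    (Characters.Core.isCharacter_comp (Cu u).subtype (irr_isCharacter hf)) (irr_isCharacter ξ.2)
  have h3 : l ^ 3 = 1 := by
    have e : z * (z * (z * 1)) = 1 := Subtype.ext (by
      simp only [Subgroup.coe_mul, hz, Subgroup.coe_one]
      rw [mul_one, ← pow_three, hu])
    have h := hl' (z * (z * 1))
    rw [e, hl', hl'] at h
    refine mul_right_cancel₀ (irr_one_ne_zero ξ.2) ?_
    linear_combination -h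
  refine ⟨n, l, hl, h3, ?_⟩
  rw [← hn, classInner_def, classInner_def, mul_assoc, Finset.sum_mul, ← Equiv.sum_comp (Equiv.mulLeft z)
    (fun g => (f ∘ (Cu u).subtype) g * conj ((ξ : Cu u → ℂ) g) * l)]
  congr 1
  refine Finset.sum_congr rfl fun s _ => ?_
  rw [Equiv.coe_mulLeft, hl', map_mul]
  have : (f ∘ (Cu u).subtype) (z * s) = f (u * (s : G)) := by
    simp [hz]
  rw [this]
  linear_combination (-(f (u * (s : G)) * conj ((ξ : Cu u → ℂ) s))) * hl

/-- a real generalized decomposition number is an integer -/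
theorem dd_int {u : G} (hu : u ^ 3 = 1) {c : Set (IrrCharacter (Cu u))} {a : ℕ} (ha : 0 < a)
    (hc : ∀ ξ ∈ c, (ξ : Cu u → ℂ) 1 = a) {f : G → ℂ} (hf : IsIrrCharacter G f) (hr : conj (dd u c f) = dd u c f) :
    ∃ z : ℤ, dd u c f = z * a := by
  classical
  have := Fintype.ofFinite (Cu u)
  have : Finite (IrrCharacter (Cu u)) := Characters.Core.finite_irr
  have := Fintype.ofFinite (IrrCharacter (Cu u))
  choose n l h1 h3 h using fun ξ => inner_shift hu hf ξ
  have e : dd u c f = (∑ ξ : IrrCharacter (Cu u) with ξ ∈ c, n ξ * l ξ) * a := by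
    rw [dd, Blocks.CentralizerSum.blockPart_eq, finsum_mem_eq_sum_filter', Finset.sum_mul]
    refine Finset.sum_congr rfl fun ξ hξ => ?_
    rw [h, hc ξ (Finset.mem_filter.1 hξ).2]
  have ha' : (a : ℂ) ≠ 0 := Nat.cast_ne_zero.2 ha.ne'
  rw [e, map_mul, map_natCast, mul_left_inj' ha'] at hr
  have hi : IsIntegral ℤ (∑ ξ : IrrCharacter (Cu u) with ξ ∈ c, n ξ * l ξ) :=
    IsIntegral.sum _ fun ξ _ => (isIntegral_natCast _).mul (IsIntegral.of_pow (n := 3) (by norm_num)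
      (by rw [h3]; exact isIntegral_one))
  choose m hm using fun ξ => cube_add_conj (h1 ξ) (h3 ξ)
  obtain ⟨z, hz⟩ := int_of_half hi (m := ∑ ξ : IrrCharacter (Cu u) with ξ ∈ c, n ξ * m ξ) (by
    nth_rewrite 2 [← hr]
    rw [map_sum, ← Finset.sum_add_distrib]
    push_cast
    refine Finset.sum_congr rfl fun ξ _ => ?_
    rw [map_mul, map_natCast, ← hm]
    ring)
  exact ⟨z, by rw [e, hz]⟩

variable {p : ℕ} [Fact p.Prime] {b : Set (IrrCharacter G)}

theorem dd_sum_sq (hM : IsPModular p M) {u : G} (hu : PElt p u) {c : Set (IrrCharacter (Cu u))}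
    (hc : IsInducedBlock M (Cu u) c b) :
    ∑ᶠ χ ∈ b, dd u c (χ : G → ℂ) * conj (dd u c (χ : G → ℂ)) = ∑ᶠ ξ ∈ c, (ξ : Cu u → ℂ) 1 * conj ((ξ : Cu u → ℂ) 1) := by
  classical
  have := isPrime_of_isPModular hM
  have : Finite (IrrCharacter (Cu u)) := Characters.Core.finite_irr
  have := Fintype.ofFinite (IrrCharacter (Cu u))
  have : Finite (IrrCharacter G) := Characters.Core.finite_irr
  have := Fintype.ofFinite (IrrCharacter G)
  have h1 : ¬ p ∣ orderOf (1 : Cu u) := by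
    rw [orderOf_one, Nat.dvd_one]
    exact hM.1.ne_one
  have h2 := sum_blockPart_mul_blockPart hM hu (H := Cu u) rfl (isUnB_of_isPBlock hc.1) (isUnB_of_isPBlock hc.1)
    1 1 h1 h1
  simp only [and_self] at h2
  rw [finsum_mem_eq_sum_filter', finsum_mem_eq_sum_filter', ← h2, Finset.sum_filter]
  refine Finset.sum_congr rfl fun χ _ => ?_
  split_ifs with hχ
  · rfl
  · rw [Blocks.CentralizerSum.secondMain hM hu rfl (isPBlock_blockOf χ) χ (mem_blockOf_self χ) hc.1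
      (fun h => hχ ?_) 1 h1, zero_mul]
    rw [Blocks.CentralizerSum.inducedBlock_unique hc h]
    exact mem_blockOf_self χ

theorem dd_sum_deg (hM : IsPModular p M) (hb : IsPBlock M b) {u : G} (hu : PElt p u) (hu1 : u ≠ 1)
    {c : Set (IrrCharacter (Cu u))} (hc : IsPBlock M c) : ∑ᶠ χ ∈ b, (χ : G → ℂ) 1 * dd u c (χ : G → ℂ) = 0 := by
  classical
  have := Fintype.ofFinite (Cu u)
  have : Finite (IrrCharacter (Cu u)) := Characters.Core.finite_irr
  have := Fintype.ofFinite (IrrCharacter (Cu u))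
  have : Finite (IrrCharacter G) := Characters.Core.finite_irr
  have := Fintype.ofFinite (IrrCharacter G)
  have h1 : ¬ p ∣ orderOf (1 : G) := by
    rw [orderOf_one, Nat.dvd_one]
    exact hM.1.ne_one
  have h1' : ¬ p ∣ orderOf (1 : Cu u) := by
    rw [orderOf_one, Nat.dvd_one]
    exact hM.1.ne_one
  have h2 := (S0925.result (G := Cu u) p M hM).1
    (∑ χ : IrrCharacter G with χ ∈ b, (χ : G → ℂ) 1 • fun s : Cu u => (χ : G → ℂ) (u * (s : G)))
    (fun g h => by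
      simp only [Finset.sum_apply, Pi.smul_apply]
      refine Finset.sum_congr rfl fun χ _ => ?_
      exact congrArg _ (isClassFunction_mul_left (H := Cu u) rfl (irr_isClassFunction χ.2) g h))
    1 ⟨0, by simp⟩ (fun s z hs hz => by
      obtain rfl : z = 1 := isConj_one_right.1 hz
      obtain ⟨y, hy, -, -, hy'⟩ := hs
      rw [one_mul] at hy
      subst hy
      have h3 := (S0925.result (G := G) p M hM).2 (u * (y : G)) 1 u 1
        ⟨y, rfl, (mem_cu.1 y.2).symm, hu, by rwa [Subgroup.orderOf_coe]⟩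
        ⟨1, by simp, Commute.refl _, ⟨0, by simp⟩, h1⟩ (fun h => hu1 (isConj_one_left.1 h)) b hb
      rw [finsum_mem_eq_sum_filter', inv_one] at h3
      simp only [Finset.sum_apply, Pi.smul_apply, smul_eq_mul]
      rw [← h3]
      exact Finset.sum_congr rfl fun χ _ => mul_comm _ _) c hc 1 1
    ⟨1, by simp, Commute.refl _, ⟨0, by simp⟩, h1'⟩ (IsConj.refl _)
  rw [Blocks.CentralizerSum.blockPart_eq, finsum_mem_eq_sum_filter'] at h2
  rw [finsum_mem_eq_sum_filter', ← h2]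
  simp only [dd, Blocks.CentralizerSum.blockPart_eq, finsum_mem_eq_sum_filter', Characters.Core.classInner_sum_left,
    Characters.Core.classInner_smul_left, Finset.mul_sum, Finset.sum_mul]
  rw [Finset.sum_comm]
  exact Finset.sum_congr rfl fun ξ _ => Finset.sum_congr rfl fun χ _ => by ring

variable {D : Subgroup G} {θ : G → ℂ}

theorem dd_comp {u : G} {c : Set (IrrCharacter (Cu u))} (hle : LA (D.subgroupOf (Cu u)) (fun x : Cu u => θ x) ≤ Stab c)
    {γ : MulAut G} (hγ : γ ∈ LA D θ) (hu : γ u = u) (f : G → ℂ) : dd u c (f ∘ γ) = dd u c f := by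
  have h : ∀ x, γ x ∈ Cu u ↔ x ∈ Cu u := fun x => by
    nth_rewrite 1 [← hu]
    exact map_mem_cu γ u x
  rw [dd, dd, ← blockPart_comp (hle (resAut_mem_LA hγ _ h)) (fun s : Cu u => f (u * (s : G)))]
  congr 1
  funext s
  rw [resAut_coe, Function.comp_apply, map_mul, hu]

theorem dd_real {u : G} {c : Set (IrrCharacter (Cu u))} (hle : LA (D.subgroupOf (Cu u)) (fun x : Cu u => θ x) ≤ Stab c)
    {t : G} (ht : t ∈ In D θ) (hu : t * u * t⁻¹ = u⁻¹) {f : G → ℂ} (hf : IsIrrCharacter G f) :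
    conj (dd u c f) = dd u c f := by
  have h : ∀ x, MulAut.conj t x ∈ Cu u ↔ x ∈ Cu u := fun x => by
    rw [← map_mem_cu (MulAut.conj t) u x, MulAut.conj_apply t u, hu, cu_inv]
  have h1 := S4683.blockPart_inv (H := Cu u) (u := u) rfl c ⟨f, hf⟩ 1
  rw [inv_one] at h1
  rw [dd, ← h1, ← blockPart_comp (hle (resAut_mem_LA ht _ h))]
  congr 1
  funext s
  rw [resAut_coe, MulAut.conj_apply, ← hu, ← irr_conj hf (u * s) t]
  group

/-- a block with abelian defect group whose members have the same degree has `|D|` members -/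
theorem card_of_deg (hC : Can p M b D θ) (h : ∀ χ ∈ Fn b, ∀ ψ ∈ Fn b, χ 1 = ψ 1) : b.ncard = Nat.card D := by
  have := isPrime_of_isPModular hC.hM
  have := Fintype.ofFinite G
  have hb : IsPBlock M b := hC.ind.2.1
  obtain ⟨χ₀, h₀⟩ := isPBlock_nonempty hb
  have hd : ∀ χ : IrrCharacter G, χ ∈ b → charDegree (χ : G → ℂ) = charDegree (χ₀ : G → ℂ) := fun χ hχ => by
    rw [charDegree_def, charDegree_def, h _ (fn_mk.2 hχ) _ (fn_mk.2 h₀)]
  have hab : IsMulCommutative D := ⟨⟨fun x y => Subtype.ext (mem_ce.1 (hC.ab y.2) x x.2)⟩⟩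
  have hn := (S4889.result p M hC.hM b hb D hC.hD hab fun χ hχ => by
    have : (fun ψ : IrrCharacter G => (charDegree (ψ : G → ℂ)).factorization p) '' b =
        {(charDegree (χ : G → ℂ)).factorization p} := by
      ext k
      constructor
      · rintro ⟨ψ, hψ, rfl⟩
        simp only [Set.mem_singleton_iff, hd ψ hψ, hd χ hχ]
      · rintro rfl
        exact ⟨χ, hχ, rfl⟩
    rw [blockHeight_def, this, csInf_singleton, Nat.sub_self]).1 ⟨_, hd⟩
  obtain ⟨Φ, -⟩ := S4690.result p M hC.hM b hn D hC.hD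
  rw [← Nat.card_coe_set_eq, Nat.card_congr Φ, Characters.Core.card_irr]
  refine (Nat.card_congr (Equiv.ofBijective ConjClasses.mk ⟨fun x y e => ?_, ConjClasses.mk_surjective⟩)).symm
  obtain ⟨g, hg⟩ := isConj_iff.1 (ConjClasses.mk_eq_mk_iff_isConj.1 e)
  rw [← hg, hab.is_comm.comm g x, mul_inv_cancel_right]

theorem in_cu_le (hC : Can p M b D θ) {u : G} (hu : u ∈ D) {t : Cu u}
    (ht : t ∈ In (D.subgroupOf (Cu u)) (fun x : Cu u => θ x)) : (t : G) ∈ In D θ := by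
  have hD : D ≤ Cu u := hC.ab.trans (ce_le_cu hu)
  have h1 : ∀ x : G, (t : G) * x * (t : G)⁻¹ ∈ Cu u ↔ x ∈ Cu u := fun x => by
    rw [mul_mem_cancel_right (inv_mem t.2), mul_mem_cancel_left t.2]
  refine ⟨fun x => ⟨fun h => ?_, fun h => ?_⟩, fun g => ?_⟩
  · exact (ht.1 ⟨x, (h1 x).1 (hD h)⟩).1 h
  · exact (ht.1 ⟨x, hD h⟩).2 h
  · by_cases hg : g ∈ Cu u
    · exact ht.2 ⟨g, hg⟩
    · rw [hC.zero g fun h => hg (ce_le_cu hu h)]
      exact hC.zero _ fun h => hg ((h1 g).1 (ce_le_cu hu h))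

theorem cube_eq_one (h9 : Nat.card D = 9) (hn : ¬ IsCyclic D) {u : G} (hu : u ∈ D) : u ^ 3 = 1 := by
  have h1 : orderOf (⟨u, hu⟩ : D) ∣ 3 ^ 2 := by
    have := orderOf_dvd_natCard (⟨u, hu⟩ : D)
    rwa [h9] at this
  obtain ⟨k, hk, e⟩ := (Nat.dvd_prime_pow Nat.prime_three).1 h1
  have h2 : orderOf (⟨u, hu⟩ : D) ∣ 3 := by
    interval_cases k
    · rw [e]; norm_num
    · rw [e]; norm_num
    · exact absurd (isCyclic_of_orderOf_eq_card _ (by rw [e, h9]; norm_num)) hn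
  exact congrArg Subtype.val (orderOf_dvd_iff_pow_eq_one.1 h2)

end Cfsg.Agent.TO.Q8

namespace Cfsg.Agent.TO

open Cfsg Cfsg.Agent.Blocks.Basic Cfsg.Agent.Blocks.Local Q8
open scoped ComplexConjugate

theorem boxQ8A (hc : BoxCAN1) : BoxQ8A := by
  intro G _ _ M b D θ H hC h9 hR χ₁ χ₂ h2
  have : Fact (Nat.Prime 3) := ⟨Nat.prime_three⟩
  have := isPrime_of_isPModular H.hM
  have P := hc G 3 M b D θ hC
  have hnt : Nontrivial D := Finite.one_lt_card_iff_nontrivial.1 (by rw [h9]; norm_num)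
  obtain ⟨⟨u, hu⟩, hu1⟩ := exists_ne (1 : D)
  have hu1 : u ≠ 1 := fun e => hu1 (Subtype.ext e)
  have h3 : u ^ 3 = 1 := cube_eq_one h9 H.nc hu
  have hup : PElt 3 u := ⟨1, by rw [pow_one]; exact orderOf_eq_prime h3 hu1⟩
  obtain ⟨c, hci, hcC⟩ := P.loc u hu
  have Pc := hc _ 3 M c _ _ hcC
  have hD : D ≤ Cu u := hC.ab.trans (ce_le_cu hu)
  have hdeg := Pc.nil fun t ht => mem_ce.2 fun d hd => Subtype.ext
    (mem_ce.1 (hR.2 t (in_cu_le hC hu ht) u hu hu1 (by rw [mem_cu.1 t.2, mul_inv_cancel_right])) d hd)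
  have hcard : c.ncard = 9 := by
    rw [card_of_deg hcC hdeg, ← h9]
    exact Nat.card_congr (Subgroup.subgroupOfEquivOfLe hD).toEquiv
  obtain ⟨ξ₀, hξ₀⟩ := isPBlock_nonempty hci.1
  obtain ⟨a, ha, ea⟩ := irr_one_eq_natCast ξ₀.2
  have hca : ∀ ξ ∈ c, (ξ : Cu u → ℂ) 1 = a := fun ξ hξ => (hdeg _ (fn_mk.2 hξ) _ (fn_mk.2 hξ₀)).trans ea
  obtain ⟨t, ht, htu⟩ := hR.1 u hu u⁻¹ (inv_mem hu) hu1 (inv_ne_one.2 hu1)
  have hinv : ∀ f ∈ Fn b, ∀ α ∈ Stab b, dd u c (f ∘ α) = dd u c f := by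
    intro f hf α hα
    obtain ⟨g, hg⟩ := P.frat α hα
    obtain ⟨s, hs, hsu⟩ := hR.1 _ ((hg.1 u).2 hu) u hu (fun e => hu1 ((MulEquiv.map_eq_one_iff _).1 e)) hu1
    rw [← dd_comp Pc.le (mul_mem hs hg) hsu f, comp_mul, comp_mul, comp_conj (fn_irr hf), comp_conj (fn_irr hf)]
  obtain ⟨z₁, e₁⟩ := dd_int h3 ha hca (fn_irr h2.m1) (dd_real Pc.le ht htu (fn_irr h2.m1))
  obtain ⟨z₂, e₂⟩ := dd_int h3 ha hca (fn_irr h2.m2) (dd_real Pc.le ht htu (fn_irr h2.m2))
  have s1 := dd_sum_sq H.hM hup hci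
  rw [sum_two h2 (fun f => dd u c f * conj (dd u c f)) fun f hf α hα => by rw [hinv f hf α hα]] at s1
  have s2 := dd_sum_deg H.hM H.hb hup hu1 hci.1
  rw [sum_two h2 (fun f => f 1 * dd u c f) fun f hf α hα => by rw [hinv f hf α hα]; simp] at s2
  have s3 : ∑ᶠ ξ ∈ c, (ξ : Cu u → ℂ) 1 * conj ((ξ : Cu u → ℂ) 1) = 9 * (a * a) := by
    have : Finite (IrrCharacter (Cu u)) := Characters.Core.finite_irr
    rw [finsum_mem_congr rfl (g := fun _ => (a : ℂ) * a) fun ξ hξ => by rw [hca ξ hξ, map_natCast],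
      finsum_mem_eq_finite_toFinset_sum _ (Set.toFinite c), Finset.sum_const,
      ← Set.ncard_eq_toFinset_card _ (Set.toFinite c), hcard, nsmul_eq_mul]
    norm_num
  have ha' : (a : ℂ) ≠ 0 := Nat.cast_ne_zero.2 ha.ne'
  obtain ⟨a₁, p₁, f₁⟩ := irr_one_eq_natCast (fn_irr h2.m1)
  obtain ⟨a₂, p₂, f₂⟩ := irr_one_eq_natCast (fn_irr h2.m2)
  have k₁ : 0 < (Orb b χ₁).ncard := (Set.ncard_pos ((fn_finite b).subset (orb_sub h2.m1))).2 ⟨_, self_mem_orb b χ₁⟩
  have k₂ : 0 < (Orb b χ₂).ncard := (Set.ncard_pos ((fn_finite b).subset (orb_sub h2.m2))).2 ⟨_, self_mem_orb b χ₂⟩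
  generalize (Orb b χ₁).ncard = n₁ at *
  generalize (Orb b χ₂).ncard = n₂ at *
  simp only [s3, e₁, e₂, f₁, f₂, map_mul, map_natCast, map_intCast] at s1 s2
  have t1 : (n₁ : ℤ) * z₁ ^ 2 + n₂ * z₂ ^ 2 = 9 := by
    have : ((n₁ : ℂ) * z₁ ^ 2 + n₂ * z₂ ^ 2) * (a * a) = 9 * (a * a) := by linear_combination s1
    exact_mod_cast mul_right_cancel₀ (mul_ne_zero ha' ha') this
  have t2 : (n₁ : ℤ) * a₁ * z₁ + n₂ * a₂ * z₂ = 0 := by
    have : ((n₁ : ℂ) * a₁ * z₁ + n₂ * a₂ * z₂) * a = 0 := by linear_combination s2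
    exact_mod_cast (mul_eq_zero.1 this).resolve_right ha'
  have t3 : z₁ ≠ 0 := by
    rintro rfl
    have : z₂ = 0 := by simpa [k₂.ne', p₂.ne'] using t2
    simp [this] at t1
  have t4 : z₂ ≠ 0 := by
    rintro rfl
    exact t3 (by simpa [k₁.ne', p₁.ne'] using t2)
  refine ⟨z₁.natAbs, z₂.natAbs, Int.natAbs_pos.2 t3, Int.natAbs_pos.2 t4, ?_⟩
  zify
  rw [sq_abs, sq_abs, t1]

end Cfsg.Agent.TO
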