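import Cfsg.Agent.TO.Q8H
import Cfsg.Agent.TO.Q8A
import Cfsg.Agent.CharactersDeep.MaxInduced

/-!
# S4817, box Q8B
-/

set_option autoImplicit false
set_option linter.unusedSectionVars false

namespace Cfsg.Agent.TO.Q8

open Cfsg Cfsg.Agent.Blocks.Basic SemidirectProduct

theorem index_two {A : Type*} [Group A] (S : Subgroup A) {a : A} (hg : ∀ x, x ∈ Subgroup.zpowers a) (h1 : a ∉ S)
    (h2 : a ^ 2 ∈ S) : S.index = 2 := by
  refine Subgroup.index_eq_two_iff.2 ⟨a, fun x => ?_⟩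
  obtain ⟨k, rfl⟩ := hg x
  have h3 : ∀ j : ℤ, a ^ (2 * j) ∈ S := fun j => by
    rw [zpow_mul]
    exact zpow_mem (by exact_mod_cast h2) j
  obtain ⟨j, rfl | rfl⟩ := Int.even_or_odd' k
  · exact Or.inr ⟨h3 j, fun h => h1 ((mul_mem_cancel_left (h3 j)).1 h)⟩
  · refine Or.inl ⟨?_, fun h => h1 ((mul_mem_cancel_left (h3 j)).1 (by rwa [← zpow_add_one]))⟩
    have := h3 (j + 1)
    rwa [show 2 * (j + 1) = 2 * j + 1 + 1 by ring, zpow_add_one] at this

variable {G : Type} [Group G] [Finite G]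

/-- the action of a semidirect product on the normal factor -/
def sdAct (A : Subgroup (MulAut G)) (y : G ⋊[A.subtype] A) : MulAut G := MulAut.conj y.left * y.right.1

theorem sdFr (A : Subgroup (MulAut G)) : Fr (inl : G →* G ⋊[A.subtype] A) (sdAct A) rightHom where
  inj := inl_injective
  cj y g := by
    ext <;> simp [sdAct]
  ker := range_inl_eq_ker_rightHom.symm

theorem Fr.res {Y A : Type} [Group Y] [Group A] {ι : G →* Y} {act : Y → MulAut G} {π : Y →* A} (F : Fr ι act π)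
    (N : Subgroup Y) (h : ∀ g, ι g ∈ N) : Fr (ι.codRestrict N h) (fun y => act y) (π.comp N.subtype) where
  inj _ _ e := F.inj (congrArg Subtype.val e)
  cj y g := Subtype.ext (F.cj y g)
  ker := by
    ext y
    rw [MonoidHom.mem_ker, MonoidHom.comp_apply, ← MonoidHom.mem_ker, F.ker]
    exact ⟨fun ⟨g, e⟩ => ⟨g, Subtype.ext e⟩, fun ⟨g, e⟩ => ⟨g, congrArg Subtype.val e⟩⟩

variable {p : ℕ} [Fact p.Prime] {M : Ideal AlgInt} {b : Set (IrrCharacter G)} {D : Subgroup G} {θ η : G → ℂ}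

theorem no_tri_fr (hV : BoxCOV') (hK : BoxK34) (H : Two p M b D) (hC : Can p M b D θ) (hE : Ext D θ (In D θ) η)
    (hi : ∀ α ∈ LA D θ, ∀ x, η (α x) = η x) {χ₁ χ₂ : G → ℂ} {α : MulAut G} (h : Tri b χ₁ χ₂ α)
    {Y A : Type} [Group Y] [Finite Y] [Group A] [IsCyclic A] {ι : G →* Y} {act : Y → MulAut G} {π : Y →* A}
    (F : Fr ι act π) (hA : ¬ p ∣ Nat.card A) (N : Subgroup Y) (hN : N.index = 2) (hin : ∀ g, ι g ∈ N)
    (hf : ∀ y, χ₁ ∘ act y = χ₁) {a : Y} (ha : act a = α)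
    (hg : ∀ y ∈ N, ∃ g z, y = ι g * z ∧ act z ∈ LA D θ ∧ ∀ d ∈ D, act z d = d) : False := by
  have := hC.prime
  have := Subgroup.normal_of_index_eq_two hN
  have F' := F.res N hin
  obtain ⟨ψ, i1, i2⟩ := F.exists_ext (fn_irr h.m1) hf
  have i3 : (ψ ∘ N.subtype) ∘ ι.codRestrict N hin = χ₁ := i2
  have i4 : IsIrrCharacter N (ψ ∘ N.subtype) := CharactersDeep.MaxInduced.isIrr_of_comp (ι.codRestrict N hin)
    (Characters.Core.isCharacter_comp _ (irr_isCharacter i1)) (by rw [i3]; exact fn_irr h.m1)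
  obtain ⟨B, hB, hm⟩ : ∃ B : Set (IrrCharacter N), IsPBlock M B ∧ ψ ∘ N.subtype ∈ Fn B :=
    ⟨_, isPBlock_blockOf ⟨_, i4⟩, ⟨_, i4⟩, mem_blockOf_self _, rfl⟩
  obtain ⟨k1, k2, k3⟩ := F'.cov hV hA hC hE (fun y hy x _ => hi _ hy x) (fun y => by
    obtain ⟨g, z, e, h1⟩ := hg y y.2
    exact ⟨g, ⟨z, (mul_mem_cancel_left (hin g)).1 (e ▸ y.2)⟩, Subtype.ext e, h1⟩) hB hm
    (by rw [i3]; exact h.m1)
  have hst : ∀ g, MulAut.conjNormal g ∈ Stab B := fun g => stab_of_fix hB hm (funext fun n => irr_conj i1 n g)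
  obtain ⟨φ, ⟨l1, l2⟩, -⟩ := k3 χ₂ h.m2
  refine hK _ p M N hN H.odd H.hM _ hB _ k1 (fun e => H.nc ?_) hst (ψ ∘ N.subtype) φ fun f hf => ?_
  · exact isCyclic_of_surjective (D.equivMapOfInjective _ F'.inj).symm (D.equivMapOfInjective _ F'.inj).symm.surjective
  · rcases h.cov _ (k2 f hf) with e | e | e
    · exact ⟨1, Or.inl (by rw [map_one]; exact (k3 χ₁ h.m1).unique ⟨hf, e⟩ ⟨hm, i3⟩)⟩
    · exact ⟨1, Or.inr (by rw [map_one]; exact (k3 χ₂ h.m2).unique ⟨hf, e⟩ ⟨l1, l2⟩)⟩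
    · refine ⟨a, Or.inr ((k3 _ (comp_mem h.st h.m2)).unique ⟨hf, e⟩ ⟨comp_mem (hst _) l1, ?_⟩)⟩
      rw [← l2, ← ha]
      funext g
      exact congrArg φ (Subtype.ext (F.cj a g))

/-- three members, two of them swapped by a local `2`-element whose square centralizes `D` -/
theorem no_tri (hV : BoxCOV') (hK : BoxK34) (H : Two p M b D) (hC : Can p M b D θ) (hE : Ext D θ (In D θ) η)
    (hi : ∀ α ∈ LA D θ, ∀ x, η (α x) = η x) {χ₁ χ₂ : G → ℂ} {α : MulAut G} (h : Tri b χ₁ χ₂ α) (hα : α ∈ LA D θ)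
    {k : ℕ} (hk : orderOf α = 2 ^ k) (h1 : ¬ ∀ d ∈ D, α d = d) (h2 : ∀ d ∈ D, (α ^ 2) d = d) : False := by
  let A := Subgroup.zpowers α
  let a : A := ⟨α, Subgroup.mem_zpowers α⟩
  have ha : ∀ x : A, x ∈ Subgroup.zpowers a := by
    rintro ⟨_, j, rfl⟩
    exact ⟨j, rfl⟩
  have hA : ¬ p ∣ Nat.card A := by
    rw [Nat.card_zpowers, hk]
    exact fun e => H.odd ((Nat.prime_dvd_prime_iff_eq Fact.out Nat.prime_two).1 ((Fact.out : p.Prime).dvd_of_dvd_pow e))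
  let S : Subgroup A := (fixingSubgroup (MulAut G) (D : Set G)).subgroupOf A
  have hS : ∀ γ : A, γ ∈ S ↔ ∀ d ∈ D, γ.1 d = d := fun γ => mem_fixingSubgroup_iff (MulAut G)
  have : Finite (G ⋊[A.subtype] A) := Finite.of_equiv _ SemidirectProduct.equivProd.symm
  have hinr : ∀ γ : A, sdAct A (inr γ) = γ.1 := fun γ => by simp [sdAct]
  refine no_tri_fr hV hK H hC hE hi h (sdFr A) hA (S.comap rightHom) ?_ (fun g => ?_) (fun y => ?_) (hinr a)
    fun y hy => ⟨y.left, inr y.right, (inl_left_mul_inr_right y).symm, ?_, ?_⟩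
  · rw [Subgroup.index_comap_of_surjective _ rightHom_surjective]
    exact index_two S ha (fun e => h1 ((hS a).1 e)) ((hS _).2 h2)
  · rw [Subgroup.mem_comap, rightHom_inl]
    exact one_mem _
  · rw [sdAct, comp_mul, comp_conj (fn_irr h.m1)]
    exact (Subgroup.zpowers_le (H := fixF χ₁)).2 h.f1 y.right.2
  · rw [hinr]
    exact Subgroup.zpowers_le.2 hα y.right.2
  · rw [hinr]
    exact (hS _).1 hy

/-- an automorphism which fixes two independent elements of a group of order `9` fixes it pointwise -/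
theorem fix_of_two (h9 : Nat.card D = 9) {u v : G} (hu : u ∈ D) (hv : v ∈ D) (h3 : orderOf u = 3)
    (hn : v ∉ Subgroup.zpowers u) {γ : MulAut G} (h1 : γ u = u) (h2 : γ v = v) : ∀ d ∈ D, γ d = d := by
  let F : Subgroup G := γ.toMonoidHom.eqLocus (MonoidHom.id G) ⊓ D
  have k1 : Subgroup.zpowers u ≤ F := Subgroup.zpowers_le.2 ⟨h1, hu⟩
  have k2 : Nat.card F ∣ 3 ^ 2 := by
    have := Subgroup.card_dvd_of_le (inf_le_right : F ≤ D)
    rwa [h9] at this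
  have k3 : ¬ Nat.card F ≤ 3 := fun e => hn (by
    rw [Subgroup.eq_of_le_of_card_ge k1 (by rwa [Nat.card_zpowers, h3])]
    exact ⟨h2, hv⟩)
  obtain ⟨j, hj, e⟩ := (Nat.dvd_prime_pow Nat.prime_three).1 k2
  have k4 : F = D := Subgroup.eq_of_le_of_card_ge inf_le_right (by
    interval_cases j <;> omega)
  exact fun d hd => (k4.ge hd).1

/-- the local automorphisms which fix `u` induce on `D` a group of order dividing `6` -/
theorem idx_six (h9 : Nat.card D = 9) {u : G} (hu : u ∈ D) (h3 : orderOf u = 3) :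
    (fixingSubgroup (MulAut G) (D : Set G)).relIndex (LA D θ ⊓ FixE u) ∣ 6 := by
  have h1 : ((D : Set G) \ Subgroup.zpowers u).ncard = 6 := by
    rw [Set.ncard_sdiff (Subgroup.zpowers_le.2 hu)]
    have e1 : (D : Set G).ncard = 9 := h9
    have e2 : ((Subgroup.zpowers u : Subgroup G) : Set G).ncard = 3 := (Nat.card_zpowers u).trans h3
    rw [e1, e2]
  rw [← h1]
  refine index_dvd_ncard (Γ := ↥(LA D θ ⊓ FixE u)) (X := G) (Set.toFinite _) (fun γ x hx => ?_) _ fun v hv => ?_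
  · refine ⟨(γ.2.1.1 x).2 hx.1, fun e => hx.2 ?_⟩
    obtain ⟨j, hj⟩ := e
    have e1 : γ.1 u = u := γ.2.2
    refine ⟨j, γ.1.injective ?_⟩
    rw [map_zpow, e1]
    exact hj
  · ext γ
    rw [Subgroup.mem_subgroupOf, mem_fixingSubgroup_iff]
    exact ⟨fix_of_two h9 hu hv.1 h3 hv.2 γ.2.2, fun h => h v hv.1⟩

theorem ce_normal (D : Subgroup G) (θ : G → ℂ) : ((Ce D).subgroupOf (In D θ)).Normal :=
  ⟨fun _ hc t => conj_mem_Ce (In_le_norm t.2) hc⟩

/-- the inertia group acts semiregularly as soon as the `p`-regular elements do -/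
theorem semireg (P : CanP p M b D θ)
    (h : ∀ t ∈ Subgroup.normalizer (D : Set G), ¬ p ∣ orderOf t → ∀ u ∈ D, u ≠ 1 → t * u * t⁻¹ = u → t ∈ Ce D) :
    ∀ t ∈ In D θ, ∀ u ∈ D, u ≠ 1 → t * u * t⁻¹ = u → t ∈ Ce D := by
  intro t ht u hu hu1 e
  have := ce_normal D θ
  obtain ⟨k, m, hm, e'⟩ := Nat.exists_eq_pow_mul_and_not_dvd (orderOf_pos t).ne' p (Fact.out : p.Prime).ne_one
  have h1 : t ^ p ^ k ∈ Ce D := h _ (pow_mem (In_le_norm ht) _) (fun d => hm (d.trans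
    (orderOf_dvd_of_pow_eq_one (by rw [← pow_mul, ← e', pow_orderOf_eq_one])))) u hu hu1
    (mul_inv_eq_iff_eq_mul.2 ((show Commute t u from mul_inv_eq_iff_eq_mul.1 e).pow_left _).eq)
  have h2 : t ^ (Ce D).relIndex (In D θ) ∈ Ce D :=
    Subgroup.pow_index_mem ((Ce D).subgroupOf (In D θ)) ⟨t, ht⟩
  have h3 : Nat.Coprime (p ^ k) ((Ce D).relIndex (In D θ)) :=
    Nat.Coprime.pow_left _ (((Fact.out : p.Prime).coprime_iff_not_dvd).2 P.idx)
  obtain ⟨x, y, hxy⟩ := Nat.isCoprime_iff_coprime.2 h3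
  rw [← zpow_one t, ← hxy, zpow_add, mul_comm x, mul_comm y, zpow_mul, zpow_mul, zpow_natCast, zpow_natCast]
  exact mul_mem (zpow_mem h1 _) (zpow_mem h2 _)

end Cfsg.Agent.TO.Q8

namespace Cfsg.Agent.TO

open Cfsg Q8

theorem boxQ8B (hc : BoxCAN1) (hF : BoxFIX) (hV : BoxCOV') (hD : BoxDA) (hK : BoxK34) : BoxQ8B := by
  intro G _ _ M b D θ H hC h9 hr K hcan htr
  have : Fact (Nat.Prime 3) := ⟨Nat.prime_three⟩
  have P := hc G 3 M b D θ hC
  obtain ⟨k1, η, -, k2, k3⟩ := ext_of_canon hC hcan le_rfl fun c hc => hC.Ce_le_In hc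
  have hs := semireg P hr
  have hR : RegOn (In D θ) D := ⟨fun u hu v hv hu1 hv1 => by
    obtain ⟨t, h1, h2, h3⟩ := htr u hu v hv hu1 hv1
    exact ⟨t, k1 (mem_CK_of h1 h2), h3⟩, hs⟩
  have hnt : Nontrivial D := Finite.one_lt_card_iff_nontrivial.1 (by rw [h9]; norm_num)
  obtain ⟨⟨u, hu⟩, hu1⟩ := exists_ne (1 : D)
  have hu1 : u ≠ 1 := fun e => hu1 (Subtype.ext e)
  have h3 : orderOf u = 3 := orderOf_eq_prime (cube_eq_one h9 H.nc hu) hu1
  have hne : ∀ α : MulAut G, α u ≠ 1 := fun α e => hu1 ((MulEquiv.map_eq_one_iff _).1 e)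
  have hT : In D θ ≤ CK D K := fun t ht => by
    obtain ⟨r, h1, h2, e⟩ := htr _ ((ht.1 u).2 hu) u hu (hne _) hu1
    have h4 : r * t ∈ Ce D := hs _ (mul_mem (k1 (mem_CK_of h1 h2)) ht) u hu hu1 (by
      refine Eq.trans ?_ e
      simp [mul_assoc])
    exact (mul_mem_cancel_left (mem_CK_of h1 h2)).1 (Ce_le_CK h4)
  have hE : Ext D θ (In D θ) η := k3 _ hC.Ce_le_In hT
  have hda : ∀ α ∈ LA D θ, (∀ d ∈ D, α d = d) → ∀ χ ∈ Fn b, χ ∘ α = χ := fun α hα h =>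
    hD G 3 M b D θ η hC hE α h hα.2 fun x _ => k2 α hα x
  have hfr : ∀ α ∈ Stab b, ∃ g : G, MulAut.conj g * α ∈ LA D θ ⊓ FixE u := fun α hα => by
    obtain ⟨g, hg⟩ := P.frat α hα
    obtain ⟨s, hs, hsu⟩ := hR.1 _ ((hg.1 u).2 hu) u hu (hne _) hu1
    refine ⟨s * g, ?_⟩
    rw [map_mul, mul_assoc]
    exact ⟨mul_mem hs hg, hsu⟩
  have h6 := idx_six (θ := θ) h9 hu h3
  obtain ⟨χ₁, χ₂, α, h⟩ := exists_tri (boxQ8A hc) hF H hC h9 hR fun χ hχ => by
    have e : Orb b χ = {f' | ∃ α ∈ LA D θ ⊓ FixE u, f' = χ ∘ α} := by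
      refine Set.Subset.antisymm ?_ ?_
      · rintro _ ⟨α, hα, rfl⟩
        obtain ⟨g, hg⟩ := hfr α hα
        exact ⟨_, hg, by rw [comp_mul, comp_conj (fn_irr hχ)]⟩
      · rintro _ ⟨α, hα, rfl⟩
        exact ⟨α, P.le hα.1, rfl⟩
    rw [e, ncard_orb]
    refine (Subgroup.index_dvd_of_le fun α hα => ?_).trans (h6.trans (by norm_num))
    exact hda _ α.2.1 ((mem_fixingSubgroup_iff (MulAut G)).1 hα) χ hχ
  obtain ⟨g, hg⟩ := hfr α h.st
  have h' := h.conj g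
  generalize MulAut.conj g * α = β at hg h'
  obtain ⟨k, m, hm, e⟩ := Nat.exists_eq_two_pow_mul_odd (orderOf_pos β).ne'
  have hn : ((fixingSubgroup (MulAut G) (D : Set G)).subgroupOf (LA D θ ⊓ FixE u)).Normal := ⟨fun γ hγ δ => by
    rw [Subgroup.mem_subgroupOf, mem_fixingSubgroup_iff] at hγ ⊢
    intro d hd
    have h4 : γ.1 (δ.1⁻¹ d) = δ.1⁻¹ d := hγ _ ((δ⁻¹.2.1.1 d).2 hd)
    show δ.1 (γ.1 (δ.1⁻¹ d)) = d
    rw [h4, MulAut.apply_inv_self]⟩
  have ho : orderOf (β ^ m) = 2 ^ k := by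
    rw [orderOf_pow' _ hm.pos.ne', e, Nat.gcd_mul_left_left, Nat.mul_div_cancel _ hm.pos]
  have hg' := pow_mem hg m
  have h'' := h'.pow hm
  generalize β ^ m = γ at ho hg' h''
  refine no_tri hV hK H hC hE k2 h'' hg'.1 ho (fun e => h''.n2 (hda _ hg'.1 e _ h''.m2)) ?_
  have h7 : γ ^ 6 ∈ fixingSubgroup (MulAut G) (D : Set G) := by
    obtain ⟨j, hj⟩ := h6
    rw [hj, pow_mul]
    exact pow_mem (Subgroup.pow_index_mem ((fixingSubgroup (MulAut G) (D : Set G)).subgroupOf (LA D θ ⊓ FixE u))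
      ⟨γ, hg'⟩) j
  have h8 : (γ ^ 2) ^ 2 ^ k = 1 := by rw [← pow_mul, mul_comm, pow_mul, ← ho, pow_orderOf_eq_one, one_pow]
  obtain ⟨x, y, hxy⟩ := Nat.isCoprime_iff_coprime.2 (Nat.Coprime.pow_left k (show Nat.Coprime 2 3 by norm_num))
  refine (mem_fixingSubgroup_iff (MulAut G)).1 (show γ ^ 2 ∈ fixingSubgroup (MulAut G) (D : Set G) from ?_)
  rw [← zpow_one (γ ^ 2), ← hxy, zpow_add, mul_comm x, mul_comm y, zpow_mul, zpow_mul, zpow_natCast, zpow_natCast, h8,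
    one_zpow, one_mul, ← pow_mul]
  exact zpow_mem h7 _

end Cfsg.Agent.TO
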