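import Cfsg.Agent.TO.Q8O
import Cfsg.Agent.TO.RedA
import Cfsg.Agent.R2.RkInt.Quasi

/-!
# S4817, box Q8C
-/

set_option autoImplicit false
set_option linter.unusedSectionVars false

namespace Cfsg.Agent.TO

open Cfsg Q8

section

variable {G : Type} [Group G] {p : ℕ} {M : Ideal AlgInt} {b : Set (IrrCharacter G)} {D : Subgroup G}
  {X : Type} [Group X] {σ : G →* X}

/-- an automorphism which induces an inner automorphism is inner -/
theorem Q8.inner_of_ind (H : Hyp p M b D σ) {α : MulAut G} {β : MulAut X} (h : ∀ g, σ (α g) = β (σ g))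
    (hβ : β ∈ Inn X) : ∃ s : G, α = MulAut.conj s := by
  obtain ⟨x, rfl⟩ := hβ
  obtain ⟨s, rfl⟩ := H.surj x
  refine ⟨s, R2.RkInt.eq_of_perfect ⟨H.perf⟩ _ _ fun g => ?_⟩
  rw [← H.ker, MonoidHom.mem_ker, map_mul, map_inv, h, inv_mul_eq_one]
  simp

/-- the orbit lengths divide the index of the inner automorphisms -/
theorem Q8.orb_dvd (H : Hyp p M b D σ) {χ : G → ℂ} (hχ : χ ∈ Fn b) :
    (Orb b χ).ncard ∣ (Inn X).relIndex (Ind σ b) := by
  choose φ h1 h2 using fun α : Stab b => H.exists_ind α.2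
  let Φ : Stab b →* MulAut X := MonoidHom.mk' φ fun α β => MulEquiv.ext fun x => by
    obtain ⟨g, rfl⟩ := H.surj x
    rw [← h2, MulAut.mul_apply, ← h2, ← h2]
    rfl
  have e : Φ.range = Ind σ b := by
    refine le_antisymm ?_ ?_
    · rintro _ ⟨α, rfl⟩
      exact h1 α
    · rintro β ⟨α, hα, h⟩
      refine ⟨⟨α, hα⟩, MulEquiv.ext fun x => ?_⟩
      obtain ⟨g, rfl⟩ := H.surj x
      exact (h2 ⟨α, hα⟩ g).symm.trans (h g)
  rw [← e, ← Subgroup.index_comap, Orb, ncard_orb]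
  refine Subgroup.index_dvd_of_le fun α hα => ?_
  obtain ⟨s, hs⟩ := Q8.inner_of_ind H (h2 α) hα
  rw [Subgroup.mem_subgroupOf, mem_fixF, hs]
  exact comp_conj (fn_irr hχ) s

end

theorem boxQ8C (hA : BoxQ8A) (hF : BoxFIX) (hE : BoxEX) : BoxQ8C := by
  intro G _ _ M b D θ X _ σ H hC h9 hR h12 h6
  have : Fact (Nat.Prime 3) := ⟨Nat.prime_three⟩
  obtain ⟨χ₁, χ₂, α, h⟩ := exists_tri hA hF H.toTwo hC h9 hR fun χ hχ => (Q8.orb_dvd H hχ).trans h12
  obtain ⟨β, hβ, e⟩ := H.exists_ind h.st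
  have h3 := h.pow (m := 3) (by decide)
  have e6 : ∀ (n : ℕ) g, σ ((α ^ n) g) = (β ^ n) (σ g) := fun n => by
    induction n with
    | zero => exact fun g => rfl
    | succ n ih => exact fun g => by rw [pow_succ', pow_succ', MulAut.mul_apply, MulAut.mul_apply, e, ih]
  obtain ⟨s, hs⟩ := Q8.inner_of_ind H (e6 6) (h6 β hβ)
  exact (hE G 3 M b D X σ H _ h3.st s (by rw [← pow_add]; exact hs) χ₁ χ₂ fun f hf =>
    (h3.cov f hf).imp_right Or.inr).2.1 χ₁ h3.m1 h3.f1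

end Cfsg.Agent.TO
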