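import Cfsg.Agent.TO.Can
import Cfsg.Agent.ODD.Red.Bas

/-!
# S4817 : the canonical extension of the canonical character (helper34)

`CK D K = C(D) (K ∩ N(D))`, `ext_of_canon`.
-/

set_option autoImplicit false
set_option linter.unusedSectionVars false

namespace Cfsg.Agent.TO

open Cfsg Cfsg.Agent.ODD.Red Cfsg.Agent.Characters.Core

variable {G : Type} [Group G] {D K : Subgroup G} {θ : G → ℂ}

theorem conj_mem_Ce {r c : G} (hr : r ∈ Subgroup.normalizer (D : Set G)) (hc : c ∈ Ce D) : r * c * r⁻¹ ∈ Ce D := fun d hd => by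
  have h := hc _ ((Subgroup.mem_normalizer_iff''.1 hr d).1 hd)
  calc d * (r * c * r⁻¹) = r * (r⁻¹ * d * r * c) * r⁻¹ := by group
    _ = r * c * r⁻¹ * d := by rw [h]; group

theorem Ce_le_norm : Ce D ≤ Subgroup.normalizer (D : Set G) := Subgroup.centralizer_le_normalizer _

theorem In_le_norm : In D θ ≤ Subgroup.normalizer (D : Set G) := fun _ h =>
  Subgroup.mem_normalizer_iff.2 fun x => (h.1 x).symm

theorem LA_Ce {α : MulAut G} (h : ∀ x, α x ∈ D ↔ x ∈ D) (c : G) : α c ∈ Ce D ↔ c ∈ Ce D :=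
  ⟨fun hc d hd => α.injective (by rw [map_mul, map_mul]; exact hc _ ((h d).2 hd)), fun hc d hd => by
    obtain ⟨d, rfl⟩ := α.surjective d
    rw [← map_mul, ← map_mul, hc d ((h d).1 hd)]⟩

theorem LA_norm {α : MulAut G} (h : ∀ x, α x ∈ D ↔ x ∈ D) {r : G} (hr : r ∈ Subgroup.normalizer (D : Set G)) :
    α r ∈ Subgroup.normalizer (D : Set G) := Subgroup.mem_normalizer_iff.2 fun x => by
  obtain ⟨x, rfl⟩ := α.surjective x
  rw [← map_inv, ← map_mul, ← map_mul, h, h]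
  exact Subgroup.mem_normalizer_iff.1 hr x

theorem LA_In {α : MulAut G} (h : α ∈ LA D θ) {t : G} (ht : t ∈ In D θ) : α t ∈ In D θ := by
  have h1 : MulAut.conj (α t) = α * MulAut.conj t * α⁻¹ := MulEquiv.ext fun x => by simp
  show MulAut.conj (α t) ∈ LA D θ
  rw [h1]
  exact mul_mem (mul_mem h ht) (inv_mem h)

variable (D K) in
/-- the subgroup `C(D) (K ∩ N(D))` -/
def CK : Subgroup G where
  carrier := {x | ∃ c ∈ Ce D, ∃ r ∈ K, r ∈ Subgroup.normalizer (D : Set G) ∧ x = c * r}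
  one_mem' := ⟨1, one_mem _, 1, one_mem _, one_mem _, (mul_one _).symm⟩
  mul_mem' := by
    rintro _ _ ⟨c, hc, r, h1, h2, rfl⟩ ⟨c', hc', r', h3, h4, rfl⟩
    exact ⟨_, mul_mem hc (conj_mem_Ce h2 hc'), _, mul_mem h1 h3, mul_mem h2 h4, by group⟩
  inv_mem' := by
    rintro _ ⟨c, hc, r, h1, h2, rfl⟩
    exact ⟨_, conj_mem_Ce (inv_mem h2) (inv_mem hc), _, inv_mem h1, inv_mem h2, by group⟩

theorem mem_CK {x : G} : x ∈ CK D K ↔ ∃ c ∈ Ce D, ∃ r ∈ K, r ∈ Subgroup.normalizer (D : Set G) ∧ x = c * r := Iff.rfl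

theorem Ce_le_CK : Ce D ≤ CK D K := fun c hc => ⟨c, hc, 1, one_mem _, one_mem _, (mul_one _).symm⟩

theorem mem_CK_of {r : G} (h : r ∈ K) (h' : r ∈ Subgroup.normalizer (D : Set G)) : r ∈ CK D K :=
  ⟨1, one_mem _, r, h, h', (one_mul _).symm⟩

variable [Finite G] {p : ℕ} {M : Ideal AlgInt} {b : Set (IrrCharacter G)}

theorem Can.Ce_le_In (h : Can p M b D θ) : Ce D ≤ In D θ := fun c hc =>
  ⟨fun x => (Subgroup.mem_normalizer_iff.1 (Ce_le_norm hc) x).symm, fun g => by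
    by_cases hg : g ∈ Ce D
    · exact isCharacter_isClassFunction (isIrr_isCharacter h.irr) ⟨g, hg⟩ ⟨c, hc⟩
    · rw [h.zero g hg]
      exact h.zero _ fun e => hg ((LA_Ce (α := MulAut.conj c) (fun x =>
        (Subgroup.mem_normalizer_iff.1 (Ce_le_norm hc) x).symm) g).1 e)⟩

theorem Can.mul_ker (h : Can p M b D θ) {z c : G} (hz : z ∈ Ce D) (h1 : θ z = θ 1) (hc : c ∈ Ce D) : θ (z * c) = θ c :=
  apply_mul_of_ker (isIrr_isCharacter h.irr) (z := ⟨z, hz⟩) h1 ⟨c, hc⟩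

/-- the kernel of the canonical character -/
def Can.ker (h : Can p M b D θ) : Subgroup (Ce D) where
  carrier := {z | θ z = θ 1}
  one_mem' := rfl
  mul_mem' {x y} hx hy := (h.mul_ker x.2 hx y.2).trans hy
  inv_mem' {x} hx := (h.mul_ker x.2 hx x⁻¹.2).symm.trans (congrArg θ (mul_inv_cancel _))

theorem Can.ker_normal (h : Can p M b D θ) : h.ker.Normal := ⟨fun _ hz c => ((h.Ce_le_In c.2).2 _).trans hz⟩

/-- **the canonical extension** -/
theorem ext_of_canon (h : Can p M b D θ) {A : Subgroup (MulAut G)} (hK : Canon D θ A K) (hA : A ≤ LA D θ)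
    (hC : ∀ c ∈ Ce D, MulAut.conj c ∈ A) : CK D K ≤ In D θ ∧ ∃ η : G → ℂ,
      (∀ c ∈ Ce D, ∀ r ∈ K, r ∈ Subgroup.normalizer (D : Set G) → η (c * r) = θ c) ∧ (∀ α ∈ A, ∀ x, η (α x) = η x) ∧
      ∀ R : Subgroup G, Ce D ≤ R → R ≤ CK D K → Ext D θ R η := by
  classical
  have := h.ker_normal
  have h1 : ∀ c ∈ Ce D, ∀ r ∈ K, r ∈ Subgroup.normalizer (D : Set G) → θ (r * c * r⁻¹ * c⁻¹) = θ 1 := fun c hc r h2 h3 =>
    hK.ker _ (by simpa [mul_assoc] using mul_mem h2 (hK.inv _ (hC c hc) _ (inv_mem h2)))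
      (mul_mem (conj_mem_Ce h3 hc) (inv_mem hc))
  choose c hc r h2 h3 h4 using fun x : CK D K => x.2
  have h5 : ∀ (x : CK D K) (c' : Ce D), ∀ r' ∈ K, (x : G) = c' * r' →
      (QuotientGroup.mk ⟨c x, hc x⟩ : Ce D ⧸ h.ker) = QuotientGroup.mk c' := fun x c' r' h6 h7 =>
    QuotientGroup.eq.2 (hK.ker _ (by
      have h8 : (c x)⁻¹ * c' = r x * r'⁻¹ := by
        rw [inv_mul_eq_iff_eq_mul, ← mul_assoc, ← h4, h7, mul_inv_cancel_right]
      exact (show (c x)⁻¹ * c' ∈ K from h8 ▸ mul_mem (h2 x) (inv_mem h6))) (mul_mem (inv_mem (hc x)) c'.2))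
  let π : CK D K →* Ce D ⧸ h.ker := MonoidHom.mk' (fun x => QuotientGroup.mk ⟨c x, hc x⟩) fun x y => by
    rw [h5 (x * y) ⟨_, mul_mem (hc x) (conj_mem_Ce (h3 x) (hc y))⟩ _ (mul_mem (h2 x) (h2 y))
      (by rw [Subgroup.coe_mul]; nth_rw 1 [h4 x, h4 y]; group), ← QuotientGroup.mk_mul, eq_comm, QuotientGroup.eq_iff_div_mem,
      div_eq_mul_inv]
    refine inv_mem_iff.1 (((h.Ce_le_In (inv_mem (hc x))).2 _).symm.trans (Eq.trans (congrArg θ ?_) (h1 _ (hc y) _ (h2 x) (h3 x))))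
    simp only [Subgroup.coe_mul, Subgroup.coe_inv, MulAut.conj_apply]
    group
  obtain ⟨ψ, h6, h7⟩ := exists_quot (QuotientGroup.mk' h.ker) (QuotientGroup.mk'_surjective _) h.irr fun z hz =>
    (QuotientGroup.eq_one_iff z).1 hz
  have h8 : ∀ c' ∈ Ce D, ∀ r' ∈ K, r' ∈ Subgroup.normalizer (D : Set G) →
      (if h : c' * r' ∈ CK D K then ψ (π ⟨_, h⟩) else 0) = θ c' := fun c' h9 r' h10 h11 => by
    rw [dif_pos ⟨c', h9, r', h10, h11, rfl⟩]
    exact (congrArg ψ (h5 _ ⟨c', h9⟩ r' h10 rfl)).trans (h7 _)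
  refine ⟨?_, fun x => if h : x ∈ CK D K then ψ (π ⟨x, h⟩) else 0, h8, fun α hα x => ?_, fun R h9 h10 => ⟨h9, ?_, fun c' hc' => ?_⟩⟩
  · rintro _ ⟨c', h9, r', h10, h11, rfl⟩
    refine mul_mem (h.Ce_le_In h9) ⟨fun x => (Subgroup.mem_normalizer_iff.1 h11 x).symm, fun g => ?_⟩
    by_cases hg : g ∈ Ce D
    · rw [← h.mul_ker (mul_mem (conj_mem_Ce h11 hg) (inv_mem hg)) (h1 g hg r' h10 h11) hg, inv_mul_cancel_right]
      rfl
    · rw [h.zero g hg]
      exact h.zero _ fun e => hg ((LA_Ce (α := MulAut.conj r') (fun x => (Subgroup.mem_normalizer_iff.1 h11 x).symm) g).1 e)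
  · have h9 : ∀ β ∈ A, ∀ y ∈ CK D K, β y ∈ CK D K := by
      rintro β hβ _ ⟨c', h9, r', h10, h11, rfl⟩
      exact ⟨_, (LA_Ce (hA hβ).1 _).2 h9, _, hK.inv β hβ _ h10, LA_norm (hA hβ).1 h11, map_mul _ _ _⟩
    by_cases hx : x ∈ CK D K
    · obtain ⟨c', h10, r', h11, h12, rfl⟩ := hx
      beta_reduce
      rw [map_mul, h8 _ h10 _ h11 h12, h8 _ ((LA_Ce (hA hα).1 _).2 h10) _ (hK.inv α hα _ h11) (LA_norm (hA hα).1 h12)]
      exact (hA hα).2 _
    · beta_reduce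
      rw [dif_neg hx, dif_neg fun e => hx (by simpa using h9 _ (inv_mem hα) _ e)]
  · have h11 := isIrr_comp' (π.comp (Subgroup.inclusion h10)) (fun y => by
      obtain ⟨y, rfl⟩ := QuotientGroup.mk_surjective y
      exact ⟨⟨y, h9 y.2⟩, h5 _ y 1 (one_mem _) (mul_one _).symm⟩) h6
    exact (funext fun x : R => dif_pos (h10 x.2) : (fun x : R => _) = _) ▸ h11
  · simpa only [mul_one] using h8 c' hc' 1 (one_mem _) (one_mem _)

end Cfsg.Agent.TO
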