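import Cfsg.Agent.TO.CovBox
import Cfsg.Agent.H666.Clif.Gall
import Cfsg.Agent.CharactersDeep.IrrEquiv
import Cfsg.Agent.H649.Transport
import Cfsg.Agent.S0886

/-!
# S4817: tools for COV and DA (helper77)

* `Cov.ind_sum`, `Cov.ind_of` : block induction from a function which is extended by zero;
* `Cov.can_tl`, `Cov.can_map`, `Cov.can_unique` : twisting and transport of canonical characters;
* `Cov.exists_extn` : extension over a cyclic quotient.
-/

set_option autoImplicit false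

namespace Cfsg.Agent.TO.Cov

open Cfsg Cfsg.Agent.Blocks.Basic Cfsg.Agent.Blocks.Local Cfsg.Agent.Characters
open Cfsg.Agent.H666.Clif (tl tl_apply)
open scoped ComplexConjugate

section

variable {G : Type*} [Group G] {p : ℕ} {M : Ideal AlgInt}

theorem irr_of_comp {H : Type*} [Group H] [Finite H] (f : H →* G) {χ : G → ℂ} (hχ : IsCharacter G χ)
    (h : IsIrrCharacter H fun x => χ (f x)) : IsIrrCharacter G χ := by
  obtain ⟨n, ρ, rfl⟩ := hχ
  exact ⟨n, ρ, CharactersDeep.IrrEquiv.isIrreducible_of_comp ρ f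
    (Core.isIrreducible_of_isIrrCharacter (ρ.comp f) h), rfl⟩

theorem mem_Ce {D : Subgroup G} {g : G} : g ∈ Ce D ↔ ∀ d ∈ D, d * g = g * d := Subgroup.mem_centralizer_iff

theorem mem_In {D : Subgroup G} {θ : G → ℂ} {g : G} :
    g ∈ In D θ ↔ (∀ x, g * x * g⁻¹ ∈ D ↔ x ∈ D) ∧ ∀ x, θ (g * x * g⁻¹) = θ x := Iff.rfl

theorem mem_LA {D : Subgroup G} {θ : G → ℂ} {α : MulAut G} :
    α ∈ LA D θ ↔ (∀ x, α x ∈ D ↔ x ∈ D) ∧ ∀ g, θ (α g) = θ g := Iff.rfl

theorem mem_Stab {b : Set (IrrCharacter G)} {α : MulAut G} :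
    α ∈ Stab b ↔ ∀ f : G → ℂ, f ∘ α ∈ Fn b ↔ f ∈ Fn b := Iff.rfl

theorem mem_Fn {b : Set (IrrCharacter G)} {χ : IrrCharacter G} : (χ : G → ℂ) ∈ Fn b ↔ χ ∈ b :=
  Subtype.val_injective.mem_set_image

theorem In_le_normalizer {D : Subgroup G} {θ : G → ℂ} : In D θ ≤ Subgroup.normalizer (D : Set G) := fun _ hg =>
  Subgroup.mem_normalizer_iff.2 fun x => (hg.1 x).symm

theorem conj_mem_Ce {D : Subgroup G} {n x : G} (hn : n ∈ Subgroup.normalizer (D : Set G)) :
    n * x * n⁻¹ ∈ Ce D ↔ x ∈ Ce D := by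
  have key : ∀ n x : G, n ∈ Subgroup.normalizer (D : Set G) → x ∈ Ce D → n * x * n⁻¹ ∈ Ce D := by
    intro n x hn hx
    refine mem_Ce.2 fun d hd => ?_
    have h1 := mem_Ce.1 hx _ ((Subgroup.mem_normalizer_iff.1 (inv_mem hn) d).1 hd)
    calc d * (n * x * n⁻¹) = n * (n⁻¹ * d * n⁻¹⁻¹ * x) * n⁻¹ := by group
      _ = n * x * n⁻¹ * d := by rw [h1]; group
  refine ⟨fun h => ?_, key n x hn⟩
  have h1 := key n⁻¹ _ (inv_mem hn) h
  rwa [show n⁻¹ * (n * x * n⁻¹) * n⁻¹⁻¹ = x by group] at h1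

theorem mem_Ce_sub {D N : Subgroup G} (hD : D ≤ N) {n : N} : n ∈ Ce (D.subgroupOf N) ↔ (n : G) ∈ Ce D := by
  rw [mem_Ce, mem_Ce]
  exact ⟨fun h d hd => congrArg Subtype.val (h ⟨d, hD hd⟩ hd), fun h d hd => Subtype.ext (h d hd)⟩

theorem mem_Ce_map {H : Type*} [Group H] (i : G →* H) (hi : Function.Injective i) {D : Subgroup G} {g : G} :
    i g ∈ Ce (D.map i) ↔ g ∈ Ce D := by
  rw [mem_Ce, mem_Ce]
  refine ⟨fun h d hd => hi ?_, ?_⟩
  · rw [map_mul, map_mul]
    exact h _ ⟨d, hd, rfl⟩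
  · rintro h _ ⟨d, hd, rfl⟩
    rw [← map_mul, ← map_mul, h d hd]

/-- the centralizer fixes the canonical character -/
theorem ce_le_In {b : Set (IrrCharacter G)} {D : Subgroup G} {θ : G → ℂ} (h : Can p M b D θ) : Ce D ≤ In D θ := by
  intro c hc
  have hn : c ∈ Subgroup.normalizer (D : Set G) := Subgroup.centralizer_le_normalizer _ hc
  refine ⟨fun x => (Subgroup.mem_normalizer_iff.1 hn x).symm, fun x => ?_⟩
  show θ (c * x * c⁻¹) = θ x
  by_cases hx : x ∈ Ce D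
  · exact irr_conj h.irr ⟨x, hx⟩ ⟨c, hc⟩
  · rw [h.zero _ hx, h.zero _ fun h1 => hx ((conj_mem_Ce hn).1 h1)]

theorem fs_ext (H : Subgroup G) {F : G → ℂ} (hF : ∀ g, g ∉ H → F g = 0) (S : Set G) :
    ∑ᶠ h ∈ {h : H | (h : G) ∈ S}, F h = ∑ᶠ x ∈ S, F x := by
  rw [← finsum_mem_image (f := F) (Subtype.val_injective.injOn)]
  refine finsum_mem_inter_support_eq' _ _ _ fun x hx => ⟨?_, fun h => ?_⟩
  · rintro ⟨y, hy, rfl⟩
    exact hy
  · by_contra h1
    exact hx (hF x fun h2 => h1 ⟨⟨x, h2⟩, h, rfl⟩)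

theorem icc_eq (H : Subgroup G) {θ : G → ℂ} (h0 : ∀ g, g ∉ H → θ g = 0) (g : G) :
    inducedCentralChar H (fun h : H => θ h) g = ∑ᶠ x ∈ {x : G | IsConj g x}, θ x / θ 1 :=
  fs_ext H (F := fun x => θ x / θ 1) (fun x hx => by rw [h0 x hx, zero_div]) {x : G | IsConj g x}

variable [Finite G]

theorem fs_classes (S : Set G) (hS : ∀ x ∈ S, ∀ y, IsConj x y → y ∈ S) :
    ∃ s : Finset G, ∀ F : G → ℂ, ∑ᶠ x ∈ S, F x = ∑ r ∈ s, ∑ᶠ x ∈ {x : G | IsConj r x}, F x := by
  classical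
  have := Fintype.ofFinite G
  choose r hr using ConjClasses.mk_surjective (α := G)
  refine ⟨(S.toFinset.image ConjClasses.mk).image r, fun F => ?_⟩
  rw [Finset.sum_image fun a _ b _ h => by rw [← hr a, h, hr], finsum_mem_eq_toFinset_sum,
    ← Finset.sum_fiberwise_of_maps_to fun x hx => Finset.mem_image_of_mem ConjClasses.mk hx]
  refine Finset.sum_congr rfl fun c hc => ?_
  obtain ⟨y, hy, rfl⟩ := Finset.mem_image.1 hc
  rw [finsum_mem_eq_toFinset_sum]
  refine Finset.sum_congr ?_ fun _ _ => rfl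
  have h1 : IsConj y (r (ConjClasses.mk y)) := ConjClasses.mk_eq_mk_iff_isConj.1 (hr (ConjClasses.mk y)).symm
  ext x
  simp only [Finset.mem_filter, Set.mem_toFinset, Set.mem_ofPred_eq, ConjClasses.mk_eq_mk_iff_isConj]
  exact ⟨fun h => h1.symm.trans h.2.symm, fun h => ⟨hS y (Set.mem_toFinset.1 hy) x (h1.trans h), (h1.trans h).symm⟩⟩

theorem cc_eq {χ : G → ℂ} (hχ : IsIrrCharacter G χ) (g : G) :
    centralChar χ g = ∑ᶠ x ∈ {x : G | IsConj g x}, χ x / χ 1 := by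
  classical
  have := Fintype.ofFinite G
  rw [finsum_mem_congr rfl (g := fun _ => χ g / χ 1) fun x hx => by rw [irr_isConj hχ hx], centralChar_def,
    index_centralizer_eq_ncard, finsum_mem_eq_toFinset_sum, Finset.sum_const, nsmul_eq_mul, Set.ncard_eq_toFinset_card',
    mul_div_assoc]

variable [M.IsPrime]

/-- block induction, evaluated on an invariant subset -/
theorem ind_sum {H : Subgroup G} {θ : G → ℂ} (hi : IsIrrCharacter H fun h : H => θ h) (h0 : ∀ g, g ∉ H → θ g = 0)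
    {B : Set (IrrCharacter G)} (h : IsInducedBlock M H (blockOf M fun h : H => θ h) B) {χ : IrrCharacter G} (hχ : χ ∈ B)
    (S : Set G) (hS : ∀ x ∈ S, ∀ y, IsConj x y → y ∈ S) :
    MemLocalIdeal M (∑ᶠ x ∈ S, θ x / θ 1 - ∑ᶠ x ∈ S, (χ : G → ℂ) x / (χ : G → ℂ) 1) := by
  obtain ⟨s, hs⟩ := fs_classes S hS
  rw [hs, hs]
  refine memLocalIdeal_sum_sub_sum fun r _ => ?_
  rw [← cc_eq χ.2, ← icc_eq H h0]
  exact h.2.2 ⟨_, hi⟩ (mem_blockOf_self (M := M) ⟨_, hi⟩) χ hχ r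

theorem ind_of {H : Subgroup G} {θ : G → ℂ} (hi : IsIrrCharacter H fun h : H => θ h) (h0 : ∀ g, g ∉ H → θ g = 0)
    {B : Set (IrrCharacter G)} (hB : IsPBlock M B) {χ : IrrCharacter G} (hχ : χ ∈ B)
    (h : ∀ g, MemLocalIdeal M (∑ᶠ x ∈ {x : G | IsConj g x}, θ x / θ 1 - centralChar (χ : G → ℂ) g)) :
    IsInducedBlock M H (blockOf M fun h : H => θ h) B := by
  refine ⟨isPBlock_blockOf ⟨_, hi⟩, hB, fun ξ hξ ψ hψ g => ?_⟩
  refine memLocalIdeal_sub_trans (memLocalIdeal_sub_trans (memLocalIdeal_sub_comm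
    (Blocks.Induced.memLocalIdeal_induced_sub ‹_› H ⟨_, hi⟩ ξ hξ g)) ?_) (isPBlock_sameBlock hB hχ hψ g)
  rw [icc_eq H h0]
  exact h g

omit [Finite G] in
theorem ind_unique {H : Subgroup G} {b : Set (IrrCharacter H)} {B B' : Set (IrrCharacter G)}
    (h : IsInducedBlock M H b B) (h' : IsInducedBlock M H b B') : B = B' := by
  obtain ⟨ξ, hξ⟩ := isPBlock_nonempty h.1
  obtain ⟨χ, hχ⟩ := isPBlock_nonempty h.2.1
  obtain ⟨χ', hχ'⟩ := isPBlock_nonempty h'.2.1
  exact isPBlock_eq_of_sameBlock h.2.1 h'.2.1 hχ hχ' fun g =>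
    memLocalIdeal_sub_trans (memLocalIdeal_sub_comm (h.2.2 ξ hξ χ hχ g)) (h'.2.2 ξ hξ χ' hχ' g)

theorem lin_ring (l : G →* ℂˣ) (g : G) : MemLocalRing M (l g : ℂ) :=
  memLocalRing_of_isIntegral (H666.Clif.isIntegral_lin l g)

theorem lin_ideal (l : G →* ℂˣ) (g : G) {z : ℂ} (h : MemLocalIdeal M ((l g : ℂ) * z)) : MemLocalIdeal M z := by
  have h1 := memLocalIdeal_mul_left (lin_ring (M := M) l g⁻¹) h
  rwa [← mul_assoc, ← Units.val_mul, ← map_mul, inv_mul_cancel, map_one, Units.val_one, one_mul] at h1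

omit [M.IsPrime] in
theorem conj_lin (l : G →* ℂˣ) (g : G) : conj (l g : ℂ) = (l g⁻¹ : ℂ) := by
  have h1 := Core.isCharacter_apply_inv (Core.isIrr_isCharacter (tl l ⟨_, isIrrCharacter_one⟩).2) g
  rw [tl_apply, tl_apply] at h1
  simpa only [mul_one] using h1.symm

theorem defect_tl (l : G →* ℂˣ) {B : Set (IrrCharacter G)} {D : Subgroup G} (h : IsDefectGroup p M B D) :
    IsDefectGroup p M (tl l '' B) D := by
  obtain ⟨g, hg, hD⟩ := h
  have e : blockCoeff (tl l '' B) g = (l g⁻¹ : ℂ) * blockCoeff B g := by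
    rw [blockCoeff_def, blockCoeff_def, finsum_mem_image (H666.Clif.tl_injective l).injOn, mul_left_comm,
      mul_finsum_mem _ (l g⁻¹ : ℂ)]
    refine congrArg _ (finsum_mem_congr rfl fun χ _ => ?_)
    rw [tl_apply, tl_apply, map_one, Units.val_one, one_mul, map_mul, conj_lin]
    ring
  refine ⟨g, ⟨?_, ?_, ?_⟩, hD⟩
  · rw [e]
    exact memLocalRing_mul (lin_ring l _) hg.1
  · rw [e]
    exact fun h => hg.2.1 (lin_ideal l _ h)
  · rintro _ ⟨χ, hχ, rfl⟩
    rw [H666.Clif.centralChar_tl]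
    exact fun h => hg.2.2 χ hχ (lin_ideal l _ h)

end

section

variable {G : Type*} [Group G] [Finite G] {p : ℕ} {M : Ideal AlgInt}

omit [Finite G] in
theorem lin_conj (l : G →* ℂˣ) {g x : G} (h : IsConj g x) : l x = l g := by
  obtain ⟨c, rfl⟩ := isConj_iff.1 h
  rw [map_mul, map_mul, map_inv, mul_comm (l c), mul_inv_cancel_right]

/-- twisting by a linear character -/
theorem can_tl {B : Set (IrrCharacter G)} {D : Subgroup G} {θ : G → ℂ} (h : Can p M B D θ) (l : G →* ℂˣ)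
    (hl : D ≤ l.ker) : Can p M (tl l '' B) D (fun g => θ g * l g) := by
  have := isPrime_of_isPModular h.hM
  have hi : IsIrrCharacter (Ce D) fun c => θ c * l c := by
    have h1 := (tl (l.comp (Ce D).subtype) ⟨_, h.irr⟩).2
    have e : (tl (l.comp (Ce D).subtype) ⟨_, h.irr⟩ : Ce D → ℂ) = fun c : Ce D => θ c * l c :=
      funext fun c => mul_comm _ _
    rwa [e] at h1
  have h0 : ∀ g, g ∉ Ce D → θ g * l g = 0 := fun g hg => by rw [h.zero g hg, zero_mul]
  obtain ⟨χ, hχ⟩ := isPBlock_nonempty h.ind.2.1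
  refine ⟨h.hM, defect_tl l h.hD, h.ab, hi, ?_, h0, fun d hd => ?_⟩
  · refine ind_of (θ := fun g => θ g * l g) hi h0 (H666.Clif.isPBlock_tl this l h.ind.2.1) ⟨χ, hχ, rfl⟩ fun g => ?_
    have h1 := memLocalIdeal_mul_left (lin_ring (M := M) l g)
      (ind_sum h.irr h.zero h.ind hχ {x | IsConj g x} fun x hx y hy => IsConj.trans hx hy)
    rw [← cc_eq χ.2, mul_sub, mul_finsum_mem] at h1
    rw [H666.Clif.centralChar_tl, finsum_mem_congr rfl (g := fun x => (l g : ℂ) * (θ x / θ 1)) fun x hx => by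
      rw [lin_conj l hx, map_one, Units.val_one, mul_one]
      ring]
    exact h1
  · rw [h.triv d hd, show l d = 1 from hl hd, map_one]

omit [Finite G] in
theorem can_unique {B B' : Set (IrrCharacter G)} {D : Subgroup G} {θ : G → ℂ} (h : Can p M B D θ)
    (h' : Can p M B' D θ) : B = B' :=
  have := isPrime_of_isPModular h.hM
  ind_unique h.ind h'.ind

/-- transport along an isomorphism -/
theorem can_map {H : Type*} [Group H] (e : G ≃* H) {b : Set (IrrCharacter G)} {D : Subgroup G} {θ : G → ℂ}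
    (h : Can p M b D θ) : Can p M (H649.blkMap e b) (D.map e.toMonoidHom) (fun x => θ (e.symm x)) := by
  have := isPrime_of_isPModular h.hM
  have : Finite H := Finite.of_equiv G e.toEquiv
  have hc : ∀ x : H, x ∈ Ce (D.map e.toMonoidHom) ↔ e.symm x ∈ Ce D := fun x => by
    rw [← mem_Ce_map e.toMonoidHom e.injective]
    exact Iff.of_eq (congrArg (· ∈ Ce (D.map e.toMonoidHom)) (e.apply_symm_apply x).symm)
  have hi : IsIrrCharacter (Ce (D.map e.toMonoidHom)) fun c => θ (e.symm c) :=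
    Core.isIrr_comp ((e.symm.toMonoidHom.comp (Ce (D.map e.toMonoidHom)).subtype).codRestrict (Ce D)
      fun x => (hc x).1 x.2) (fun y => ⟨⟨e y, (mem_Ce_map e.toMonoidHom e.injective).2 y.2⟩,
        Subtype.ext (e.symm_apply_apply y)⟩) h.irr
  have h0 : ∀ x, x ∉ Ce (D.map e.toMonoidHom) → θ (e.symm x) = 0 := fun x hx => h.zero _ fun h1 => hx ((hc x).2 h1)
  obtain ⟨χ, hχ⟩ := isPBlock_nonempty h.ind.2.1
  refine ⟨h.hM, H649.isDefectGroup_blkMap h.hD, ?_, hi, ?_, h0, ?_⟩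
  · rintro _ ⟨d, hd, rfl⟩
    exact (mem_Ce_map e.toMonoidHom e.injective).2 (h.ab hd)
  · refine ind_of (θ := fun x => θ (e.symm x)) hi h0 (H649.isPBlock_blkMap h.ind.2.1) (H649.irrMap_mem_blkMap.2 hχ)
      fun g => ?_
    have h1 := ind_sum h.irr h.zero h.ind hχ {x | IsConj (e.symm g) x} fun x hx y hy => IsConj.trans hx hy
    rw [← cc_eq χ.2, ← H649.centralChar_map] at h1
    have e1 : {x | IsConj (e.symm g) x} = e.symm '' {x | IsConj g x} := by
      ext x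
      refine ⟨fun hx => ⟨e x, ?_, e.symm_apply_apply x⟩, ?_⟩
      · have h2 := e.toMonoidHom.map_isConj hx
        rwa [MulEquiv.coe_toMonoidHom, e.apply_symm_apply] at h2
      · rintro ⟨y, hy, rfl⟩
        exact e.symm.toMonoidHom.map_isConj hy
    rw [e1, finsum_mem_image e.symm.injective.injOn] at h1
    simp only [map_one]
    exact h1
  · rintro _ ⟨d, hd, rfl⟩
    rw [map_one, MulEquiv.coe_toMonoidHom, e.symm_apply_apply, h.triv d hd]

omit [Finite G] in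
theorem cyc_sub (N H : Subgroup G) [N.Normal] (hc : IsCyclic (G ⧸ N)) : IsCyclic (H ⧸ N.subgroupOf H) := by
  refine isCyclic_of_injective (QuotientGroup.map (N.subgroupOf H) N H.subtype le_rfl) ?_
  rw [injective_iff_map_eq_one]
  intro x hx
  obtain ⟨y, rfl⟩ := QuotientGroup.mk_surjective x
  exact (QuotientGroup.eq_one_iff _).2 ((QuotientGroup.eq_one_iff (N := N) (y : G)).1 hx)

/-- extension over a cyclic quotient -/
theorem exists_extn (N H : Subgroup G) [N.Normal] (hc : IsCyclic (G ⧸ N)) {f : G → ℂ}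
    (hf : IsIrrCharacter ↥(H ⊓ N) fun x => f x) (hinv : ∀ t ∈ H, ∀ x ∈ H, x ∈ N → f (t * x * t⁻¹) = f x) :
    ∃ f' : H → ℂ, IsIrrCharacter H f' ∧ ∀ x : H, (x : G) ∈ N → f' x = f x := by
  have h1 : IsIrrCharacter (N.subgroupOf H) fun x => f ((x : H) : G) :=
    Core.isIrr_comp ((H.subtype.comp (N.subgroupOf H).subtype).codRestrict (H ⊓ N) fun x => ⟨x.1.2, x.2⟩)
      (fun y => ⟨⟨⟨y, y.2.1⟩, y.2.2⟩, rfl⟩) hf
  obtain ⟨χ, h2, h3⟩ := S0886.result (N.subgroupOf H) (cyc_sub N H hc) _ h1 fun g n => hinv g g.2 _ n.1.2 n.2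
  exact ⟨χ, h2, fun x hx => h3 ⟨x, hx⟩⟩

/-- an irreducible character which vanishes outside of `K` and stays irreducible on `K` -/
theorem top_of_vanish (K : Subgroup G) {χ : G → ℂ} (h1 : IsIrrCharacter G χ) (h2 : IsIrrCharacter K fun k => χ k)
    (h3 : ∀ g, g ∉ K → χ g = 0) : K = ⊤ := by
  classical
  have := Fintype.ofFinite G
  have h4 := Core.classInner_irr_self h1
  have h5 := Core.classInner_irr_self h2
  rw [classInner_def] at h4 h5
  have h6 : ∑ g : G, χ g * conj (χ g) = ∑ k : K, χ k * conj (χ k) := by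
    rw [← Finset.sum_subtype (Finset.univ.filter (· ∈ K)) (by simp) (fun g => χ g * conj (χ g))]
    refine (Finset.sum_subset (Finset.filter_subset _ _) fun g _ hg => ?_).symm
    rw [h3 g (by simpa using hg), zero_mul]
  rw [h6] at h4
  have h7 : (Nat.card K : ℂ) = Nat.card G :=
    inv_injective ((eq_inv_of_mul_eq_one_left h5).trans (eq_inv_of_mul_eq_one_left h4).symm)
  exact Subgroup.eq_top_of_card_eq K (by exact_mod_cast h7)

omit [Finite G] in
theorem exists_under (N : Subgroup G) [Fintype N] {χ : G → ℂ} (hχ : IsIrrCharacter G χ) :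
    ∃ θ : IrrCharacter N, classInner (fun n : N => χ n) (θ : N → ℂ) ≠ 0 := by
  by_contra hno
  push Not at hno
  have h2 := Core.classFunction_eq_zero (f := fun n : N => χ n) (fun g h => irr_conj hχ (g : G) (h : G))
    fun ψ hψ => hno ⟨ψ, hψ⟩
  exact irr_one_ne_zero hχ (congrFun h2 1)

end

end Cfsg.Agent.TO.Cov
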