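import Cfsg.Agent.TO.Box
import Cfsg.Agent.H608.BlockRank
import Cfsg.Agent.H660.BlockTransport

/-!
# S4817, invariants of the stabiliser in the span of a block

`V b` is the span of the block, `av b F` the sum of the translates of `F` under the stabiliser.
With two orbits the invariants which vanish at `1` form a line.
-/

set_option autoImplicit false

namespace Cfsg.Agent.TO.Inv

open Cfsg Cfsg.Agent.Blocks.Basic Cfsg.Agent.Characters Cfsg.Agent.H660.BlockTransport
open scoped ComplexConjugate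

variable {G : Type} [Group G]

/-- the span of `b` -/
abbrev V (b : Set (IrrCharacter G)) : Submodule ℂ (G → ℂ) := Submodule.span ℂ (Fn b)

theorem mem_Fn {b : Set (IrrCharacter G)} {χ : IrrCharacter G} : χ.1 ∈ Fn b ↔ χ ∈ b :=
  Subtype.val_injective.mem_set_image

theorem mem_V {b : Set (IrrCharacter G)} {χ : IrrCharacter G} (h : χ ∈ b) : χ.1 ∈ V b :=
  Submodule.subset_span (mem_Fn.2 h)

theorem V_class [Finite G] {b : Set (IrrCharacter G)} {F : G → ℂ} (hF : F ∈ V b) :
    IsClassFunction G F := H608.BlockRank.charSpan_isClassFunction (B := b) hF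

theorem V_mono {b b' : Set (IrrCharacter G)} (h : b ⊆ b') : V b ≤ V b' :=
  Submodule.span_mono (Set.image_mono h)

theorem comp_mem_V {b : Set (IrrCharacter G)} {α : MulAut G} (hα : α ∈ Stab b) {F : G → ℂ}
    (hF : F ∈ V b) : F ∘ α ∈ V b := by
  induction hF using Submodule.span_induction with
  | mem f h => exact Submodule.subset_span ((hα f).2 h)
  | zero => exact Submodule.zero_mem _
  | add f f' _ _ h h' => exact Submodule.add_mem _ h h'
  | smul c f _ h => exact Submodule.smul_mem _ c h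

theorem comp_mem_V_blockMap {H : Type} [Group H] (e : G ≃* H) {c : Set (IrrCharacter H)} {F : H → ℂ}
    (hF : F ∈ V c) : (fun x => F (e x)) ∈ V (blockMap e.symm c) := by
  induction hF using Submodule.span_induction with
  | mem f h =>
    obtain ⟨ξ, hξ, rfl⟩ := h
    exact mem_V (χ := irrMap e.symm ξ) (irrMap_mem_blockMap.2 hξ)
  | zero => exact Submodule.zero_mem _
  | add f f' _ _ h h' => exact Submodule.add_mem _ h h'
  | smul c f _ h => exact Submodule.smul_mem _ c h

theorem inner_notMem [Fintype G] {b : Set (IrrCharacter G)} {F : G → ℂ} (hF : F ∈ V b)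
    {ψ : IrrCharacter G} (hψ : ψ ∉ b) : classInner F ψ.1 = 0 := by
  induction hF using Submodule.span_induction with
  | mem f h =>
    obtain ⟨χ, hχ, rfl⟩ := h
    exact Core.classInner_irr_ne χ.2 ψ.2 fun h => hψ (Subtype.ext h ▸ hχ)
  | zero => exact Core.classInner_zero_left _
  | add f f' _ _ h h' => rw [Core.classInner_add_left, h, h', add_zero]
  | smul c f _ h => rw [Core.classInner_smul_left, h, mul_zero]

theorem inner_disjoint [Fintype G] {b b' : Set (IrrCharacter G)} (hd : Disjoint b b') {F F' : G → ℂ}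
    (hF : F ∈ V b) (hF' : F' ∈ V b') : classInner F F' = 0 := by
  induction hF' using Submodule.span_induction with
  | mem f h =>
    obtain ⟨χ, hχ, rfl⟩ := h
    exact inner_notMem hF fun h => Set.disjoint_left.1 hd h hχ
  | zero => exact Core.classInner_zero_right _
  | add f f' _ _ h h' => rw [Core.classInner_add_right, h, h', add_zero]
  | smul c f _ h => rw [Core.classInner_smul_right, h, mul_zero]

theorem V_expand [Fintype G] [Fintype (IrrCharacter G)] {b : Set (IrrCharacter G)}
    [DecidablePred (· ∈ b)] {F : G → ℂ} (hF : F ∈ V b) :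
    F = ∑ χ : IrrCharacter G with χ ∈ b, classInner F χ.1 • χ.1 := by
  conv_lhs => rw [Core.classFunction_eq_sum (V_class hF)]
  symm
  refine Finset.sum_subset (Finset.filter_subset _ _) fun χ _ hχ => ?_
  rw [inner_notMem hF (by simpa using hχ), zero_smul]

theorem reg_eq [Fintype (IrrCharacter G)] (b : Set (IrrCharacter G)) [DecidablePred (· ∈ b)] :
    reg b = ∑ χ : IrrCharacter G with χ ∈ b, χ.1 1 • χ.1 := by
  funext g
  rw [Finset.sum_apply]
  exact Blocks.Orthogonality.finsum_mem_eq_sum_filter b _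

theorem reg_mem [Finite G] (b : Set (IrrCharacter G)) : reg b ∈ V b := by
  classical
  have : Finite (IrrCharacter G) := Core.finite_irr
  have := Fintype.ofFinite (IrrCharacter G)
  rw [reg_eq]
  exact Submodule.sum_mem _ fun χ hχ => Submodule.smul_mem _ _ (mem_V (by simpa using hχ))

theorem reg_one_ne [Finite G] {b : Set (IrrCharacter G)} (hb : b.Nonempty) : reg b 1 ≠ 0 := by
  classical
  have : Finite (IrrCharacter G) := Core.finite_irr
  have := Fintype.ofFinite (IrrCharacter G)
  rw [reg_eq, Finset.sum_apply]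
  have h1 : ∀ χ : IrrCharacter G, (χ.1 1 • χ.1) 1 = ((charDegree χ.1 * charDegree χ.1 : ℕ) : ℂ) := by
    intro χ
    rw [Pi.smul_apply, smul_eq_mul, irr_one_eq_charDegree χ.2]
    push_cast
    rfl
  simp only [h1]
  rw [← Nat.cast_sum, Nat.cast_ne_zero]
  obtain ⟨χ, hχ⟩ := hb
  intro h
  rw [Finset.sum_eq_zero_iff] at h
  have := h χ (by simpa using hχ)
  have h2 := charDegree_pos χ.2
  exact (Nat.mul_pos h2 h2).ne' this

theorem reg_blockMap {H : Type} [Group H] (e : G ≃* H) (c : Set (IrrCharacter H)) (x : G) :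
    reg (blockMap e.symm c) x = reg c (e x) := by
  unfold reg
  rw [blockMap_eq_image, finsum_mem_image (irrMap_injective e.symm).injOn]
  refine finsum_mem_congr rfl fun ξ _ => ?_
  rw [irrMap_one]
  rfl

theorem class_comp_conj {F : G → ℂ} (hF : IsClassFunction G F) (g : G) : F ∘ (MulAut.conj g) = F :=
  funext fun x => hF x g

theorem conj_mem_Stab (b : Set (IrrCharacter G)) (g : G) : MulAut.conj g ∈ Stab b := by
  intro f
  constructor
  · rintro ⟨χ, hχ, h⟩
    have h1 : f = χ.1 := by
      funext x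
      have := congrFun h (g⁻¹ * x * g⁻¹⁻¹)
      rw [irr_conj χ.2] at this
      rw [this]
      simp [mul_assoc]
    exact ⟨χ, hχ, h1.symm⟩
  · rintro ⟨χ, hχ, rfl⟩
    rw [class_comp_conj (irr_isClassFunction χ.2)]
    exact ⟨χ, hχ, rfl⟩

theorem inner_comp [Fintype G] (α : MulAut G) (F F' : G → ℂ) :
    classInner (F ∘ α) (F' ∘ α) = classInner F F' := classInner_comp α F F'

/-- the sum of the translates under the stabiliser -/
noncomputable def av (b : Set (IrrCharacter G)) [Fintype (Stab b)] (F : G → ℂ) : G → ℂ :=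
  ∑ α : Stab b, F ∘ (α : MulAut G)

section av

variable {b : Set (IrrCharacter G)} [Fintype (Stab b)]

theorem av_apply (F : G → ℂ) (g : G) : av b F g = ∑ α : Stab b, F ((α : MulAut G) g) := by
  unfold av
  rw [Finset.sum_apply]
  rfl

theorem av_mem {F : G → ℂ} (hF : F ∈ V b) : av b F ∈ V b :=
  Submodule.sum_mem _ fun α _ => comp_mem_V α.2 hF

theorem av_inv (F : G → ℂ) {β : MulAut G} (hβ : β ∈ Stab b) : av b F ∘ β = av b F := by
  funext g
  rw [Function.comp_apply, av_apply, av_apply]
  exact Fintype.sum_equiv (Equiv.mulRight (⟨β, hβ⟩ : Stab b)) _ _ fun α => rfl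

theorem av_sub_smul (F F' : G → ℂ) (r : ℂ) : av b (F - r • F') = av b F - r • av b F' := by
  funext g
  simp only [Pi.sub_apply, Pi.smul_apply, av_apply, smul_eq_mul, Finset.sum_sub_distrib, Finset.mul_sum]

theorem inner_av_left [Fintype G] (F F' : G → ℂ) :
    classInner (av b F) F' = ∑ α : Stab b, classInner (F ∘ (α : MulAut G)) F' :=
  Core.classInner_sum_left _ _ _

theorem inner_av_right [Fintype G] {X : G → ℂ} (hX : ∀ α ∈ Stab b, X ∘ α = X) (F : G → ℂ) :
    classInner X (av b F) = (Fintype.card (Stab b) : ℂ) * classInner X F := by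
  unfold av
  rw [Core.classInner_sum_right]
  have : ∀ α : Stab b, classInner X (F ∘ (α : MulAut G)) = classInner X F := by
    intro α
    conv_lhs => rw [← hX α α.2]
    exact inner_comp _ _ _
  simp only [this]
  rw [Finset.sum_const, Finset.card_univ, nsmul_eq_mul]

end av

theorem eq_zero_of_sum {ι : Type} [Fintype ι] {g : ι → ℂ} {N : ℂ} (h : ∀ i, g i = 0 ∨ g i = N) (i₀ : ι)
    (h₀ : g i₀ = N) (hs : ∑ i, g i = 0) : N = 0 := by
  classical
  have h1 : ∑ i, g i = ∑ i with g i = N, N := by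
    rw [Finset.sum_filter]
    refine Finset.sum_congr rfl fun i _ => ?_
    split_ifs with hi
    · exact hi
    · exact (h i).resolve_right hi
  rw [h1, Finset.sum_const, nsmul_eq_mul, mul_eq_zero] at hs
  refine hs.resolve_left ?_
  rw [Nat.cast_eq_zero, Finset.card_eq_zero]
  exact Finset.ne_empty_of_mem (a := i₀) (by simpa using h₀)

/-- with two orbits the invariants which vanish at `1` form a line -/
theorem line [Finite G] {b : Set (IrrCharacter G)} {χ₁ χ₂ : G → ℂ} (h : TwoOf b χ₁ χ₂) :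
    ∃ η : G → ℂ, ∀ F ∈ V b, (∀ α ∈ Stab b, F ∘ α = F) → F 1 = 0 → ∃ t : ℂ, F = t • η := by
  classical
  have := Fintype.ofFinite G
  have : Finite (IrrCharacter G) := Core.finite_irr
  have := Fintype.ofFinite (IrrCharacter G)
  set S : Finset (IrrCharacter G) := Finset.univ.filter (· ∈ b) with hS
  set ψ₁ : G → ℂ := ∑ χ ∈ S with χ.1 ∈ Orb b χ₁, χ.1 with hψ₁
  set ψ₂ : G → ℂ := ∑ χ ∈ S with χ.1 ∉ Orb b χ₁, χ.1 with hψ₂
  obtain ⟨ξ₁, hξ₁, rfl⟩ := h.m1
  have hne : ψ₁ 1 ≠ 0 := by
    rw [hψ₁, Finset.sum_apply, Finset.sum_congr rfl (g := fun _ => ξ₁.1 1), Finset.sum_const,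
      nsmul_eq_mul]
    · refine mul_ne_zero ?_ (irr_one_ne_zero ξ₁.2)
      rw [Nat.cast_ne_zero, Ne, Finset.card_eq_zero]
      refine Finset.ne_empty_of_mem (a := ξ₁) ?_
      rw [Finset.mem_filter]
      exact ⟨by simpa [hS] using hξ₁, 1, one_mem _, rfl⟩
    · intro χ hχ
      obtain ⟨α, -, hα⟩ := (Finset.mem_filter.1 hχ).2
      rw [hα, Function.comp_apply, map_one]
  refine ⟨ψ₂ - (ψ₂ 1 / ψ₁ 1) • ψ₁, fun F hF hinv h1 => ⟨classInner F χ₂, ?_⟩⟩
  have hc : ∀ (f f' : G → ℂ), f' ∈ Orb b f → classInner F f' = classInner F f := by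
    rintro f _ ⟨α, hα, rfl⟩
    conv_lhs => rw [← hinv α hα]
    exact inner_comp _ _ _
  have hexp : F = classInner F ξ₁.1 • ψ₁ + classInner F χ₂ • ψ₂ := by
    conv_lhs => rw [V_expand hF]
    rw [← Finset.sum_filter_add_sum_filter_not S (fun χ => χ.1 ∈ Orb b ξ₁.1), hψ₁, hψ₂,
      Finset.smul_sum, Finset.smul_sum]
    congr 1
    · refine Finset.sum_congr rfl fun χ hχ => ?_
      rw [hc _ _ (Finset.mem_filter.1 hχ).2]
    · refine Finset.sum_congr rfl fun χ hχ => ?_
      obtain ⟨h2, h3⟩ := Finset.mem_filter.1 hχ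
      rw [hc _ _ ((h.cov χ.1 (mem_Fn.2 (by simpa [hS] using h2))).resolve_left h3)]
  have h2 : classInner F ξ₁.1 = -(classInner F χ₂ * (ψ₂ 1 / ψ₁ 1)) := by
    have h3 := congrFun hexp 1
    rw [h1] at h3
    simp only [Pi.add_apply, Pi.smul_apply, smul_eq_mul] at h3
    field_simp
    linear_combination -h3
  conv_lhs => rw [hexp, h2]
  funext g
  simp only [Pi.add_apply, Pi.sub_apply, Pi.smul_apply, smul_eq_mul]
  ring

end Cfsg.Agent.TO.Inv
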