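import Cfsg.Agent.TO.CovA
import Cfsg.Agent.ODD.Red.Bas
import Cfsg.Agent.H348.PPD.Dich
import Cfsg.Agent.CharactersDeep.AbelianQuotient
import Cfsg.Agent.S0886

/-!
# S4817, task K : characters over a normal subgroup with cyclic quotient (helper34)

`exists_tw`, `deg_fix`, `exists_moved`, `five`.
-/

set_option autoImplicit false
set_option linter.unusedSectionVars false

namespace Cfsg.Agent.TO.K

open Cfsg Cfsg.Agent.ODD.Red Cfsg.Agent.Characters.Core Cfsg.Agent.CharactersDeep.AbelianQuotient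
open scoped ComplexConjugate

variable {G : Type} [Group G] [Finite G] {N : Subgroup G} [N.Normal] [Fintype N] {g : G}

variable (N) in
/-- `χ` lies over `θ` -/
def Ov (χ : G → ℂ) (θ : N → ℂ) : Prop := classInner (fun n : N => χ n) θ ≠ 0

/-- the conjugate -/
def cj (g : G) (θ : N → ℂ) : N → ℂ := fun n => θ (MulAut.conjNormal g n)

theorem cj_irr (g : G) {θ : N → ℂ} (h : IsIrrCharacter N θ) : IsIrrCharacter N (cj g θ) :=
  isIrr_comp (MulAut.conjNormal g : MulAut N).toMonoidHom (MulEquiv.surjective _) h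

/-- the stabiliser -/
def St (θ : N → ℂ) : Subgroup G where
  carrier := {x | cj x θ = θ}
  one_mem' := funext fun n => by rw [cj, map_one]; rfl
  mul_mem' {x y} hx hy := funext fun n => by
    rw [cj, map_mul]
    exact (congrFun hx _).trans (congrFun hy n)
  inv_mem' {x} hx := funext fun n => by
    have h := congrFun hx (MulAut.conjNormal x⁻¹ n)
    rw [cj, ← MulAut.mul_apply, ← map_mul, mul_inv_cancel, map_one] at h
    exact h.symm

theorem le_St {θ : N → ℂ} (h : IsIrrCharacter N θ) : N ≤ St θ := fun _ hx =>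
  funext fun n => H348.PPD.Dich.conjNormal_of_mem (isIrr_isClassFunction h) hx n

theorem inner_res [Fintype G] (a b : G → ℂ) (Λ : Finset (G →* ℂˣ))
    (h1 : ∀ g ∈ N, ∑ l ∈ Λ, (l g : ℂ) = N.index) (h2 : ∀ g ∉ N, ∑ l ∈ Λ, (l g : ℂ) = 0) :
    classInner (fun n : N => a n) (fun n : N => b n) = ∑ l ∈ Λ, classInner ((fun g => (l g : ℂ)) * a) b := by
  classical
  have hI0 : (N.index : ℂ) ≠ 0 := Nat.cast_ne_zero.2 Subgroup.index_ne_zero_of_finite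
  have e1 : ∑ g : G, (∑ l ∈ Λ, (l g : ℂ)) * (a g * conj (b g)) = N.index * ∑ n : N, a n * conj (b n) := by
    rw [← Finset.sum_filter_add_sum_filter_not Finset.univ (fun g => g ∈ N),
      Finset.sum_eq_zero (s := Finset.univ.filter (fun g => ¬ g ∈ N))
        fun g hg => by rw [h2 g (by simpa using hg), zero_mul], add_zero, Finset.mul_sum,
      Finset.sum_subtype (p := fun g => g ∈ N) _ (by simp)]
    exact Finset.sum_congr rfl fun n _ => by rw [h1 n n.2]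
  simp only [classInner_def, ← Finset.mul_sum, Pi.mul_apply, mul_assoc]
  rw [Finset.sum_comm]
  simp only [← Finset.sum_mul]
  rw [e1, ← N.card_mul_index, Nat.cast_mul, mul_inv, mul_assoc, inv_mul_cancel_left₀ hI0]

theorem cyc_of (hg : N ⊔ Subgroup.zpowers g = ⊤) : IsCyclic (G ⧸ N) := ⟨⟨g, fun x => by
  obtain ⟨x, rfl⟩ := QuotientGroup.mk_surjective x
  obtain ⟨n, hn, _, ⟨k, rfl⟩, rfl⟩ := Subgroup.mem_sup_of_normal_left.1 (hg.ge (Subgroup.mem_top x))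
  exact ⟨k, by simp [(QuotientGroup.eq_one_iff n).2 hn]⟩⟩⟩

/-- characters whose restrictions are not orthogonal differ by a linear character -/
theorem exists_tw (hc : IsCyclic (G ⧸ N)) {χ Ψ : G → ℂ} (h1 : IsIrrCharacter G Ψ) (h2 : IsIrrCharacter G χ)
    (h : Ov N χ fun n => Ψ n) : ∃ l : G →* ℂˣ, N ≤ l.ker ∧ χ = fun x => Ψ x * l x := by
  have := Fintype.ofFinite G
  obtain ⟨Λ, h3, -, h4, h5⟩ := exists_linear_dual N fun x y => (QuotientGroup.eq_one_iff _).1 (by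
    simp [mul_comm' (x : G ⧸ N) (y : G ⧸ N)])
  rw [Ov, ← classInner_conj_symm, map_ne_zero, inner_res Ψ χ Λ h4 h5] at h
  obtain ⟨l, hl, h6⟩ := Finset.exists_ne_zero_of_sum_ne_zero h
  exact ⟨l, (h3 l).1 hl, (by_contra fun e => h6 (classInner_irr_ne (isIrr_linear_mul l h1) h2 e) : _ = χ).symm.trans
    (funext fun x => mul_comm _ _)⟩

theorem deg_fix (hg : N ⊔ Subgroup.zpowers g = ⊤) {θ : N → ℂ} (h1 : IsIrrCharacter N θ) (h2 : cj g θ = θ) {χ : G → ℂ}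
    (h3 : IsIrrCharacter G χ) (h4 : Ov N χ θ) : χ 1 = θ 1 := by
  have h5 : ⊤ ≤ St θ := hg ▸ sup_le (le_St h1) (Subgroup.zpowers_le.2 h2)
  obtain ⟨Ψ, h6, h7⟩ := S0886.result N (cyc_of hg) θ h1 fun x n =>
    (congrArg θ (Subtype.ext (MulAut.conjNormal_apply x n).symm)).trans (congrFun (h5 (Subgroup.mem_top x)) n)
  obtain ⟨l, -, rfl⟩ := exists_tw (cyc_of hg) h6 h3 ((funext h7 : (fun n : N => Ψ n) = θ) ▸ h4)
  simpa using h7 1

theorem ov_add {χ : G → ℂ} (h : IsIrrCharacter G χ) {θ θ' : N → ℂ} (h1 : IsIrrCharacter N θ) (h2 : IsIrrCharacter N θ')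
    (h3 : Ov N χ θ ∨ Ov N χ θ') : Ov N χ (θ + θ') := by
  obtain ⟨a, ha⟩ := classInner_isNat (isCharacter_comp' N.subtype (isIrr_isCharacter h)) (isIrr_isCharacter h1)
  obtain ⟨b, hb⟩ := classInner_isNat (isCharacter_comp' N.subtype (isIrr_isCharacter h)) (isIrr_isCharacter h2)
  simp only [Subgroup.coe_subtype] at ha hb
  simp only [Ov, classInner_add_right, ha, hb, ← Nat.cast_add, Nat.cast_ne_zero] at h3 ⊢
  omega

/-- a character which is moved by `g` and fixed by `g ^ 2` -/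
theorem exists_moved (hg : N ⊔ Subgroup.zpowers g = ⊤) {θ : N → ℂ} (h1 : IsIrrCharacter N θ) (h2 : cj g θ ≠ θ)
    (h3 : cj (g ^ 2) θ = θ) : ∃ Ψ : G → ℂ, IsIrrCharacter G Ψ ∧ (∀ x ∉ N ⊔ Subgroup.zpowers (g ^ 2), Ψ x = 0) ∧
      (fun n : N => Ψ n) = θ + cj g θ ∧
      ∀ l : G →* ℂˣ, N ≤ l.ker → (∀ x, Ψ x * l x = Ψ x) → N ⊔ Subgroup.zpowers (g ^ 2) ≤ l.ker := by
  set K := N ⊔ Subgroup.zpowers (g ^ 2) with hK
  have h4 : K ≤ St θ := sup_le (le_St h1) (Subgroup.zpowers_le.2 h3)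
  have h5 : g ∉ K := fun h => h2 (h4 h)
  have h6 : K.index = 2 := Subgroup.index_eq_two_iff.2 ⟨g, fun x => by
    obtain ⟨n, hn, _, ⟨k, rfl⟩, rfl⟩ := Subgroup.mem_sup_of_normal_left.1 (hg.ge (Subgroup.mem_top x))
    have h7 : ∀ j : ℤ, n * g ^ (2 * j) ∈ K := fun j => Subgroup.mul_mem_sup hn ⟨j, by rw [zpow_mul, zpow_ofNat]⟩
    rcases Int.even_or_odd' k with ⟨j, rfl | rfl⟩
    · exact .inr ⟨h7 j, fun h => h5 ((mul_mem_cancel_left (h7 j)).1 h)⟩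
    · have h8 : n * g ^ (2 * j + 1) * g ∈ K := by
        rw [mul_assoc, ← zpow_add_one]
        exact (by ring : 2 * (j + 1) = 2 * j + 1 + 1) ▸ h7 (j + 1)
      exact .inl ⟨h8, fun h => h5 ((mul_mem_cancel_left h).1 h8)⟩⟩
  have := Subgroup.normal_of_index_eq_two h6
  have := Fintype.ofFinite K
  have hN : N ≤ K := le_sup_left
  have h7 := isIrr_comp' (Subgroup.subgroupOfEquivOfLe hN).toMonoidHom (MulEquiv.surjective _) h1
  obtain ⟨ξ, h8, h9⟩ := S0886.result (N.subgroupOf K) (Cov.cyc_sub N K (cyc_of hg)) _ h7 fun x n =>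
    (congrArg θ (Subtype.ext (MulAut.conjNormal_apply (x : G) _).symm)).trans (congrFun (h4 x.2) _)
  have h10 : ∀ n : N, ξ ⟨n, hN n.2⟩ = θ n := fun n => h9 ⟨⟨n, hN n.2⟩, n.2⟩
  have h11 : ∀ n : N, ξ (MulAut.conjNormal g ⟨n, hN n.2⟩) = cj g θ n := fun n =>
    (congrArg ξ (Subtype.ext (by simp))).trans (h10 _)
  rcases H348.PPD.Dich.dich K h6 h8 with ⟨Ψ, h12, h13⟩ | ⟨Ψ, h12, h13, h14⟩
  · refine absurd (funext fun n => ?_) h2
    rw [← h11, ← h13, ← h10, ← h13, MulAut.conjNormal_apply]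
    exact isIrr_isClassFunction h12 _ _
  refine ⟨Ψ, h12, h13, funext fun n => ((h14 g h5).1 ⟨n, hN n.2⟩).trans (congrArg₂ _ (h10 n) (h11 n)), fun l hl h x hx => ?_⟩
  have h15 := cj_irr g h8
  have h16 : (fun x : K => (l.comp K.subtype x : ℂ)) * ξ + (fun x : K => (l.comp K.subtype x : ℂ)) * cj g ξ = ξ + cj g ξ :=
    funext fun y => by
      have h17 := h y
      rw [(h14 g h5).1 y] at h17
      exact (mul_add _ _ _).symm.trans ((mul_comm _ _).trans h17)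
  have h17 := congrArg (classInner · ξ) h16
  simp only [classInner_add_left] at h17
  rw [classInner_irr_self h8, classInner_irr_ne h15 h8 (h14 g h5).2, classInner_irr_ne (isIrr_linear_mul _ h15) h8 fun e =>
    h2 (funext fun n => (h11 n).symm.trans (Eq.trans (by simpa [show l n = 1 from hl n.2] using congrFun e ⟨n, hN n.2⟩ :
      cj g ξ _ = _) (h10 n))), add_left_inj] at h17
  have h18 : (fun x : K => (l.comp K.subtype x : ℂ)) * ξ = ξ := by_contra fun e =>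
    zero_ne_one ((classInner_irr_ne (isIrr_linear_mul _ h8) h8 e).symm.trans h17)
  exact Units.ext (gall_inj (N.subgroupOf K) h8 ((funext h9 : (fun n : N.subgroupOf K => ξ n) = _) ▸ h7)
    (η := fun y => l y) (η' := fun _ => 1) (fun n y => by simp [show l n = 1 from hl n.2]) (fun _ _ => rfl)
    (fun y => by simpa [mul_comm] using congrFun h18 y) ⟨x, hx⟩)

theorem moved (hg : N ⊔ Subgroup.zpowers g = ⊤) {θ : N → ℂ} (h1 : IsIrrCharacter N θ) (h2 : cj g θ ≠ θ)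
    (h3 : cj (g ^ 2) θ = θ) {χ : G → ℂ} (h4 : IsIrrCharacter G χ) (h5 : Ov N χ (θ + cj g θ)) :
    (fun n : N => χ n) = θ + cj g θ ∧ ∀ l m : G →* ℂˣ, N ≤ l.ker → N ≤ m.ker →
      ((fun x => χ x * l x) = (fun x => χ x * m x) ↔ ∀ x ∈ N ⊔ Subgroup.zpowers (g ^ 2), l x = m x) := by
  obtain ⟨Ψ, h6, h7, h8, h9⟩ := exists_moved hg h1 h2 h3
  obtain ⟨k, hk, rfl⟩ := exists_tw (cyc_of hg) h6 h4 (h8 ▸ h5)
  refine ⟨h8 ▸ funext fun n => by simp [show k n = 1 from hk n.2], fun l m hl hm => ⟨fun h x hx => ?_, fun h => funext fun x => ?_⟩⟩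
  · refine div_eq_one.1 (h9 (l / m) (fun n hn => by simp [show l n = 1 from hl hn, show m n = 1 from hm hn]) (fun y => ?_) hx)
    have h10 := congrFun h y
    rw [mul_right_comm, mul_right_comm _ (k y : ℂ), mul_left_inj' (k y).ne_zero] at h10
    rw [MonoidHom.div_apply, Units.val_div_eq_div_val, mul_div_assoc', h10, mul_div_cancel_right₀ _ (m y).ne_zero]
  · by_cases hx : x ∈ N ⊔ Subgroup.zpowers (g ^ 2)
    · rw [h x hx]
    · simp [h7 x hx]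

theorem ncard_image_eq {α β : Type} {f f' : α → β} {T : Set α} (h : ∀ a ∈ T, ∀ b ∈ T, f a = f b ↔ f' a = f' b) :
    (f '' T).ncard = (f' '' T).ncard := by
  choose c h1 h2 using fun (y : β) (hy : y ∈ f '' T) => hy
  exact Set.ncard_congr (fun y hy => f' (c y hy)) (fun y hy => ⟨_, h1 y hy, rfl⟩)
    (fun y z hy hz e => by rw [← h2 y hy, ← h2 z hz, (h _ (h1 y hy) _ (h1 z hz)).2 e]) (by
      rintro _ ⟨a, ha, rfl⟩
      exact ⟨f a, ⟨a, ha, rfl⟩, (h _ (h1 _ _) _ ha).1 (h2 _ _)⟩)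

variable {S : Set (G → ℂ)}

theorem fibre (hg : N ⊔ Subgroup.zpowers g = ⊤) (hS : ∀ χ ∈ S, IsIrrCharacter G χ)
    (tw : ∀ l : G →* ℂˣ, ∀ χ ∈ S, (fun x => χ x * l x) ∈ S → ∀ ψ ∈ S, (fun x => ψ x * l x) ∈ S) {ϑ : N → ℂ}
    {χ : G → ℂ} (h1 : χ ∈ S) (h2 : (fun n : N => χ n) = ϑ) : {ψ ∈ S | Ov N ψ ϑ} =
      (fun (l : G →* ℂˣ) x => χ x * l x) '' {l | N ≤ l.ker ∧ ∀ ψ ∈ S, (fun x => ψ x * l x) ∈ S} := by
  ext ψ
  constructor
  · rintro ⟨h3, h4⟩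
    obtain ⟨l, hl, rfl⟩ := exists_tw (cyc_of hg) (hS χ h1) (hS ψ h3) (h2 ▸ h4)
    exact ⟨l, ⟨hl, tw l χ h1 h3⟩, rfl⟩
  · rintro ⟨l, ⟨h3, h4⟩, rfl⟩
    refine ⟨h4 χ h1, fun e => isIrr_apply_one_ne_zero (hS χ h1) (congrFun (classInner_self_eq_zero (φ := fun n : N => χ n) ?_) 1)⟩
    rw [← e, ← h2]
    exact congrArg (classInner · _) (funext fun n => by simp [show l n = 1 from h3 n.2])

/-- **five characters over a swapped pair and two characters of twice the degree** -/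
theorem five (hg : N ⊔ Subgroup.zpowers g = ⊤) (hS : ∀ χ ∈ S, IsIrrCharacter G χ) (h5 : S.ncard = 5)
    (tw : ∀ l : G →* ℂˣ, ∀ χ ∈ S, (fun x => χ x * l x) ∈ S → ∀ ψ ∈ S, (fun x => ψ x * l x) ∈ S)
    (par : ∀ a, ¬ ∀ χ ∈ S, χ 1 = a) {θ φ φ' : N → ℂ} (h1 : IsIrrCharacter N θ) (h2 : cj g θ ≠ θ) (h3 : cj (g ^ 2) θ = θ)
    (k1 : IsIrrCharacter N φ) (k2 : IsIrrCharacter N φ') (d1 : φ 1 = 2 * θ 1) (d2 : φ' 1 = 2 * θ 1)
    (k3 : cj g φ = φ ∧ cj g φ' = φ' ∨ cj g φ ≠ φ ∧ cj g φ = φ' ∧ cj (g ^ 2) φ = φ)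
    (ov : ∀ χ ∈ S, (Ov N χ θ ∨ Ov N χ (cj g θ)) ∨ Ov N χ φ ∨ Ov N χ φ') : False := by
  have e1 : ∀ {ϑ : N → ℂ} {χ : G → ℂ}, (fun n : N => χ n) = ϑ + cj g ϑ → χ 1 = 2 * ϑ 1 := fun h =>
    (congrFun h 1).trans (by simp [cj, two_mul])
  have e2 : ∀ χ ∈ S, Ov N χ (θ + cj g θ) → χ 1 = 2 * θ 1 := fun χ h h' => e1 (moved hg h1 h2 h3 (hS χ h) h').1
  have o1 : ∀ χ ∈ S, Ov N χ θ ∨ Ov N χ (cj g θ) → Ov N χ (θ + cj g θ) := fun χ h => ov_add (hS χ h) h1 (cj_irr g h1)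
  rcases k3 with ⟨k3, k4⟩ | ⟨k3, rfl, k4⟩
  · exact par _ fun χ h => (ov χ h).elim (fun h' => e2 χ h (o1 χ h h')) fun h' => h'.elim
      (fun h' => (deg_fix hg k1 k3 (hS χ h) h').trans d1) fun h' => (deg_fix hg k2 k4 (hS χ h) h').trans d2
  have e3 : ∀ χ ∈ S, Ov N χ (φ + cj g φ) → χ 1 = 2 * φ 1 := fun χ h h' => e1 (moved hg k1 k3 k4 (hS χ h) h').1
  have o2 : ∀ χ ∈ S, Ov N χ (θ + cj g θ) ∨ Ov N χ (φ + cj g φ) := fun χ h => (ov χ h).imp (o1 χ h) (ov_add (hS χ h) k1 k2)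
  by_cases a1 : ∃ χ ∈ S, Ov N χ (θ + cj g θ)
  swap
  · exact par _ fun χ h => e3 χ h ((o2 χ h).resolve_left fun h' => a1 ⟨χ, h, h'⟩)
  by_cases a2 : ∃ χ ∈ S, Ov N χ (φ + cj g φ)
  swap
  · exact par _ fun χ h => e2 χ h ((o2 χ h).resolve_right fun h' => a2 ⟨χ, h, h'⟩)
  obtain ⟨χ, a1, a3⟩ := a1
  obtain ⟨ψ, a2, a4⟩ := a2
  obtain ⟨b1, b2⟩ := moved hg h1 h2 h3 (hS χ a1) a3
  obtain ⟨b3, b4⟩ := moved hg k1 k3 k4 (hS ψ a2) a4
  have c1 : {ψ ∈ S | Ov N ψ (θ + cj g θ)}.ncard = {ψ ∈ S | Ov N ψ (φ + cj g φ)}.ncard := by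
    rw [fibre hg hS tw a1 b1, fibre hg hS tw a2 b3]
    exact ncard_image_eq fun l hl m hm => (b2 l m hl.1 hm.1).trans (b4 l m hl.1 hm.1).symm
  have c2 : S = {ψ ∈ S | Ov N ψ (θ + cj g θ)} ∪ {ψ ∈ S | Ov N ψ (φ + cj g φ)} :=
    Set.ext fun ξ => ⟨fun h => (o2 ξ h).imp (⟨h, ·⟩) (⟨h, ·⟩), fun h => h.elim And.left And.left⟩
  have c3 : S.Finite := Set.finite_of_ncard_ne_zero (by omega)
  rw [c2, Set.ncard_union_eq (Set.disjoint_left.2 fun ξ h h' => isIrr_apply_one_ne_zero h1 (by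
    linear_combination (e2 ξ h.1 h.2) / 2 - (e3 ξ h.1 h'.2) / 2 - d1)) (c3.subset fun _ h => h.1) (c3.subset fun _ h => h.1),
    c1] at h5
  omega

end Cfsg.Agent.TO.K
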