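import Cfsg.Agent.TO.KAut
import Cfsg.Agent.TO.KChr
import Cfsg.Agent.TO.KBox
import Cfsg.Agent.H597.Base
import Cfsg.Agent.S0964

/-!
# S4817, task K : the extension by an automorphism of order four on `D / <u>` (helper34)

`exists_frame`, `top`.
-/

set_option autoImplicit false
set_option linter.unusedSectionVars false
set_option maxHeartbeats 200000

namespace Cfsg.Agent.TO.K

open Cfsg Cfsg.Agent.Characters.Core Cfsg.Agent.ODD.Red

variable {H : Type} [Group H] [Finite H]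

/-- the extension of `H` by `α` -/
theorem exists_frame (α : MulAut H) : ∃ (G : Type) (_ : Group G) (_ : Finite G) (i : H →* G) (g : G) (ρ : G →* MulAut H),
    Function.Injective i ∧ i.range.Normal ∧ i.range ⊔ Subgroup.zpowers g = ⊤ ∧ i.range.index = orderOf α ∧
      (∀ x y, i (ρ x y) = x * i y * x⁻¹) ∧ ρ g = α := by
  have : Finite (MulAut H) := Finite.of_injective (fun α : MulAut H => (α : H → H)) DFunLike.coe_injective
  refine ⟨H ⋊[(Subgroup.zpowers α).subtype] Subgroup.zpowers α, inferInstance,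
    Finite.of_equiv _ SemidirectProduct.equivProd.symm, SemidirectProduct.inl, SemidirectProduct.inr ⟨α, Subgroup.mem_zpowers α⟩,
    SemidirectProduct.lift MulAut.conj (Subgroup.zpowers α).subtype fun β => by ext x y; simp,
    SemidirectProduct.inl_injective, ?_, top_le_iff.1 fun x _ => ?_, ?_, fun x y => ?_, by simp⟩
  · rw [SemidirectProduct.range_inl_eq_ker_rightHom]
    infer_instance
  · rw [← SemidirectProduct.inl_left_mul_inr_right x]
    obtain ⟨k, hk⟩ := x.right.2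
    exact Subgroup.mul_mem_sup ⟨_, rfl⟩ ⟨k, (map_zpow _ _ _).symm.trans (congrArg _ (Subtype.ext hk))⟩
  · rw [SemidirectProduct.range_inl_eq_ker_rightHom, Subgroup.index_ker,
      MonoidHom.range_eq_top.2 SemidirectProduct.rightHom_surjective, Subgroup.card_top, Nat.card_zpowers]
  · rw [← SemidirectProduct.inl_left_mul_inr_right x, map_mul, SemidirectProduct.lift_inl, SemidirectProduct.lift_inr,
      MulAut.mul_apply, MulAut.conj_apply, map_mul, map_mul, SemidirectProduct.inl_aut]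
    simp only [map_inv, mul_inv_rev, mul_assoc]

theorem pow_mem_Ce {D : Subgroup H} {θ : H → ℂ} {t : H} (ht : t ∈ In D θ) : t ^ (Ce D).relIndex (In D θ) ∈ Ce D := by
  have : ((Ce D).subgroupOf (In D θ)).Normal := ⟨fun x hx y => conj_mem_Ce (In_le_norm y.2) hx⟩
  exact Subgroup.pow_index_mem ((Ce D).subgroupOf (In D θ)) ⟨t, ht⟩

theorem tw_mem {M : Ideal AlgInt} (hM : M.IsPrime) {B : Set (IrrCharacter H)} (hB : IsPBlock M B) (l : H →* ℂˣ)
    {χ ψ : H → ℂ} (h1 : χ ∈ Fn B) (h2 : (fun x => χ x * l x) ∈ Fn B) (h3 : ψ ∈ Fn B) : (fun x => ψ x * l x) ∈ Fn B := by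
  obtain ⟨χ, h1, rfl⟩ := h1
  obtain ⟨ψ, h3, rfl⟩ := h3
  obtain ⟨χ', h2, h4⟩ := h2
  obtain rfl : χ' = H666.Clif.tl l χ := Subtype.ext (h4.trans (funext fun x => mul_comm _ _))
  exact ⟨_, Blocks.Covering.mem_of_sameBlock hM hB h2
    (H666.Clif.sameBlock_tl hM l (Blocks.Covering.sameBlock_of_mem hM hB h1 h3)), funext fun x => mul_comm _ _⟩

section Frame

variable {G : Type} [Group G] [Finite G] {i : H →* G} {ρ : G →* MulAut H} (hi : Function.Injective i)
  (hρ : ∀ x y, i (ρ x y) = x * i y * x⁻¹) {D : Subgroup H} {θ : H → ℂ}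
include hi hρ

theorem rho_i (h : H) : ρ (i h) = MulAut.conj h := MulEquiv.ext fun y => hi (by rw [hρ]; simp)

theorem mem_In_iff [hN : i.range.Normal] (x : G) : x ∈ In (D.map i) (Function.extend i θ 0) ↔ ρ x ∈ LA D θ := by
  refine ⟨fun h => ⟨fun y => ?_, fun y => ?_⟩, fun h => ⟨fun y => ?_, fun y => ?_⟩⟩
  · rw [← Subgroup.mem_map_iff_mem hi, hρ, ← Subgroup.mem_map_iff_mem hi (x := y)]
    exact h.1 _
  · rw [← hi.extend_apply θ 0, hρ, ← hi.extend_apply θ 0 y]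
    exact h.2 _
  · by_cases hy : y ∈ i.range
    · obtain ⟨y, rfl⟩ := hy
      rw [MulAut.conj_apply, ← hρ, Subgroup.mem_map_iff_mem hi, Subgroup.mem_map_iff_mem hi]
      exact h.1 y
    · exact iff_of_false (fun e => hy (by simpa [mul_assoc] using hN.conj_mem _ (D.map_le_range i e) x⁻¹))
        fun e => hy (D.map_le_range i e)
  · by_cases hy : y ∈ i.range
    · obtain ⟨y, rfl⟩ := hy
      rw [MulAut.conj_apply, ← hρ, hi.extend_apply, hi.extend_apply]
      exact h.2 y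
    · rw [Function.extend_apply' _ _ _ hy, Function.extend_apply' _ _ _ fun e =>
        hy (by simpa [mul_assoc] using hN.conj_mem _ e x⁻¹)]
      rfl

theorem cj_comp [i.range.Normal] (x : G) (f : H → ℂ) :
    cj x (f ∘ (MonoidHom.ofInjective hi).symm) = (f ∘ ρ x) ∘ (MonoidHom.ofInjective hi).symm := funext fun n =>
  congrArg f (hi (by rw [hρ, MonoidHom.apply_ofInjective_symm, MonoidHom.apply_ofInjective_symm, MulAut.conjNormal_apply]))

end Frame

variable {M : Ideal AlgInt} {c : Set (IrrCharacter H)} {D : Subgroup H} {θ η : H → ℂ} {u : H}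

/-- the automorphisms which fix `θ` and `η` -/
def LE (D : Subgroup H) (θ η : H → ℂ) : Subgroup (MulAut H) where
  carrier := {β | β ∈ LA D θ ∧ ∀ x ∈ In D θ, η (β x) = η x}
  one_mem' := ⟨one_mem _, fun _ _ => rfl⟩
  mul_mem' ha hb := ⟨mul_mem ha.1 hb.1, fun x hx => (ha.2 _ (LA_In hb.1 hx)).trans (hb.2 x hx)⟩
  inv_mem' ha := ⟨inv_mem ha.1, fun x hx => by simpa using (ha.2 _ (LA_In (inv_mem ha.1) hx)).symm⟩

theorem conj_mem_LE (h : IsIrrCharacter (In D θ) fun x => η x) {t : H} (ht : t ∈ In D θ) : MulAut.conj t ∈ LE D θ η :=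
  ⟨ht, fun x hx => isIrr_isClassFunction h ⟨x, hx⟩ ⟨t, ht⟩⟩

section Frame

variable {G : Type} [Group G] [Finite G] {i : H →* G} {ρ : G →* MulAut H} (hi : Function.Injective i)
  (hρ : ∀ x y, i (ρ x y) = x * i y * x⁻¹) [i.range.Normal] {g : G} (hg : i.range ⊔ Subgroup.zpowers g = ⊤)
include hi hρ

theorem i_mem_In (t : H) : i t ∈ In (D.map i) (Function.extend i θ 0) ↔ t ∈ In D θ := by
  rw [mem_In_iff hi hρ, rho_i hi hρ]
  rfl

theorem irr_ext (h : IsIrrCharacter (In D θ) fun x => η x) :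
    IsIrrCharacter ↥(In (D.map i) (Function.extend i θ 0) ⊓ i.range) fun x => Function.extend i η 0 x := by
  let j : In D θ →* ↥(In (D.map i) (Function.extend i θ 0) ⊓ i.range) :=
    (i.comp (In D θ).subtype).codRestrict _ fun t => ⟨(i_mem_In hi hρ t).2 t.2, t, rfl⟩
  let j' := MulEquiv.ofBijective j ⟨fun a b hab => Subtype.ext (hi (congrArg Subtype.val hab)), by
    rintro ⟨_, h1, t, rfl⟩
    exact ⟨⟨t, (i_mem_In hi hρ t).1 h1⟩, rfl⟩⟩
  convert isIrr_comp' j'.symm.toMonoidHom j'.symm.surjective h using 2 with y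
  obtain ⟨y, rfl⟩ := j'.surjective y
  exact (hi.extend_apply η 0 y).trans (congrArg (fun z : In D θ => η z) (j'.symm_apply_apply y).symm)

include hg

theorem rho_mem (W : Subgroup (MulAut H)) (h1 : ρ g ∈ W) (h2 : ∀ x, MulAut.conj x ∈ W) (x : G) : ρ x ∈ W := by
  have h : i.range ⊔ Subgroup.zpowers g ≤ W.comap ρ := sup_le (by
    rintro _ ⟨y, rfl⟩
    rw [Subgroup.mem_comap, rho_i hi hρ]
    exact h2 y) (Subgroup.zpowers_le.2 h1)
  exact h (hg.ge (Subgroup.mem_top x))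

/-- the covering block in the frame -/
theorem cover_frame [Fintype i.range] {p : ℕ} [Fact p.Prime] (hCOV : BoxCOV2) (h : Can p M c D θ) (hη : Ext D θ (In D θ) η)
    (a1 : ρ g ∈ LE D θ η) (a3 : ¬ p ∣ i.range.index) : ∃ (B : Set (IrrCharacter G)) (θ' : G → ℂ), Can p M B (D.map i) θ' ∧
      Covers i.range B (H649.blkMap (MonoidHom.ofInjective hi) c) ∧ g ∈ In (D.map i) θ' := by
  have e1 : ∀ n : i.range, i ((MonoidHom.ofInjective hi).symm n) = n := MonoidHom.apply_ofInjective_symm hi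
  have t3 : g ∈ In (D.map i) (Function.extend i θ 0) := (mem_In_iff hi hρ g).2 a1.1
  have t4 : ∀ x ∈ In (D.map i) (Function.extend i θ 0), ρ x ∈ LE D θ η := fun x h1 => by
    obtain ⟨_, ⟨t, rfl⟩, y, hy, rfl⟩ := Subgroup.mem_sup_of_normal_left.1 (hg.ge (Subgroup.mem_top x))
    rw [map_mul, rho_i hi hρ]
    exact mul_mem (conj_mem_LE hη.irr ((i_mem_In hi hρ t).1 ((mul_mem_cancel_right (Subgroup.zpowers_le.2 t3 hy)).1 h1)))
      ((Subgroup.zpowers_le (H := (LE D θ η).comap ρ)).2 a1 hy)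
  have c0 : (fun n : i.range => Function.extend i θ 0 n) = fun n => θ ((MonoidHom.ofInjective hi).symm n) :=
    funext fun n => by rw [← e1 n, hi.extend_apply]
  have c1 : (D.map i).subgroupOf i.range = D.map (MonoidHom.ofInjective hi).toMonoidHom := Subgroup.ext fun n => by
    rw [Subgroup.mem_subgroupOf, ← e1 n, Subgroup.mem_map_iff_mem hi, Subgroup.mem_map_equiv]
  obtain ⟨B, θ', c2, c3, c6⟩ := hCOV G p M i.range (cyc_of hg) a3 (H649.blkMap (MonoidHom.ofInjective hi) c) (D.map i)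
    (D.map_le_range i) (Function.extend i θ 0) (fun y hy => Function.extend_apply' θ (0 : G → ℂ) y hy)
    (by rw [c0, c1]; exact h.map _) (top_le_iff.1 (hg.ge.trans (sup_le_sup_left (Subgroup.zpowers_le.2 t3) _)))
    (Function.extend i η 0) (irr_ext hi hρ hη.irr) (by
      rintro _ h1 ⟨y, rfl⟩
      rw [hi.extend_apply, hi.extend_apply, hη.ext y ((Cov.mem_Ce_map i hi).1 h1)]) (by
      rintro t h1 _ h2 ⟨y, rfl⟩
      rw [← hρ, hi.extend_apply, hi.extend_apply, (t4 t h1).2 y ((i_mem_In hi hρ y).1 h2)])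
  exact ⟨B, θ', c2, c3, c6 t3⟩

/-- the members of the covering block lie over members -/
theorem under_frame [Fintype i.range] {p : ℕ} [Fact p.Prime] (hM : IsPModular p M) (hc : IsPBlock M c) (a1 : ρ g ∈ Stab c)
    {B : Set (IrrCharacter G)} (hB : IsPBlock M B) (h : Covers i.range B (H649.blkMap (MonoidHom.ofInjective hi) c))
    {f : G → ℂ} (h1 : f ∈ Fn B) (h2 : f (i u) = f 1) :
    ∃ f' ∈ Fn c, f' u = f' 1 ∧ Ov i.range f (f' ∘ (MonoidHom.ofInjective hi).symm) := by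
  have := Fintype.ofFinite G
  obtain ⟨χ₀, c3, θ₀, c4, c5⟩ := h
  obtain ⟨f, h1, rfl⟩ := h1
  obtain ⟨ϑ, h3⟩ := Cov.exists_under i.range f.2
  obtain ⟨x, ϑ', h4, h5⟩ := S0964.result p M hM i.range B hB _ (H649.isPBlock_blkMap hc) χ₀ c3 θ₀ c4 c5 f h1 ϑ h3
  have h6 : (ϑ : i.range → ℂ) = ((H649.irrMap (MonoidHom.ofInjective hi).symm ϑ' : H → ℂ) ∘ ρ x) ∘
      (MonoidHom.ofInjective hi).symm := funext fun n => (h5 n).trans (congrArg (ϑ' : i.range → ℂ) (Subtype.ext (by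
    show _ = i (ρ x _)
    rw [hρ, MonoidHom.apply_ofInjective_symm])))
  have h8 := H597.Base.ker_of_constituent (isCharacter_comp' i.range.subtype (isIrr_isCharacter f.2)) ϑ.2 h3
    (a := MonoidHom.ofInjective hi u) h2
  rw [h6] at h8 h3
  rw [Function.comp_apply, Function.comp_apply (g := (MonoidHom.ofInjective hi).symm), MulEquiv.symm_apply_apply,
    map_one] at h8
  exact ⟨_, Q8.comp_mem (rho_mem hi hρ hg (Stab c) a1 (Q8.conj_mem_stab c) x) ⟨_, H649.mem_blkMap.1 h4, rfl⟩, h8, h3⟩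

end Frame

/-- **no automorphism of order four on `D / <u>` swaps the two non-exceptional characters** -/
theorem top [Fact (Nat.Prime 5)] (hCY : BoxCY) (hCOV : BoxCOV2) (h : Can 5 M c D θ) (hD : Nat.card D = 5 ^ 2) (hu : u ∈ D)
    (u1 : u ≠ 1) (u2 : u ^ 5 = 1) (u3 : u ∈ Subgroup.center H) (hη : Ext D θ (In D θ) η) {α : MulAut H} (a1 : α ∈ LE D θ η)
    (a2 : α u = u) (a3 : ¬ 5 ∣ orderOf α) (a4 : ¬ ∀ d ∈ D, (α ^ 2) d = d) {χ ψ ψ' : H → ℂ} (i1 : IsIrrCharacter H χ)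
    (i2 : IsIrrCharacter H ψ) (i3 : IsIrrCharacter H ψ') (d1 : ψ 1 = 2 * χ 1) (d2 : ψ' 1 = 2 * χ 1) (k1 : χ ∘ α ≠ χ)
    (k2 : χ ∘ ⇑(α ^ 2) = χ) (k3 : ψ ∘ α = ψ ∧ ψ' ∘ α = ψ' ∨ ψ ∘ α ≠ ψ ∧ ψ ∘ α = ψ' ∧ ψ ∘ ⇑(α ^ 2) = ψ)
    (cov : ∀ f ∈ Fn c, f u = f 1 → (f = χ ∨ f = χ ∘ α) ∨ f = ψ ∨ f = ψ') : False := by
  classical
  obtain ⟨G, _, _, i, g, ρ, hi, hN, hg, hx, hρ, rfl⟩ := exists_frame α
  have := Fintype.ofFinite i.range
  obtain ⟨B, θ', c2, c3, c6⟩ := cover_frame hi hρ hg hCOV h hη a1 (by rwa [hx])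
  have v1 : ∀ x, ρ x u = u := rho_mem hi hρ hg (FixE u) a2 fun x => by
    show x * u * x⁻¹ = u
    rw [Subgroup.mem_center_iff.1 u3, mul_inv_cancel_right]
  obtain ⟨v2, X, Y, T⟩ := exists_tr hCY c2 (u := i u) (by rw [Subgroup.card_map_of_injective hi, hD]) ⟨u, hu, rfl⟩
    (fun e => u1 (hi (e.trans (map_one i).symm))) (by rw [← map_pow, u2, map_one])
    (Subgroup.mem_center_iff.2 fun x => by rw [← mul_inv_eq_iff_eq_mul, ← hρ, v1])
  have v3 : (Ce (D.map i)).relIndex (In (D.map i) θ') = 4 := by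
    have h1 := pow_mem_Ce c6
    have h2 : g ^ 2 ∉ Ce (D.map i) := fun h2 => a4 fun d hd => hi (by
      rw [← map_pow, hρ, ← h2 _ ⟨d, hd, rfl⟩, mul_inv_cancel_right])
    generalize (Ce (D.map i)).relIndex (In (D.map i) θ') = n at h1 v2
    have h3 := Nat.le_of_dvd (by decide) v2
    interval_cases n
    · exact absurd v2 (by decide)
    · exact absurd (pow_mem (pow_one g ▸ h1) 2) h2
    · exact absurd h1 h2
    · exact absurd v2 (by decide)
    · rfl
  rw [v3] at T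
  have v4 : ∀ {f}, f ∈ ((X ∪ Y : Finset (G → ℂ)) : Set (G → ℂ)) ↔ f ∈ Fn B ∧ f (i u) = f 1 := by simp [← T.mem]
  have w3 := cj_comp hi hρ
  have w4 := fun f h1 h2 => under_frame (u := u) (f := f) hi hρ hg h.hM h.hb (h.le_Stab a1.1) c2.hb c3 h1 h2
  generalize (MonoidHom.ofInjective hi).symm = e at w3 w4
  have w1 : ∀ {f : H → ℂ}, IsIrrCharacter H f → IsIrrCharacter i.range (f ∘ e) := isIrr_comp e.toMonoidHom e.surjective
  have w2 : ∀ {f f' : H → ℂ}, f ∘ e = f' ∘ e ↔ f = f' := e.surjective.injective_comp_right.eq_iff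
  have w5 : ∀ f : H → ℂ, (f ∘ e) 1 = f 1 := fun f => congrArg f (map_one e)
  refine five (S := ((X ∪ Y : Finset (G → ℂ)) : Set (G → ℂ))) hg (fun f hf => Q8.fn_irr (v4.1 hf).1)
    (by rw [Set.ncard_coe_finset, Finset.card_union_of_disjoint T.dis, T.cX, T.cY])
    (fun l f h1 h2 f' h3 => v4.2 ⟨tw_mem c2.prime c2.hb l (v4.1 h1).1 (v4.1 h2).1 (v4.1 h3).1, ?_⟩)
    (fun a h1 => T.par (by decide) (Finset.card_pos.1 (by rw [T.cY]; decide)) a fun f hf => h1 f (v4.2 ((T.mem f).1 hf)))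
    (w1 i1) (by rwa [w3, Ne, w2]) (by rwa [w3, w2, map_pow]) (w1 i2) (w1 i3) (by rwa [w5, w5]) (by rwa [w5, w5])
    (by rwa [w3, w3, w3, Ne, w2, w2, w2, w2, map_pow]) fun f hf => ?_
  · have h4 := (v4.1 h2).2
    rw [(v4.1 h1).2, mul_right_inj' (isIrr_apply_one_ne_zero (Q8.fn_irr (v4.1 h1).1))] at h4
    rw [(v4.1 h3).2, h4]
  · obtain ⟨f', h1, h2, h3⟩ := w4 f (v4.1 hf).1 (v4.1 hf).2
    rw [w3]
    rcases cov f' h1 h2 with (h7 | h7) | h7 | h7 <;> rw [h7] at h3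
    exacts [.inl (.inl h3), .inl (.inr h3), .inr (.inl h3), .inr (.inr h3)]

end Cfsg.Agent.TO.K
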