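import Cfsg.Agent.TO.Box

/-!
# S4817: the corrected box COV (helper77)

`BoxCOV` needs the hypothesis `Ce D ≤ In D θ` (example: `G = S₃ × D₁₀`, `N = D₃₀` diagonal, `p = 3`, `D = C₃`).
-/

set_option autoImplicit false

namespace Cfsg.Agent.TO

open Cfsg

/-- [COV'] cyclic extensions of order prime to `p`: `BoxCOV` with the hypothesis `Ce D ≤ In D θ` -/
def BoxCOV' : Prop := ∀ (G : Type) [Group G] [Finite G] (p : ℕ) [Fact p.Prime] (M : Ideal AlgInt) (N : Subgroup G)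
  [N.Normal] [Fintype N], IsCyclic (G ⧸ N) → ¬ p ∣ N.index → ∀ (b : Set (IrrCharacter N)) (D : Subgroup G), D ≤ N →
  ∀ θ : G → ℂ, (∀ g, g ∉ N → θ g = 0) → Can p M b (D.subgroupOf N) (fun n => θ n) → N ⊔ In D θ = ⊤ →
  Ce D ≤ In D θ →
  ∀ η : G → ℂ, IsIrrCharacter ↥(In D θ ⊓ N) (fun x => η x) → (∀ c ∈ Ce D, c ∈ N → η c = θ c) →
    (∀ t ∈ In D θ, ∀ x ∈ In D θ, x ∈ N → η (t * x * t⁻¹) = η x) →
    ∃ (B : Set (IrrCharacter G)) (θ' : G → ℂ), Can p M B D θ' ∧ Covers N B b ∧ In D θ' = In D θ ∧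
      (∀ l : G →* ℂˣ, N ≤ l.ker → ((∀ χ ∈ Fn B, (fun g => χ g * l g) ∈ Fn B) ↔ Ce D ≤ l.ker)) ∧
      (∀ B' : Set (IrrCharacter G), IsPBlock M B' → Covers N B' b →
        ∃ l : G →* ℂˣ, N ≤ l.ker ∧ ∀ χ, χ ∈ Fn B ↔ (fun g => χ g * l g) ∈ Fn B') ∧
      (N ⊔ Ce D = ⊤ → ∀ B' : Set (IrrCharacter G), IsPBlock M B' → Covers N B' b → IsDefectGroup p M B' D ∧
        (∀ χ ∈ Fn B', (fun n : N => χ n) ∈ Fn b) ∧ ∀ ψ ∈ Fn b, ∃! χ, χ ∈ Fn B' ∧ (fun n : N => χ n) = ψ)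

end Cfsg.Agent.TO
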