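import Cfsg.Agent.TO.Q8O
import Cfsg.Agent.TO.CovBox
import Cfsg.Agent.TO.KExt
import Cfsg.Agent.TO.Can
import Cfsg.Agent.S0886

/-!
# S4817, task Q8: the box COV along an embedding with cyclic cokernel
-/

set_option autoImplicit false
set_option linter.unusedSectionVars false

namespace Cfsg.Agent.TO.Q8

open Cfsg Cfsg.Agent.H649

/-- `G` is a normal subgroup of `Y` through `ι`, `Y` acts by `act`, the quotient embeds in `A` -/
structure Fr {G Y A : Type} [Group G] [Group Y] [Group A] (ι : G →* Y) (act : Y → MulAut G) (π : Y →* A) : Prop where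
  inj : Function.Injective ι
  cj : ∀ y g, y * ι g * y⁻¹ = ι (act y g)
  ker : π.ker = ι.range

namespace Fr

variable {G Y A : Type} [Group G] [Group Y] [Group A] {ι : G →* Y} {act : Y → MulAut G} {π : Y →* A}
  {D : Subgroup G} {θ η : G → ℂ}

theorem normal (F : Fr ι act π) : ι.range.Normal := F.ker ▸ inferInstance

theorem cyc (F : Fr ι act π) [IsCyclic A] [ι.range.Normal] : IsCyclic (Y ⧸ ι.range) :=
  isCyclic_of_injective (QuotientGroup.lift ι.range π F.ker.ge) ((QuotientGroup.injective_lift_iff _ _ _).2 F.ker.symm)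

theorem index_dvd (F : Fr ι act π) : ι.range.index ∣ Nat.card A := by
  rw [← F.ker, Subgroup.index_ker]
  exact Subgroup.card_subgroup_dvd_card _

theorem act_ι (F : Fr ι act π) (g : G) : act (ι g) = MulAut.conj g :=
  MulEquiv.ext fun x => F.inj (by rw [← F.cj]; simp)

theorem ext_ι (F : Fr ι act π) (θ : G → ℂ) (g : G) : Function.extend ι θ 0 (ι g) = θ g := F.inj.extend_apply θ 0 g

theorem ext_out (θ : G → ℂ) {y : Y} (h : y ∉ ι.range) : Function.extend ι θ 0 y = 0 :=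
  Function.extend_apply' θ (0 : Y → ℂ) y h

theorem mem_map (F : Fr ι act π) {g : G} : ι g ∈ D.map ι ↔ g ∈ D := Subgroup.mem_map_iff_mem F.inj

theorem mem_In (F : Fr ι act π) {y : Y} : y ∈ In (D.map ι) (Function.extend ι θ 0) ↔ act y ∈ LA D θ := by
  have := F.normal
  constructor
  · intro h
    refine ⟨fun x => ?_, fun g => ?_⟩
    · rw [← F.mem_map, ← F.cj, ← F.mem_map]
      exact h.1 _
    · rw [← F.ext_ι θ, ← F.cj, ← F.ext_ι θ g]
      exact h.2 _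
  · intro h
    have h1 : ∀ x, x ∉ ι.range → y * x * y⁻¹ ∉ ι.range := fun x hx e => hx (by
      simpa [mul_assoc] using this.conj_mem _ e y⁻¹)
    refine ⟨fun x => ?_, fun x => ?_⟩ <;> rw [MulAut.conj_apply] <;> by_cases hx : x ∈ ι.range
    · obtain ⟨g, rfl⟩ := hx
      rw [F.cj, F.mem_map, F.mem_map]
      exact h.1 g
    · exact iff_of_false (fun e => h1 x hx (Subgroup.map_le_range _ _ e)) fun e => hx (Subgroup.map_le_range _ _ e)
    · obtain ⟨g, rfl⟩ := hx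
      rw [F.cj, F.ext_ι, F.ext_ι]
      exact h.2 g
    · rw [ext_out θ hx, ext_out θ (h1 x hx)]

theorem ι_mem_In (F : Fr ι act π) {g : G} : ι g ∈ In (D.map ι) (Function.extend ι θ 0) ↔ g ∈ In D θ := by
  rw [F.mem_In, F.act_ι]
  rfl

theorem mem_Ce (F : Fr ι act π) {y : Y} : y ∈ Ce (D.map ι) ↔ ∀ d ∈ D, act y d = d := by
  rw [mem_ce]
  constructor
  · intro h d hd
    refine F.inj ?_
    rw [← F.cj, ← h _ ⟨d, hd, rfl⟩, mul_inv_cancel_right]
  · rintro h _ ⟨d, hd, rfl⟩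
    have := F.cj y d
    rw [h d hd, mul_inv_eq_iff_eq_mul] at this
    exact this.symm

theorem ι_mem_Ce (F : Fr ι act π) {g : G} : ι g ∈ Ce (D.map ι) ↔ g ∈ Ce D := by
  rw [F.mem_Ce, F.act_ι, mem_ce]
  exact forall₂_congr fun d _ => by rw [MulAut.conj_apply, mul_inv_eq_iff_eq_mul, eq_comm]

variable [Finite G] [Finite Y]

/-- invariant characters extend -/
theorem exists_ext (F : Fr ι act π) [IsCyclic A] {χ : G → ℂ} (hχ : IsIrrCharacter G χ) (h : ∀ y, χ ∘ act y = χ) :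
    ∃ ψ : Y → ℂ, IsIrrCharacter Y ψ ∧ ψ ∘ ι = χ := by
  have := F.normal
  let e := MonoidHom.ofInjective F.inj
  obtain ⟨ψ, h1, h2⟩ := S0886.result ι.range F.cyc _
    (Characters.Core.isIrr_comp e.symm.toMonoidHom e.symm.surjective hχ) fun y n => by
      obtain ⟨g, rfl⟩ := e.surjective n
      have : (⟨y * e g * y⁻¹, this.conj_mem _ (e g).2 y⟩ : ι.range) = e (act y g) := Subtype.ext (F.cj y g)
      rw [this]
      simpa using congrFun (h y) g
  exact ⟨ψ, h1, funext fun g => (h2 (e g)).trans (by simp)⟩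

variable {p : ℕ} [Fact p.Prime] {M : Ideal AlgInt} {b : Set (IrrCharacter G)}

theorem fn_blkMap {H : Type} [Group H] (e : G ≃* H) {f : H → ℂ} : f ∈ Fn (blkMap e b) ↔ f ∘ e ∈ Fn b := by
  constructor
  · rintro ⟨χ, h, rfl⟩
    exact ⟨_, mem_blkMap.1 h, rfl⟩
  · rintro ⟨χ, h, h'⟩
    refine ⟨irrMap e χ, irrMap_mem_blkMap.2 h, funext fun y => ?_⟩
    rw [irrMap_apply, h', Function.comp_apply, MulEquiv.apply_symm_apply]

/-- **COV along an embedding**: `Y = G C_Y(D)` -/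
theorem cov (hV : BoxCOV') (F : Fr ι act π) [IsCyclic A] (hp : ¬ p ∣ Nat.card A) (hC : Can p M b D θ)
    (hE : Ext D θ (In D θ) η) (hi : ∀ y, act y ∈ LA D θ → ∀ x ∈ In D θ, η (act y x) = η x)
    (hg : ∀ y, ∃ g z, y = ι g * z ∧ act z ∈ LA D θ ∧ ∀ d ∈ D, act z d = d) {B : Set (IrrCharacter Y)}
    (hB : IsPBlock M B) {χ₀ : Y → ℂ} (h₀ : χ₀ ∈ Fn B) (h₀' : χ₀ ∘ ι ∈ Fn b) :
    IsDefectGroup p M B (D.map ι) ∧ (∀ χ ∈ Fn B, χ ∘ ι ∈ Fn b) ∧ ∀ ψ ∈ Fn b, ∃! χ, χ ∈ Fn B ∧ χ ∘ ι = ψ := by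
  have := F.normal
  have := Fintype.ofFinite ι.range
  let e := MonoidHom.ofInjective F.inj
  have he : ∀ g, ((e g : ι.range) : Y) = ι g := fun g => rfl
  have h1 : Can p M (blkMap e b) ((D.map ι).subgroupOf ι.range) (fun n => Function.extend ι θ 0 n) := by
    have e1 : (D.map ι).subgroupOf ι.range = D.map e.toMonoidHom := by
      ext n
      obtain ⟨g, rfl⟩ := e.surjective n
      rw [Subgroup.mem_subgroupOf, he, F.mem_map]
      exact (Subgroup.mem_map_iff_mem e.injective).symm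
    have e2 : (fun n : ι.range => Function.extend ι θ 0 n) = fun n => θ (e.symm n) := funext fun n => by
      obtain ⟨g, rfl⟩ := e.surjective n
      rw [he, F.ext_ι, e.symm_apply_apply]
    rw [e1, e2]
    exact hC.map e
  have h2 : In (D.map ι) (Function.extend ι θ 0) ⊓ ι.range = (In D θ).map ι := by
    refine le_antisymm ?_ ?_
    · rintro _ ⟨h, g, rfl⟩
      exact ⟨g, F.ι_mem_In.1 h, rfl⟩
    · rintro _ ⟨g, h, rfl⟩
      exact ⟨F.ι_mem_In.2 h, g, rfl⟩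
  have h3 : ι.range ⊔ Ce (D.map ι) = ⊤ := eq_top_iff.2 fun y _ => by
    obtain ⟨g, z, rfl, -, h⟩ := hg y
    exact mul_mem (Subgroup.mem_sup_left ⟨g, rfl⟩) (Subgroup.mem_sup_right (F.mem_Ce.2 h))
  have h4 : Ce (D.map ι) ≤ In (D.map ι) (Function.extend ι θ 0) := fun y hy => by
    obtain ⟨g, z, rfl, h, h'⟩ := hg y
    rw [mul_mem_cancel_right (F.mem_Ce.2 h')] at hy
    exact mul_mem (F.ι_mem_In.2 (hC.Ce_le_In (F.ι_mem_Ce.1 hy))) (F.mem_In.2 h)
  have hr : ∀ χ : Y → ℂ, (fun n : ι.range => χ n) ∘ e = χ ∘ ι := fun χ => rfl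
  obtain ⟨-, -, -, -, -, -, -, h⟩ := hV Y p M ι.range F.cyc (fun h => hp (h.trans F.index_dvd)) _ (D.map ι)
    (Subgroup.map_le_range _ _) (Function.extend ι θ 0) (fun y => ext_out θ) h1
    (eq_top_iff.2 (h3.ge.trans (sup_le_sup_left h4 _))) h4 (Function.extend ι η 0)
    (by
      rw [h2]
      let f := (In D θ).equivMapOfInjective ι F.inj
      have h5 := Characters.Core.isIrr_comp f.symm.toMonoidHom f.symm.surjective hE.irr
      convert h5 using 1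
      funext x
      obtain ⟨g, rfl⟩ := f.surjective x
      exact (F.ext_ι η g).trans (by simp))
    (by
      rintro _ hc ⟨c, rfl⟩
      rw [F.ext_ι, F.ext_ι]
      exact hE.ext c (F.ι_mem_Ce.1 hc))
    (by
      rintro t ht _ hx ⟨x, rfl⟩
      rw [F.cj, F.ext_ι, F.ext_ι]
      exact hi t (F.mem_In.1 ht) x (F.ι_mem_In.1 hx))
  obtain ⟨k1, k2, k3⟩ := h h3 B hB (by
    obtain ⟨χ, hχ, rfl⟩ := h₀
    obtain ⟨ψ, hψ, e'⟩ := (fn_blkMap e).2 ((hr χ).symm ▸ h₀')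
    refine ⟨χ, hχ, ψ, hψ, ?_⟩
    rw [← e', Characters.Core.classInner_irr_self ψ.2]
    exact one_ne_zero)
  refine ⟨k1, fun χ hχ => (fn_blkMap e).1 (k2 χ hχ), fun ψ hψ => ?_⟩
  have e3 : (ψ ∘ e.symm) ∘ e = ψ := funext fun g => by simp
  obtain ⟨χ, ⟨l1, l2⟩, l3⟩ := k3 (ψ ∘ e.symm) ((fn_blkMap e).2 (e3.symm ▸ hψ))
  refine ⟨χ, ⟨l1, by rw [← hr, l2, e3]⟩, fun χ' ⟨m1, m2⟩ => l3 χ' ⟨m1, ?_⟩⟩
  rw [← m2, ← hr]
  funext n
  simp

end Fr

end Cfsg.Agent.TO.Q8
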