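import Cfsg.Agent.TO.Red
import Cfsg.Agent.TO.Rows

/-!
# S4817: the assembly (helper3)

* `Rows.final` : the statement from three boxes, the rows and the classification.
-/

set_option autoImplicit false

namespace Cfsg.Agent.TO

open Cfsg

universe u

/-- the statement from the failure of (H) -/
theorem final_of_not_two {S : Type u} [Group S] {p : ℕ} (hp : p ≠ 2) {M : Ideal AlgInt} (hM : IsPModular p M)
    {b : Set (IrrCharacter S)} (hb : IsPBlock M b) {D : Subgroup S} (hD : IsDefectGroup p M b D) (hnc : ¬ IsCyclic D)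
    (h : ¬ Two p M b D) :
    (∃ χ₁ ∈ b, ∃ χ₂ ∈ b, ∃ χ₃ ∈ b,
        (∀ α : S ≃* S, (fun s => (χ₂ : S → ℂ) (α s)) ≠ (χ₁ : S → ℂ)) ∧
        (∀ α : S ≃* S, (fun s => (χ₃ : S → ℂ) (α s)) ≠ (χ₁ : S → ℂ)) ∧
        (∀ α : S ≃* S, (fun s => (χ₃ : S → ℂ) (α s)) ≠ (χ₂ : S → ℂ))) ∨
      (∀ χ ∈ b, ∀ ψ ∈ b, charDegree (χ : S → ℂ) = charDegree (ψ : S → ℂ)) := by
  by_contra hc
  obtain ⟨h1, h2⟩ := not_or.1 hc
  push Not at h2
  obtain ⟨χ, hχ, ψ, hψ, hne⟩ := h2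
  have hne' : (χ : S → ℂ) 1 ≠ (ψ : S → ℂ) 1 := fun e => hne (by unfold charDegree; rw [e])
  have key : ∀ φ ∈ b, ∀ ξ ∈ b, (¬ ∀ α : S ≃* S, (fun s => (φ : S → ℂ) (α s)) ≠ (ξ : S → ℂ)) →
      (φ : S → ℂ) ∈ Orb b ξ := by
    intro φ hφ ξ hξ h3
    push Not at h3
    obtain ⟨α, hα⟩ := h3
    refine ⟨(α : MulAut S)⁻¹, inv_mem (mem_Stab_of_mem hM hb (rd_mem_Fn.2 hφ) ?_), funext fun s => ?_⟩
    · exact (show (φ : S → ℂ) ∘ α = ξ from hα) ▸ rd_mem_Fn.2 hξ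
    · rw [← hα]
      exact congrArg φ.1 (α.apply_symm_apply s).symm
  refine h ⟨hp, hM, hb, hD, hnc, χ, ψ, rd_mem_Fn.2 hχ, rd_mem_Fn.2 hψ, hne', ?_⟩
  rintro _ ⟨φ, hφ, rfl⟩
  by_contra h3
  obtain ⟨h4, h5⟩ := not_or.1 h3
  refine h1 ⟨χ, hχ, ψ, hψ, φ, hφ, fun α e => hne' ?_, not_not.1 (mt (key φ hφ χ hχ) h4),
    not_not.1 (mt (key φ hφ ψ hψ) h5)⟩
  rw [← e]
  exact congrArg ψ.1 (map_one α)

/-- **The assembly**: the statement `S4817` from three boxes, the rows and the classification. -/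
theorem Rows.final (R : Rows) (hS : BoxSUB) (h0 : BoxCAN0) (h2 : BoxCAN2)
    (cfsg : ∀ (S : Type) [Group S] [Finite S] [IsSimpleGroup S], IsKnownSimple' S)
    {S : Type u} [Group S] [Finite S] (hq : IsQuasisimple S) (p : ℕ) [Fact p.Prime] (hp : p ≠ 2) (M : Ideal AlgInt)
    (hM : IsPModular p M) (b : Set (IrrCharacter S)) (hb : IsPBlock M b) (D : Subgroup S)
    (hD : IsDefectGroup p M b D) (hnc : ¬ IsCyclic D) :
    (∃ χ₁ ∈ b, ∃ χ₂ ∈ b, ∃ χ₃ ∈ b,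
        (∀ α : S ≃* S, (fun s => (χ₂ : S → ℂ) (α s)) ≠ (χ₁ : S → ℂ)) ∧
        (∀ α : S ≃* S, (fun s => (χ₃ : S → ℂ) (α s)) ≠ (χ₁ : S → ℂ)) ∧
        (∀ α : S ≃* S, (fun s => (χ₃ : S → ℂ) (α s)) ≠ (χ₂ : S → ℂ))) ∨
      (∀ χ ∈ b, ∀ ψ ∈ b, charDegree (χ : S → ℂ) = charDegree (ψ : S → ℂ)) :=
  final_of_not_two hp hM hb hD hnc
    (boxRED hS h0 h2 (fun p _ hp S _ _ _ hS _ => R.known p hp S hS (cfsg S)) S hq p M b D)

end Cfsg.Agent.TO
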