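import Cfsg.Agent.TO.Box
import Cfsg.Agent.TID.Red.Basic
import Cfsg.Agent.OddOrderCharacters.IndRes
import Cfsg.Agent.H641.Inertial
import Cfsg.Agent.BHZ.Nil.FusCls
import Cfsg.Agent.S0968

/-!
# S4817, box CY: induction of the canonical character, the stabiliser of the root (helper4)

* `up K L θ` : the function induced from `K` to `L`; `up_irr`, `up_icc`, `up_cj`, `exists_of_up`;
* `mem_In_iff` : the inertia group of the canonical character is the stabiliser of its block.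
-/

set_option autoImplicit false

namespace Cfsg.Agent.TO.Cy

open Cfsg Cfsg.Agent.Characters.Core Cfsg.Agent.Blocks Cfsg.Agent.TID.Red Cfsg.Agent.H592.Transport

variable {G : Type} [Group G] {K L : Subgroup G} {θ : G → ℂ} {n : G}

theorem irr_cj (hθ : IsIrrCharacter K fun k => θ k) (hn : n ∈ Subgroup.normalizer (K : Set G)) :
    IsIrrCharacter K fun k => θ (n * k * n⁻¹) :=
  isIrr_comp (K.normalizerMonoidHom ⟨n, hn⟩).toMonoidHom (MulEquiv.surjective _) hθ

theorem ext_cj (h0 : ∀ g, g ∉ K → θ g = 0) (hn : n ∈ Subgroup.normalizer (K : Set G))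
    (h : ∀ k : K, θ (n * k * n⁻¹) = θ k) (g : G) : θ (n * g * n⁻¹) = θ g := by
  by_cases hg : g ∈ K
  · exact h ⟨g, hg⟩
  · rw [h0 g hg, h0 _ fun h' => hg ((Subgroup.mem_normalizer_iff.1 hn g).2 h')]

/-- the induced function -/
noncomputable def up (K L : Subgroup G) (θ : G → ℂ) : G → ℂ := fun g =>
  (Nat.card K : ℂ)⁻¹ * ∑ᶠ x : L, θ ((x : G)⁻¹ * g * x)

theorem up_apply [Fintype L] (g : G) : up K L θ g = (Nat.card K : ℂ)⁻¹ * ∑ x : L, θ ((x : G)⁻¹ * g * x) := by
  rw [up, finsum_eq_sum_of_fintype]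

theorem up_zero (h0 : ∀ g, g ∉ K → θ g = 0) (hL : L ≤ Subgroup.normalizer (K : Set G)) {g : G} (hg : g ∉ K) :
    up K L θ g = 0 := by
  rw [up, finsum_congr (g := fun _ => 0) fun x => h0 _ fun h => hg ((Subgroup.mem_normalizer_iff''.1 (hL x.2) g).2 h),
    finsum_zero, mul_zero]

theorem up_eq [Fintype L] (hKL : K ≤ L) (h0 : ∀ g, g ∉ K → θ g = 0) :
    (fun l : L => up K L θ l) = indFun (K.subgroupOf L) fun k => θ k := by
  funext l
  rw [up_apply, indFun_apply, Nat.card_congr (Subgroup.subgroupOfEquivOfLe hKL).toEquiv]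
  congr 1
  refine Finset.sum_congr rfl fun x _ => ?_
  by_cases h : x⁻¹ * l * x ∈ K.subgroupOf L
  · rw [extendByZero_of_mem _ _ h]
    rfl
  · rw [extendByZero_of_notMem _ _ h]
    exact h0 _ h

theorem up_cj [Finite L] (hn : n ∈ Subgroup.normalizer (L : Set G)) (h : ∀ g, θ (n * g * n⁻¹) = θ g) (g : G) :
    up K L θ (n * g * n⁻¹) = up K L θ g := by
  have := Fintype.ofFinite L
  rw [up_apply, up_apply, ← Equiv.sum_comp (L.normalizerMonoidHom ⟨n, hn⟩).toEquiv]
  congr 1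
  refine Finset.sum_congr rfl fun x _ => ?_
  rw [← h ((x : G)⁻¹ * g * x)]
  congr 1
  show (n * x * n⁻¹)⁻¹ * (n * g * n⁻¹) * (n * x * n⁻¹) = _
  group

variable [Finite G] (hθ : IsIrrCharacter K fun k => θ k) (h0 : ∀ g, g ∉ K → θ g = 0) (hKL : K ≤ L)
include hθ h0 hKL

theorem up_irr (hL : L ≤ Subgroup.normalizer (K : Set G)) (hin : ∀ x ∈ L, (∀ g, θ (x * g * x⁻¹) = θ g) → x ∈ K) :
    IsIrrCharacter L fun l => up K L θ l := by
  have := Fintype.ofFinite L
  have : (K.subgroupOf L).Normal := (Subgroup.normal_subgroupOf_iff_le_normalizer hKL).2 hL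
  rw [up_eq hKL h0]
  exact OddOrderCharacters.IndRes.isIrr_indFun_of_stabilizer _
    (isIrr_comp (Subgroup.subgroupOfEquivOfLe hKL).toMonoidHom (MulEquiv.surjective _) hθ) fun x hx =>
    hin x x.2 (ext_cj h0 (hL x.2) fun k => congrFun hx ⟨⟨k, hKL k.2⟩, k.2⟩)

theorem up_icc {M : Ideal AlgInt} [M.IsPrime] (hi : IsIrrCharacter L fun l => up K L θ l) (g : G) :
    MemLocalIdeal M (inducedCentralChar K (fun k => θ k) g - inducedCentralChar L (fun l => up K L θ l) g) := by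
  have := Fintype.ofFinite L
  refine icc_congr (Subgroup.inclusion hKL) L.subtype (ι := K.subtype) (fun _ => rfl) _ (isIrr_isClassFunction hi) g
    fun y _ => ?_
  rw [up_eq hKL h0, Induced.centralChar_indFun,
    ← icc_src (Subgroup.subgroupOfEquivOfLe hKL) (Subgroup.inclusion hKL) (K.subgroupOf L).subtype (fun _ => rfl) ⟨_, hθ⟩ y]
  exact sub_self (_ : ℂ) ▸ Local.memLocalIdeal_zero

omit hKL in
theorem exists_of_up (hL : L ≤ Subgroup.normalizer (K : Set G)) (hn : n ∈ Subgroup.normalizer (K : Set G))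
    (h : ∀ g, up K L θ (n * g * n⁻¹) = up K L θ g) : ∃ x ∈ L, ∀ g, θ (x * n * g * (x * n)⁻¹) = θ g := by
  classical
  have := Fintype.ofFinite L
  have := Fintype.ofFinite K
  by_contra hne
  have key : ∀ m ∈ Subgroup.normalizer (K : Set G), classInner (fun k : K => up K L θ (m * k * m⁻¹)) (fun k => θ k) =
      (Nat.card K : ℂ)⁻¹ * ∑ x : L, if (fun k : K => θ ((x : G)⁻¹ * m * k * ((x : G)⁻¹ * m)⁻¹)) = fun k : K => θ k
        then 1 else 0 := fun m hm => by
    rw [← Finset.sum_congr rfl fun (x : L) _ => classInner_irr (irr_cj hθ (mul_mem (inv_mem (hL x.2)) hm)) hθ,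
      ← classInner_sum_left, ← classInner_smul_left]
    congr 1
    funext k
    rw [up_apply, Pi.smul_apply, Finset.sum_apply, smul_eq_mul]
    congr 1
    refine Finset.sum_congr rfl fun x _ => ?_
    congr 1
    group
  have h1 := key n hn
  rw [Finset.sum_eq_zero fun x _ => if_neg fun e => hne ⟨_, inv_mem x.2,
    ext_cj h0 (mul_mem (inv_mem (hL x.2)) hn) (congrFun e)⟩, mul_zero, funext fun k : K => h k] at h1
  have h2 := key 1 (one_mem _)
  simp only [one_mul, inv_one, mul_one] at h2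
  rw [h1, Finset.sum_boole, eq_comm, mul_eq_zero, inv_eq_zero, Nat.cast_eq_zero, Nat.cast_eq_zero,
    Finset.card_eq_zero, Finset.filter_eq_empty_iff] at h2
  rcases h2 with h2 | h2
  · exact Nat.card_pos.ne' h2
  · exact h2 (Finset.mem_univ 1) (by simp)

omit hθ h0 hKL

variable {p : ℕ} [Fact p.Prime] {M : Ideal AlgInt} {B : Set (IrrCharacter G)} {D : Subgroup G}

omit [Finite G] in
theorem norm_Ce (hn : n ∈ Subgroup.normalizer (D : Set G)) : n ∈ Subgroup.normalizer (Ce D : Set G) :=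
  H644.mem_normalizer_centralizer hn

/-- the inertia group is the stabiliser of the root -/
theorem mem_In_iff (hc : Can p M B D θ) (g : G) : g ∈ In D θ ↔ g ∈ Subgroup.normalizer (D : Set G) ∧
    ∀ ξ ∈ blockOf M fun c : Ce D => θ c, ∀ ξ' : IrrCharacter (Ce D),
      (∀ h h' : Ce D, (h' : G) = g * h * g⁻¹ → ξ'.1 h' = ξ.1 h) → ξ' ∈ blockOf M fun c : Ce D => θ c := by
  have := hc.hM.2.1.isPrime
  constructor
  · intro hg
    have hn : g ∈ Subgroup.normalizer (D : Set G) := Subgroup.mem_normalizer_iff.2 fun x => (hg.1 x).symm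
    refine ⟨hn, fun ξ hξ ξ' h => ?_⟩
    let e : Ce D ≃* Ce D := (Ce D).normalizerMonoidHom ⟨g, norm_Ce hn⟩
    refine (sameBlock_tr e (θ := ⟨_, hc.irr⟩) (ψ := ξ')).1 ?_
    rw [show (tr e ⟨_, hc.irr⟩ : Ce D → ℂ) = fun c : Ce D => θ c from funext fun c => hg.2 c,
      show (tr e ξ' : Ce D → ℂ) = ξ from funext fun c => h c _ rfl]
    exact hξ
  · rintro ⟨hn, h⟩
    have h1 := inv_mem (norm_Ce hn)
    have hm : (⟨_, hc.irr⟩ : IrrCharacter (Ce D)) ∈ blockOf M fun c : Ce D => θ c := Basic.sameBlock_refl _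
    have h2 := h _ hm ⟨_, irr_cj hc.irr h1⟩ fun a b e => by
      show θ (g⁻¹ * b * g⁻¹⁻¹) = θ a
      rw [e]
      congr 1
      group
    have hD := H641.isPGroup_of_isDefectGroup hc.hD
    have h3 := (S0968.result p M hc.hM (D.subgroupOf (Ce D)) hD.comap_subtype
      (top_le_iff.1 fun c _ => Subgroup.mem_sup_right fun d hd => Subtype.ext (c.2 d hd)) _ hc.ind.1
      (BHZ.Nil.isDefectGroup_cent hc.hM hc.hD (H641.isMaximal_of_induced hc.hM hc.hD hc.ind).1)).1.unique
      ⟨h2, fun d hd => by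
        show θ (g⁻¹ * d * g⁻¹⁻¹) = θ (g⁻¹ * 1 * g⁻¹⁻¹)
        rw [hc.triv _ ((Subgroup.mem_normalizer_iff.1 (inv_mem hn) d).1 hd), mul_one, mul_inv_cancel]⟩
      ⟨hm, fun d hd => hc.triv d hd⟩
    refine (inv_mem_iff (H := In D θ)).1 ⟨fun x => (Subgroup.mem_normalizer_iff.1 (inv_mem hn) x).symm,
      ext_cj hc.zero h1 (congrFun (congrArg Subtype.val h3))⟩

end Cfsg.Agent.TO.Cy
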