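import Cfsg.Agent.TO.KLoc
import Cfsg.Agent.TO.InvSUB
import Cfsg.Agent.TO.CyB
import Cfsg.Agent.TO.CovD

/-!
# S4817, task K : the boxes K and K2 (helper34)

`boxK`, `boxK2` (no hypotheses).
-/

set_option autoImplicit false
set_option linter.unusedSectionVars false
set_option maxHeartbeats 200000

namespace Cfsg.Agent.TO

open Cfsg Cfsg.Agent.Characters.Core Cfsg.Agent.ODD.Red

namespace K

variable {G : Type} [Group G] [Finite G] {p : ℕ} [hp : Fact p.Prime] {M : Ideal AlgInt} {b : Set (IrrCharacter G)}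
  {D : Subgroup G} {θ : G → ℂ} {u : G}

variable (D θ u) in
/-- the restrictions to `C(u)` of the local automorphisms which fix `u` -/
def Gam : Subgroup (MulAut (Cu u)) where
  carrier := {β | ∃ α ∈ LA D θ, α u = u ∧ ∀ x : Cu u, (β x : G) = α x}
  one_mem' := ⟨1, one_mem _, rfl, fun _ => rfl⟩
  mul_mem' := by
    rintro β β' ⟨α, h1, h2, h3⟩ ⟨α', h4, h5, h6⟩
    exact ⟨α * α', mul_mem h1 h4, by rw [MulAut.mul_apply, h5, h2], fun x => by
      rw [MulAut.mul_apply, MulAut.mul_apply, h3, h6]⟩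
  inv_mem' := by
    rintro β ⟨α, h1, h2, h3⟩
    refine ⟨α⁻¹, inv_mem h1, α.injective (by rw [MulAut.apply_inv_self, h2]), fun x => α.injective ?_⟩
    rw [← h3, MulAut.apply_inv_self, MulAut.apply_inv_self]

theorem mem_Gam (h : Can p M b D θ) (hu : u ∈ D) {α : MulAut G} (h1 : α u = u) {β : MulAut (Cu u)}
    (h2 : ∀ x : Cu u, (β x : G) = α x) (h3 : β ∈ LA (D.subgroupOf (Cu u)) fun x : Cu u => θ x) : β ∈ Gam D θ u := by
  have h4 : ∀ x, α x ∈ Cu u ↔ x ∈ Cu u := fun x => by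
    have := Q8.map_mem_cu α u x
    rwa [h1] at this
  have h5 := Q8.ce_le_cu hu
  refine ⟨α, ⟨fun x => ?_, fun x => ?_⟩, h1, h2⟩
  · by_cases hx : x ∈ Cu u
    · exact h2 ⟨x, hx⟩ ▸ h3.1 ⟨x, hx⟩
    · exact iff_of_false (fun e => hx ((h4 x).1 (h5 (h.ab e)))) fun e => hx (h5 (h.ab e))
  · by_cases hx : x ∈ Cu u
    · exact h2 ⟨x, hx⟩ ▸ h3.2 ⟨x, hx⟩
    · rw [h.zero _ fun e => hx ((h4 x).1 (h5 e)), h.zero _ fun e => hx (h5 e)]

theorem mem_Stab_of {α : MulAut G} (h : ∀ f ∈ Fn b, f ∘ α ∈ Fn b) : α ∈ Stab b := fun f => by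
  refine ⟨fun h1 => ?_, h f⟩
  have h2 : ∀ k : ℕ, f ∘ ⇑(α ^ (k + 1)) ∈ Fn b := fun k => by
    induction k with
    | zero => rwa [zero_add, pow_one]
    | succ k ih => exact pow_succ α (k + 1) ▸ h _ ih
  have h3 := h2 (orderOf α - 1)
  rwa [Nat.sub_add_cancel (orderOf_pos α), pow_orderOf_eq_one] at h3

theorem pow_eq_one_of (hc : Nat.card D = p ^ 2) (hn : ¬ IsCyclic D) (hu : u ∈ D) : u ^ p = 1 := by
  have h1 : orderOf (⟨u, hu⟩ : D) ∣ p ^ 2 := hc ▸ orderOf_dvd_natCard _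
  obtain ⟨k, h2, h3⟩ := (Nat.dvd_prime_pow hp.out).1 h1
  have h4 : k ≠ 2 := fun e => hn (isCyclic_of_orderOf_eq_card ⟨u, hu⟩ (by rw [h3, hc, e]))
  have h5 : orderOf (⟨u, hu⟩ : D) ∣ p := by
    rw [h3]
    exact (pow_dvd_pow p (show k ≤ 1 by omega)).trans (pow_one p).dvd
  exact congrArg Subtype.val (orderOf_dvd_iff_pow_eq_one.1 h5)

end K

open K in
/-- **[K]** -/
theorem boxK : BoxK := by
  intro G _ _ p hp M b D θ η H h h35 hc u hu hu1 R hR hR' hη hinv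
  obtain ⟨c, hcb, hC⟩ := h.loc hu
  have h1 := Q8.ce_le_cu hu
  have hD : D ≤ Cu u := h.ab.trans h1
  have h2 := pow_eq_one_of hc H.nc hu
  have h3 : PElt p u := ⟨1, by rw [pow_one]; exact orderOf_eq_prime h2 hu1⟩
  have h4 : ∀ t : Cu u, MulAut.conj (t : G) u = u := fun t => by
    rw [MulAut.conj_apply, Q8.mem_cu.1 t.2, mul_inv_cancel_right]
  have hRu : R ≤ Cu u := fun x hx => (hR hx).2
  refine Loc.false (p := p) (M := M) (c := c) (D := D.subgroupOf (Cu u)) (R := R.subgroupOf (Cu u)) (θ := fun x => θ x)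
    (η := fun x => η x) (u := ⟨u, hD hu⟩) (Γ := Gam D θ u)
    { can := hC
      card := (Nat.card_congr (Subgroup.subgroupOfEquivOfLe hD).toEquiv).trans hc
      mem := hu
      ne := fun e => hu1 (congrArg Subtype.val e)
      pow := Subtype.ext h2
      cen := Subgroup.mem_center_iff.2 fun g => Subtype.ext (Q8.mem_cu.1 g.2)
      le := ?_
      fix := ?_
      inn := fun t ht => mem_Gam h hu (h4 t) (fun _ => rfl) ht
      Rle := fun x hx => ⟨fun y => (hR hx).1.1 y, fun y => (hR hx).1.2 y⟩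
      Rne := fun e => hR' fun x hx => (Cn.mem_Ce_sub hD ⟨x, hRu hx⟩).1 (e hx)
      ext := ⟨fun x hx => hη.le ((Cn.mem_Ce_sub hD x).1 hx),
        isIrr_comp' (Subgroup.subgroupOfEquivOfLe hRu).toMonoidHom (MulEquiv.surjective _) hη.irr,
        fun x hx => hη.ext _ ((Cn.mem_Ce_sub hD x).1 hx)⟩
      inv := ?_
      loc := ?_ } (boxCY boxCAN1) boxCOV2 boxDA h35
  · rintro β ⟨α, h5, -, h6⟩
    exact ⟨fun x => by rw [Subgroup.mem_subgroupOf, h6]; exact h5.1 x, fun x => (congrArg θ (h6 x)).trans (h5.2 x)⟩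
  · rintro β ⟨α, -, h5, h6⟩
    exact Subtype.ext ((h6 _).trans h5)
  · rintro β ⟨α, h5, h6, h7⟩ x hx hx'
    rw [Subgroup.mem_subgroupOf, h7] at hx'
    rw [h7]
    exact hinv α h5 h6 x hx hx'
  · have key : ∀ f ∈ Submodule.span ℂ (Fn c), (∀ β ∈ Gam D θ u, f ∘ β = f) → ∀ x, IsPRegular p x →
        f x * reg c 1 = f 1 * reg c x := fun f hf hΓ => boxLOC G p M b D H u h3 hu1 c hcb f hf
      fun α _ h5 h6 x y hy _ => by
        have h7 : ∀ x, α x ∈ Cu u ↔ x ∈ Cu u := fun x => by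
          have := Q8.map_mem_cu α u x
          rwa [h5] at this
        obtain ⟨g, hg⟩ := hC.frat (α := Q8.resAut α _ h7) (mem_Stab_of (by
          rintro _ ⟨ξ, hξ, rfl⟩
          obtain ⟨ξ', h8, h9⟩ := h6 ξ hξ
          exact ⟨ξ', h8, funext fun x => h9 x _ rfl⟩))
        have h8 := congrFun (hΓ _ (mem_Gam h hu (α := MulAut.conj (g : G) * α) (by rw [MulAut.mul_apply, h5, h4])
          (fun _ => rfl) hg)) x
        rw [← h8, show y = Q8.resAut α _ h7 x from Subtype.ext hy]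
        exact (congrFun (Inv.class_comp_conj (Inv.V_class hf) g) _).symm
    intro f hf f' hf' h5 h6 x hx
    have := hC.prime
    refine mul_right_cancel₀ (Inv.reg_one_ne (Blocks.Basic.isPBlock_nonempty hC.hb)) ?_
    rw [mul_right_comm, key f hf h5 x hx, mul_right_comm (f' x), key f' hf' h6 x hx]
    ring

/-- **[K2]** -/
theorem boxK2 : BoxK2 := by
  intro G _ _ p hp M b D θ H h h35 hc u hu hu1 K hK x h1 h2 h3
  have h4 := Q8.ce_le_cu hu
  obtain ⟨h5, η, -, h6, h7⟩ := ext_of_canon h hK inf_le_left fun c hc => ⟨h.Ce_le_In hc, by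
    change MulAut.conj c u = u
    rw [MulAut.conj_apply, Q8.mem_cu.1 (h4 hc), mul_inv_cancel_right]⟩
  by_contra h8
  exact boxK G p M b D θ η H h h35 hc u hu hu1 (CK D K ⊓ Cu u) (inf_le_inf_right _ h5)
    (fun e => h8 (e ⟨mem_CK_of h1 h2, h3⟩)) (h7 _ (le_inf Ce_le_CK h4) inf_le_left)
    fun α h9 h10 y _ _ => h6 α ⟨h9, h10⟩ y

end Cfsg.Agent.TO
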