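import Cfsg.Agent.TO.KExt
import Cfsg.Agent.TO.Q8T

/-!
# S4817, task K : the action on `D / <u>`, the shape of the block (helper34)

`exists_sc`, `fix_of_pow`, `Tr`, `exists_tr`, `Tr.par`.
-/

set_option autoImplicit false
set_option linter.unusedSectionVars false

namespace Cfsg.Agent.TO.K

open Cfsg Cfsg.Agent.Characters.Core

variable {H : Type} [Group H] [Finite H] {p : ℕ} [hp : Fact p.Prime] {D : Subgroup H} {u : H}

/-- the scalar by which an automorphism acts on `D / <u>` -/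
theorem exists_sc (hD : Nat.card D = p ^ 2) (hab : D ≤ Ce D) (hu : u ∈ D) (h1 : u ≠ 1) (h2 : u ^ p = 1)
    (Λ : Subgroup (MulAut H)) (hΛ : ∀ α ∈ Λ, (∀ x, α x ∈ D ↔ x ∈ D) ∧ α u = u) : ∃ φ : Λ →* (ZMod p)ˣ,
      (∀ α, φ α = 1 → ∀ d ∈ D, (α.1 ^ p) d = d) ∧ ∀ α : Λ, (∀ d ∈ D, α.1 d = d) → φ α = 1 := by
  let U := (Subgroup.zpowers u).subgroupOf D
  have : U.Normal := ⟨fun x hx y => by rwa [show y * x = x * y from Subtype.ext (hab x.2 y y.2), mul_inv_cancel_right]⟩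
  have h3 : Nat.card (D ⧸ U) = p := by
    have h4 := U.card_mul_index
    rw [Nat.card_congr (Subgroup.subgroupOfEquivOfLe (Subgroup.zpowers_le.2 hu)).toEquiv, Nat.card_zpowers,
      orderOf_eq_prime h2 h1, hD, sq] at h4
    exact Nat.eq_of_mul_eq_mul_left hp.out.pos h4
  have := isCyclic_of_prime_card h3
  have h4 : ∀ (α : Λ), ∀ z ∈ Subgroup.zpowers u, α.1 z = z := by
    rintro α _ ⟨k, rfl⟩
    rw [map_zpow, (hΛ α α.2).2]
  let q : Λ → D ⧸ U →* D ⧸ U := fun α => QuotientGroup.map U U (Q8.resAut α D (hΛ α α.2).1).toMonoidHom fun x hx =>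
    show α.1 x ∈ Subgroup.zpowers u from (h4 α x hx).symm ▸ hx
  have h5 : ∀ α β : Λ, α * β = 1 → (q α).comp (q β) = MonoidHom.id _ := fun α β h => by
    ext x
    exact congrArg QuotientGroup.mk (Subtype.ext (congrArg (fun γ : Λ => γ.1 x) h))
  let Q : Λ →* MulAut (D ⧸ U) := MonoidHom.mk' (fun α => MonoidHom.toMulEquiv (q α) (q α⁻¹) (h5 _ _ (inv_mul_cancel α))
    (h5 _ _ (mul_inv_cancel α))) fun α β => by
      ext x
      obtain ⟨x, rfl⟩ := QuotientGroup.mk_surjective x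
      rfl
  have h6 : ∀ α, Q α = 1 ↔ ∀ d ∈ D, d⁻¹ * α.1 d ∈ Subgroup.zpowers u := fun α =>
    ⟨fun h d hd => (QuotientGroup.eq (s := U) (a := ⟨d, hd⟩) (b := ⟨α.1 d, ((hΛ α α.2).1 d).2 hd⟩)).1
      (congrArg (fun γ : MulAut (D ⧸ U) => γ (QuotientGroup.mk ⟨d, hd⟩)) h).symm, fun h => by
      ext x
      obtain ⟨x, rfl⟩ := QuotientGroup.mk_surjective x
      exact ((QuotientGroup.eq (s := U) (a := x) (b := ⟨α.1 x, ((hΛ α α.2).1 x).2 x.2⟩)).2 (h x x.2)).symm⟩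
  have h7 : ∃ φ : Λ →* (ZMod (Nat.card (D ⧸ U)))ˣ, ∀ α, φ α = 1 ↔ Q α = 1 :=
    ⟨(IsCyclic.mulAutMulEquiv _).toMonoidHom.comp Q, fun α => map_eq_one_iff _ (IsCyclic.mulAutMulEquiv _).injective⟩
  rw [h3] at h7
  obtain ⟨φ, h7⟩ := h7
  refine ⟨φ, fun α h d hd => ?_, fun α h => (h7 α).2 ((h6 α).2 fun d hd => by rw [h d hd, inv_mul_cancel]; exact one_mem _)⟩
  have h8 := (h6 α).1 ((h7 α).1 h) d hd
  have h9 : ∀ k : ℕ, (α.1 ^ k) d = d * (d⁻¹ * α.1 d) ^ k := fun k => by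
    induction k with
    | zero => simp
    | succ k ih => rw [pow_succ', MulAut.mul_apply, ih, map_mul, h4 α _ (pow_mem h8 k), pow_succ', ← mul_assoc,
        mul_inv_cancel_left]
  obtain ⟨k, hk⟩ := h8
  rw [h9, ← hk, ← zpow_natCast, ← zpow_mul, mul_comm k, zpow_mul, zpow_natCast, h2, one_zpow, mul_one]

/-- an automorphism whose `p`-th power acts trivially -/
theorem fix_of_pow {S : Finset (H → ℂ)} {β : MulAut H} (h1 : ∀ χ ∈ S, χ ∘ β ∈ S) (h2 : ∀ χ ∈ S, χ ∘ ⇑(β ^ p) = χ)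
    (h3 : S.card ≤ p) (h4 : S.card = p → ∀ a, ¬ ∀ χ ∈ S, χ 1 = a) {χ : H → ℂ} (h : χ ∈ S) : χ ∘ β = χ := by
  classical
  by_contra h5
  have h6 : ∀ k : ℕ, (fun f : H → ℂ => f ∘ β)^[k] χ = χ ∘ ⇑(β ^ k) ∧ χ ∘ ⇑(β ^ k) ∈ S := fun k => by
    induction k with
    | zero => exact ⟨rfl, h⟩
    | succ k ih =>
      rw [Function.iterate_succ_apply', ih.1, pow_succ]
      exact ⟨rfl, h1 _ ih.2⟩
  have h7 := Function.iterate_injOn_Iio_minimalPeriod (f := fun f : H → ℂ => f ∘ β) (x := χ)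
  rw [Function.minimalPeriod_eq_prime ((h6 p).1.trans (h2 χ h)) h5, ← Finset.coe_Iio] at h7
  have h8 : (Finset.Iio p).image (fun k => (fun f : H → ℂ => f ∘ β)^[k] χ) ⊆ S := fun f hf => by
    obtain ⟨k, -, rfl⟩ := Finset.mem_image.1 hf
    exact (h6 k).1 ▸ (h6 k).2
  have h9 := Finset.card_image_of_injOn h7
  rw [Nat.card_Iio] at h9
  refine h4 (h3.antisymm (h9 ▸ Finset.card_le_card h8)) (χ 1) fun f hf => ?_
  obtain ⟨k, -, rfl⟩ := Finset.mem_image.1 ((Finset.eq_of_subset_of_card_le h8 (h9.symm ▸ h3)).ge hf)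
  rw [(h6 k).1, Function.comp_apply, map_one]

variable (p) in
/-- the shape of the set of members which are trivial on `u` -/
structure Tr (c : Set (IrrCharacter H)) (u : H) (e : ℕ) (X Y : Finset (H → ℂ)) : Prop where
  mem : ∀ f, f ∈ X ∨ f ∈ Y ↔ f ∈ Fn c ∧ f u = f 1
  dis : Disjoint X Y
  cX : X.card = e
  cY : Y.card = (p - 1) / e
  ind : ∀ a : (H → ℂ) → ℂ, (∀ g, IsPRegular p g → ∑ f ∈ X, a f * f g = 0) → ∀ f ∈ X, a f = 0
  eqY : ∀ f ∈ Y, ∀ f' ∈ Y, ∀ g, IsPRegular p g → f g = f' g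
  rel : ∃ (δ : (H → ℂ) → ℤ) (δ₀ : ℤ), (∀ f ∈ X, δ f = 1 ∨ δ f = -1) ∧ (δ₀ = 1 ∨ δ₀ = -1) ∧
    ∀ ψ ∈ Y, ∀ g, IsPRegular p g → δ₀ * ψ g + ∑ f ∈ X, δ f * f g = 0

variable {M : Ideal AlgInt} {c : Set (IrrCharacter H)} {θ : H → ℂ} {e : ℕ} {X Y : Finset (H → ℂ)}

theorem exists_tr (hCY : BoxCY) (h : Can p M c D θ) (hD : Nat.card D = p ^ 2) (hu : u ∈ D) (h1 : u ≠ 1) (h2 : u ^ p = 1)
    (h3 : u ∈ Subgroup.center H) : (Ce D).relIndex (In D θ) ∣ p - 1 ∧ ∃ X Y, Tr p c u ((Ce D).relIndex (In D θ)) X Y := by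
  classical
  obtain ⟨a1, X, Y, a2, a3, a4, a5, a6, a7, δ, δ₀, a8, a9, a10⟩ := hCY H p M c D θ h hD u hu h1 h2 h3 _ rfl
  have := @Fintype.ofFinite _ (finite_irr (G := H))
  let i : IrrCharacter H ↪ (H → ℂ) := Function.Embedding.subtype _
  have b1 : ∀ {Z : Set (IrrCharacter H)} {f}, f ∈ Z.toFinset.map i ↔ ∃ χ ∈ Z, χ.1 = f := by simp [i]
  refine ⟨a1, X.toFinset.map i, Y.toFinset.map i, fun f => ?_, (Finset.disjoint_map _).2 (Set.disjoint_toFinset.2 a3),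
    by rw [Finset.card_map, ← Set.ncard_eq_toFinset_card', a4], by rw [Finset.card_map, ← Set.ncard_eq_toFinset_card', a5],
    fun a ha f hf => ?_, fun f hf f' hf' => ?_, fun f => if h : IsIrrCharacter H f then δ ⟨f, h⟩ else 0, δ₀, fun f hf => ?_, a9,
    fun f hf g hg => ?_⟩
  · rw [b1, b1]
    exact ⟨fun h => by
      obtain ⟨χ, h, rfl⟩ | ⟨χ, h, rfl⟩ := h
      exacts [⟨⟨χ, (a2.ge (.inl h)).1, rfl⟩, (a2.ge (.inl h)).2⟩, ⟨⟨χ, (a2.ge (.inr h)).1, rfl⟩, (a2.ge (.inr h)).2⟩],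
      fun ⟨⟨χ, h, e⟩, h'⟩ => (a2.le (show χ ∈ {χ ∈ c | χ.1 u = χ.1 1} from ⟨h, e ▸ h'⟩)).imp (⟨χ, ·, e⟩) (⟨χ, ·, e⟩)⟩
  · obtain ⟨χ, hχ, rfl⟩ := b1.1 hf
    have b2 : LinearIndependent ℂ fun χ : X => pRegularPart p (χ.1 : H → ℂ) :=
      linearIndependent_iff_card_eq_finrank_span.2 (by
        rw [← Set.image_eq_range (fun χ : IrrCharacter H => pRegularPart p (χ : H → ℂ)), ← Nat.card_eq_fintype_card,
          Nat.card_coe_set_eq, a4, ← a6]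
        rfl)
    refine Fintype.linearIndependent_iff.1 b2 (fun χ => a χ.1.1) (funext fun g => ?_) ⟨χ, hχ⟩
    rw [Finset.sum_apply]
    by_cases hg : IsPRegular p g
    · rw [Pi.zero_apply, ← ha g hg, Finset.sum_map, Finset.sum_subtype X.toFinset (p := (· ∈ X)) (by simp)]
      exact Finset.sum_congr rfl fun ψ _ => by simp [pRegularPart, hg, i]
    · exact Finset.sum_eq_zero fun ψ _ => by simp [pRegularPart, hg]
  · obtain ⟨χ, hχ, rfl⟩ := b1.1 hf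
    obtain ⟨χ', hχ', rfl⟩ := b1.1 hf'
    exact a7 χ hχ χ' hχ'
  · obtain ⟨χ, hχ, rfl⟩ := b1.1 hf
    beta_reduce
    rw [dif_pos χ.2]
    exact a8 χ hχ
  · obtain ⟨χ, hχ, rfl⟩ := b1.1 hf
    rw [← a10 χ hχ g hg, Finset.sum_map, finsum_mem_eq_toFinset_sum]
    exact congrArg _ (Finset.sum_congr rfl fun ψ _ => congrArg (fun z : ℤ => (z : ℂ) * _) (dif_pos ψ.2))

theorem reg_one : IsPRegular p (1 : H) := by
  rw [IsPRegular, orderOf_one]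
  exact hp.out.not_dvd_one

theorem Tr.irr (T : Tr p c u e X Y) {f : H → ℂ} (h : f ∈ X ∨ f ∈ Y) : IsIrrCharacter H f := Q8.fn_irr ((T.mem f).1 h).1

/-- not all degrees are equal -/
theorem Tr.par (T : Tr p c u e X Y) (he : Even e) (hY : Y.Nonempty) (a : ℂ) : ¬ ∀ f, f ∈ X ∨ f ∈ Y → f 1 = a := fun h => by
  obtain ⟨δ, δ₀, h1, h2, h3⟩ := T.rel
  obtain ⟨ψ, hψ⟩ := hY
  have h4 := h3 ψ hψ 1 reg_one
  rw [Finset.sum_congr rfl fun f hf => by rw [h f (.inl hf), ← h ψ (.inr hψ)], ← Finset.sum_mul, ← add_mul,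
    mul_eq_zero, or_iff_left (isIrr_apply_one_ne_zero (T.irr (.inr hψ)))] at h4
  have h5 : δ₀ + ∑ f ∈ X, δ f = 0 := by exact_mod_cast h4
  have h6 := congrArg (Int.cast : ℤ → ZMod 2) h5
  rw [Int.cast_add, Int.cast_sum, Finset.sum_congr rfl (g := fun _ => 1) fun f hf => by rcases h1 f hf with e | e <;> rw [e] <;> rfl,
    Finset.sum_const, T.cX, nsmul_one, (ZMod.natCast_eq_zero_iff_even).2 he] at h6
  rcases h2 with rfl | rfl <;> exact absurd h6 (by decide)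

end Cfsg.Agent.TO.K
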