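import Cfsg.Agent.TO.KTop
import Cfsg.Agent.TO.Can1

/-!
# S4817, task K : the local theorem (helper34)

`Loc` : the situation in `H = C(u)`; `Loc.false`.
-/

set_option autoImplicit false
set_option linter.unusedSectionVars false
set_option maxHeartbeats 200000

namespace Cfsg.Agent.TO.K

open Cfsg Cfsg.Agent.Characters.Core Cfsg.Agent.ODD.Red

variable {H : Type} [Group H] [Finite H] {p : ℕ} [hp : Fact p.Prime] {M : Ideal AlgInt} {c : Set (IrrCharacter H)}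
  {D R : Subgroup H} {θ η : H → ℂ} {u : H} {Γ : Subgroup (MulAut H)} {e : ℕ} {X Y : Finset (H → ℂ)}

variable (p M c D R θ η u Γ) in
/-- the local situation -/
structure Loc : Prop where
  can : Can p M c D θ
  card : Nat.card D = p ^ 2
  mem : u ∈ D
  ne : u ≠ 1
  pow : u ^ p = 1
  cen : u ∈ Subgroup.center H
  le : Γ ≤ LA D θ
  fix : ∀ α ∈ Γ, α u = u
  inn : ∀ t ∈ In D θ, MulAut.conj t ∈ Γ
  Rle : R ≤ In D θ
  Rne : ¬ R ≤ Ce D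
  ext : Ext D θ R η
  inv : ∀ α ∈ Γ, ∀ x ∈ R, α x ∈ R → η (α x) = η x
  loc : ∀ f ∈ Submodule.span ℂ (Fn c), ∀ f' ∈ Submodule.span ℂ (Fn c), (∀ α ∈ Γ, f ∘ α = f) → (∀ α ∈ Γ, f' ∘ α = f') →
    ∀ x, IsPRegular p x → f x * f' 1 = f' x * f 1

/-- the scalars -/
structure Sc (L : Loc p M c D R θ η u Γ) (φ : Γ →* (ZMod p)ˣ) (ψ : In D θ →* (ZMod p)ˣ) : Prop where
  ker : ∀ α, φ α = 1 → ∀ d ∈ D, (α.1 ^ p) d = d
  one : ∀ α : Γ, (∀ d ∈ D, α.1 d = d) → φ α = 1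
  eq : ∀ t, ψ t = φ ⟨MulAut.conj t.1, L.inn t.1 t.2⟩
  ker' : ∀ t, ψ t = 1 ↔ t.1 ∈ Ce D

theorem conj_fix_iff {t : H} : (∀ d ∈ D, MulAut.conj t d = d) ↔ t ∈ Ce D :=
  forall₂_congr fun d _ => by rw [MulAut.conj_apply, mul_inv_eq_iff_eq_mul, eq_comm]

variable (L : Loc p M c D R θ η u Γ)
include L

theorem Loc.exists_sc : ∃ φ ψ, Sc L φ ψ := by
  obtain ⟨φ, h1, h2⟩ := K.exists_sc L.card L.can.ab L.mem L.ne L.pow Γ fun α h => ⟨(L.le h).1, L.fix α h⟩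
  refine ⟨φ, φ.comp ((MulAut.conj.comp (In D θ).subtype).codRestrict Γ fun t => L.inn t.1 t.2), h1, h2, fun _ => rfl,
    fun t => ⟨fun h => ?_, fun h => h2 _ (conj_fix_iff.2 h)⟩⟩
  have h3 : t.1 ^ p ∈ Ce D := conj_fix_iff.1 (map_pow MulAut.conj t.1 p ▸ h1 _ h)
  obtain ⟨a, b, h4⟩ := Nat.isCoprime_iff_coprime.2 (hp.out.coprime_iff_not_dvd.2 L.can.idx)
  rw [← zpow_one t.1, ← h4, zpow_add, mul_comm a, mul_comm b, zpow_mul, zpow_mul, zpow_natCast, zpow_natCast]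
  exact mul_mem (zpow_mem h3 a) (zpow_mem (pow_mem_Ce t.2) b)

variable {L} {φ : Γ →* (ZMod p)ˣ} {ψ : In D θ →* (ZMod p)ˣ}

theorem Sc.card (S : Sc L φ ψ) : Nat.card ψ.range = (Ce D).relIndex (In D θ) := by
  rw [← Subgroup.index_ker]
  exact congrArg _ (Subgroup.ext S.ker')

theorem Sc.aut (S : Sc L φ ψ) {α : MulAut H} (hα : α ∈ Γ) (t : In D θ) : ψ ⟨α t, LA_In (L.le hα) t.2⟩ = ψ t := by
  rw [S.eq, S.eq, ← mul_inv_cancel_comm (φ ⟨α, hα⟩) (φ ⟨MulAut.conj t.1, _⟩), ← map_inv, ← map_mul, ← map_mul]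
  exact congrArg φ (Subtype.ext (MulEquiv.ext fun x => by simp))

theorem Sc.mem_R (S : Sc L φ ψ) {t r : In D θ} (hr : r.1 ∈ R) (h : ψ t = ψ r) : t.1 ∈ R := by
  have h1 := L.ext.le ((S.ker' (t * r⁻¹)).1 (by rw [map_mul, map_inv, h, mul_inv_cancel]))
  exact (mul_mem_cancel_right (inv_mem hr)).1 h1

theorem Sc.aut_R (S : Sc L φ ψ) {α : MulAut H} (hα : α ∈ Γ) {t : H} (ht : t ∈ R) : α t ∈ R :=
  S.mem_R (t := ⟨α t, LA_In (L.le hα) (L.Rle ht)⟩) (r := ⟨t, L.Rle ht⟩) ht (S.aut hα ⟨t, L.Rle ht⟩)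

theorem Sc.normal (S : Sc L φ ψ) : (R.subgroupOf (In D θ)).Normal := ⟨fun _ hx y => S.aut_R (L.inn y.1 y.2) hx⟩

/-- the extension to the inertia group -/
theorem Sc.exists_ext (S : Sc L φ ψ) : ∃ η' : H → ℂ, Ext D θ (In D θ) η' ∧ (∀ x ∈ R, η' x = η x) ∧
    ∀ α ∈ Γ, ∃ l : In D θ →* ℂˣ, (∀ t : In D θ, t.1 ∈ R → l t = 1) ∧ ∀ t : In D θ, η' (α t) = l t * η' t := by
  have := S.normal
  have h1 : IsCyclic (In D θ ⧸ R.subgroupOf (In D θ)) := by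
    have := isCyclic_of_injective _ (QuotientGroup.kerLift_injective ψ)
    exact isCyclic_of_surjective (QuotientGroup.map ψ.ker (R.subgroupOf (In D θ)) (MonoidHom.id _)
      fun t ht => L.ext.le ((S.ker' t).1 ht)) (QuotientGroup.map_surjective_of_surjective _ _ _ QuotientGroup.mk_surjective _)
  have h2 := isIrr_comp' (Subgroup.subgroupOfEquivOfLe L.Rle).toMonoidHom (MulEquiv.surjective _) L.ext.irr
  obtain ⟨ξ, h3, h4⟩ := S0886.result _ h1 _ h2 fun t x => L.inv _ (L.inn t.1 t.2) _ x.2 (S.aut_R (L.inn t.1 t.2) x.2)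
  have h5 : ∀ x ∈ R, extendByZero (In D θ) ξ x = η x := fun x hx =>
    (extendByZero_of_mem _ _ (L.Rle hx)).trans (h4 ⟨⟨x, L.Rle hx⟩, hx⟩)
  have h6 : ∀ t : In D θ, extendByZero (In D θ) ξ t = ξ t := fun t => extendByZero_of_mem _ _ t.2
  refine ⟨extendByZero (In D θ) ξ, ⟨L.ext.le.trans L.Rle, by rwa [funext h6], fun x hx =>
    (h5 x (L.ext.le hx)).trans (L.ext.ext x hx)⟩, h5, fun α hα => ?_⟩
  let a := Q8.resAut α (In D θ) fun x => ⟨fun h => by simpa using LA_In (inv_mem (L.le hα)) h, LA_In (L.le hα)⟩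
  obtain ⟨l, h7, h8⟩ := exists_lin _ h3 ((funext h4 : (fun n : R.subgroupOf (In D θ) => ξ n) = _) ▸ h2)
    (isIrr_comp' a.toMonoidHom a.surjective h3) fun n => (h4 ⟨a n, S.aut_R hα n.2⟩).trans
      ((L.inv α hα _ n.2 (S.aut_R hα n.2)).trans (h4 n).symm)
  exact ⟨l, h7, fun t => (h6 (a t)).trans ((h8 t).trans (congrArg _ (h6 t).symm))⟩

variable (L)

theorem Loc.act (T : Tr p c u e X Y) {α : MulAut H} (hα : α ∈ Γ) {f : H → ℂ} (h : f ∈ X ∨ f ∈ Y) : f ∘ α ∈ X ∨ f ∘ α ∈ Y :=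
  (T.mem _).2 ⟨Q8.comp_mem (L.can.le_Stab (L.le hα)) ((T.mem f).1 h).1, by
    rw [Function.comp_apply, Function.comp_apply, L.fix α hα, map_one, ((T.mem f).1 h).2]⟩

variable {L}

/-- an automorphism which fixes the extension and acts like an element of the inertia group -/
theorem Sc.fixes (S : Sc L φ ψ) (hDA : BoxDA) (T : Tr p c u e X Y) (h1 : e + (p - 1) / e ≤ p)
    (h2 : e + (p - 1) / e = p → Even e ∧ 0 < (p - 1) / e) {η' : H → ℂ} (h3 : Ext D θ (In D θ) η') {α : MulAut H} (hα : α ∈ Γ)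
    (h4 : α ∈ LE D θ η') (h5 : φ ⟨α, hα⟩ ∈ ψ.range) {f : H → ℂ} (hf : f ∈ X ∨ f ∈ Y) : f ∘ α = f := by
  classical
  obtain ⟨t, ht⟩ := h5
  have h6 := mul_mem (inv_mem (L.inn t.1 t.2)) hα
  have h7 := pow_mem (mul_mem (inv_mem (conj_mem_LE h3.irr t.2)) h4) p
  have h8 : φ ⟨_, h6⟩ = 1 := by
    rw [← inv_mul_cancel (ψ t)]
    exact (map_mul φ (⟨_, L.inn t.1 t.2⟩ : Γ)⁻¹ ⟨α, hα⟩).trans (by rw [map_inv, ← S.eq, ← ht])
  have h9 : (X ∪ Y).card = e + (p - 1) / e := by rw [Finset.card_union_of_disjoint T.dis, T.cX, T.cY]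
  have h10 := fix_of_pow (p := p) (S := X ∪ Y) (fun g hg => Finset.mem_union.2 (L.act T h6 (Finset.mem_union.1 hg)))
    (fun g hg => hDA H p M c D θ η' L.can h3 _ (S.ker _ h8) h7.1.2 h7.2 g ((T.mem g).1 (Finset.mem_union.1 hg)).1) (h9 ▸ h1)
    (fun h a h' => T.par (h2 (h9 ▸ h)).1 (Finset.card_pos.1 (T.cY ▸ (h2 (h9 ▸ h)).2)) a fun g hg =>
      h' g (Finset.mem_union.2 hg)) (Finset.mem_union.2 hf)
  rwa [Q8.comp_mul, ← map_inv, Q8.comp_conj (T.irr hf)] at h10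

variable (L) in
/-- two independent invariants -/
theorem Loc.dep (T : Tr p c u e X Y) {f₁ f₂ f₃ f₄ : H → ℂ} (h1 : f₁ ∈ X) (h2 : f₂ ∈ X) (h3 : f₃ ∈ X) (h4 : f₄ ∈ X) (h5 : f₁ ≠ f₃)
    (h6 : f₁ ≠ f₄) (h7 : ∀ α ∈ Γ, (f₁ + f₂) ∘ α = f₁ + f₂) (h8 : ∀ α ∈ Γ, (f₃ + f₄) ∘ α = f₃ + f₄) : False := by
  classical
  have e1 : ∀ {f}, f ∈ X → f ∈ Submodule.span ℂ (Fn c) := fun h => Submodule.subset_span ((T.mem _).1 (.inl h)).1
  have e2 := T.ind (fun f => (f₃ + f₄) 1 * ((if f = f₁ then 1 else 0) + if f = f₂ then 1 else 0) -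
      (f₁ + f₂) 1 * ((if f = f₃ then 1 else 0) + if f = f₄ then 1 else 0)) (fun g hg => by
    have := L.loc _ (add_mem (e1 h1) (e1 h2)) _ (add_mem (e1 h3) (e1 h4)) h7 h8 g hg
    simp only [sub_mul, mul_assoc, add_mul, ite_mul, one_mul, zero_mul, Finset.sum_sub_distrib, ← Finset.mul_sum,
      Finset.sum_add_distrib, Finset.sum_ite_eq', h1, h2, h3, h4, if_true]
    rw [Pi.add_apply f₁ f₂ g, Pi.add_apply f₃ f₄ g] at this
    linear_combination this) f₁ h1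
  obtain ⟨a, ha, e3⟩ := isIrr_apply_one (T.irr (.inl h3))
  obtain ⟨b, -, e4⟩ := isIrr_apply_one (T.irr (.inl h4))
  rw [if_pos rfl, if_neg h5, if_neg h6, add_zero, mul_zero, sub_zero, Pi.add_apply, e3, e4, ← Nat.cast_add, mul_eq_zero,
    Nat.cast_eq_zero] at e2
  refine e2.elim (by omega) ?_
  split_ifs <;> norm_num

variable (L) in
theorem Loc.two (T : Tr p c u e X Y) (he : 1 < e) (h : ∀ α ∈ Γ, ∀ f ∈ X, f ∘ α = f) : False := by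
  obtain ⟨f, h1, f', h2, h3⟩ := Finset.one_lt_card.1 (T.cX ▸ he)
  exact L.dep T h1 h1 h2 h2 h3 h3 (fun α hα => congrArg₂ (· + ·) (h α hα f h1) (h α hα f h1))
    fun α hα => congrArg₂ (· + ·) (h α hα f' h2) (h α hα f' h2)

omit L in
theorem comp_inj (α : MulAut H) {f f' : H → ℂ} : f ∘ α = f' ∘ α ↔ f = f' := α.surjective.injective_comp_right.eq_iff

/-- the case `e = p - 1` -/
theorem Sc.full (S : Sc L φ ψ) (hDA : BoxDA) (T : Tr p c u (p - 1) X Y) (h1 : (Ce D).relIndex (In D θ) = p - 1)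
    (h2 : p = 3 ∨ p = 5) (h3 : In D θ ≤ R ∨ p = 5 ∧ R.relIndex (In D θ) = 2) : False := by
  classical
  obtain ⟨η', e1, -, e3⟩ := S.exists_ext
  have e4 : ψ.range = ⊤ := Subgroup.eq_top_of_card_eq _ (by rw [S.card, h1, Nat.card_eq_fintype_card, ZMod.card_units])
  have e5 : ∀ α ∈ Γ, α ∈ LE D θ η' → ∀ {f}, f ∈ X ∨ f ∈ Y → f ∘ α = f := fun α hα h _ => S.fixes hDA T
    (by rcases h2 with rfl | rfl <;> decide) (by rcases h2 with rfl | rfl <;> decide) e1 hα h (e4.ge (Subgroup.mem_top _))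
  by_cases e6 : ∀ α ∈ Γ, α ∈ LE D θ η'
  · exact L.two T (by omega) fun α hα f hf => e5 α hα (e6 α hα) (.inl hf)
  have e7 : ∀ α ∈ Γ, α ∉ LE D θ η' → ∃ l : In D θ →* ℂˣ, (∀ t : In D θ, t.1 ∈ R → l t = 1) ∧
      (∀ t : In D θ, η' (α t) = l t * η' t) ∧ ∃ t : In D θ, l t ≠ 1 := fun α hα h =>
    (e3 α hα).imp fun l hl => ⟨hl.1, hl.2, by_contra fun h' => h ⟨L.le hα, fun x hx => by
      rw [hl.2 ⟨x, hx⟩, not_not.1 fun e => h' ⟨_, e⟩, Units.val_one, one_mul]⟩⟩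
  obtain ⟨α, a1, a2⟩ := by simpa only [not_forall] using e6
  rcases h3 with h3 | ⟨rfl, h3⟩
  · obtain ⟨l, b1, -, t, b2⟩ := e7 α a1 a2
    exact b2 (b1 t (h3 t.2))
  have e8 : ∀ l : In D θ →* ℂˣ, (∀ t : In D θ, t.1 ∈ R → l t = 1) → (∃ t : In D θ, l t ≠ 1) →
      ∀ t : In D θ, t.1 ∉ R → l t = -1 := by
    rintro l b1 ⟨s, b2⟩ t b3
    have b4 : ∀ x y : In D θ, x.1 ∉ R → y.1 ∉ R → l x * l y = 1 := fun x y hx hy => (map_mul l x y).symm.trans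
      (b1 _ ((Subgroup.mul_mem_iff_of_index_two h3).2 (iff_of_false hx hy)))
    have b5 : s.1 ∉ R := fun h => b2 (b1 s h)
    have b6 : l s = -1 := (Units.ext_iff.not.1 b2 |> (mul_self_eq_one_iff.1 (congrArg Units.val (b4 s s b5 b5))).resolve_left)
      |> Units.ext
    have := b4 t s b3 b5
    rwa [b6, mul_neg_one, neg_eq_iff_eq_neg] at this
  have e9 : ∀ β ∈ Γ, ∀ γ ∈ Γ, β ∉ LE D θ η' → γ ∉ LE D θ η' → β * γ ∈ LE D θ η' := fun β b1 γ b2 b3 b4 => by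
    obtain ⟨l, b5, b6, b7⟩ := e7 β b1 b3
    obtain ⟨m, b8, b9, b10⟩ := e7 γ b2 b4
    refine ⟨L.le (mul_mem b1 b2), fun x hx => (b6 ⟨γ x, LA_In (L.le b2) hx⟩).trans ?_⟩
    rw [b9 ⟨x, hx⟩]
    by_cases h : x ∈ R
    · rw [b5 _ (S.aut_R b2 h), b8 _ h]
      simp
    · rw [e8 l b5 b7 _ fun e => h (by simpa using S.aut_R (inv_mem b2) e), e8 m b8 b10 _ h]
      simp
  have e10 : ∀ {f}, f ∈ X → ∀ β ∈ Γ, (f + f ∘ α) ∘ β = f + f ∘ α := fun {f} hf β hβ => by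
    by_cases h : β ∈ LE D θ η'
    · exact congrArg₂ (· + ·) (e5 β hβ h (.inl hf)) (e5 β hβ h (L.act T a1 (.inl hf)))
    · have b1 := e5 _ (mul_mem a1 hβ) (e9 α a1 β hβ a2 h) (.inl hf)
      have b2 := e5 _ (mul_mem hβ a1) (e9 β hβ α a1 h a2) (.inl hf)
      have b3 := e5 _ (mul_mem a1 a1) (e9 α a1 α a1 a2 a2) (.inl hf)
      exact (congrArg₂ (· + ·) ((comp_inj α).1 (b2.trans b3.symm)) b1).trans (add_comm _ _)
  obtain ⟨y, rfl⟩ := Finset.card_eq_one.1 T.cY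
  have e11 : ∀ f ∈ X.erase (y ∘ ⇑α⁻¹), f ∘ α ∈ X := fun f hf => (L.act T a1 (.inl (Finset.mem_of_mem_erase hf))).resolve_right
    fun h => Finset.ne_of_mem_erase hf (by rw [← Finset.mem_singleton.1 h, ← Q8.comp_mul, mul_inv_cancel]; rfl)
  have e12 := Finset.pred_card_le_card_erase (s := X) (a := y ∘ ⇑α⁻¹)
  rw [T.cX] at e12
  obtain ⟨f, hf⟩ := Finset.card_pos.1 (lt_of_lt_of_le (by decide) e12)
  have e13 := Finset.pred_card_le_card_erase (s := X.erase (y ∘ ⇑α⁻¹)) (a := f)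
  have e14 := Finset.pred_card_le_card_erase (s := (X.erase (y ∘ ⇑α⁻¹)).erase f) (a := f ∘ α)
  obtain ⟨f', hf'⟩ := Finset.card_pos.1 (show 0 < (((X.erase (y ∘ ⇑α⁻¹)).erase f).erase (f ∘ α)).card by omega)
  have e15 := Finset.mem_of_mem_erase (Finset.mem_of_mem_erase hf')
  exact L.dep T (Finset.mem_of_mem_erase e15) (e11 f' e15) (Finset.mem_of_mem_erase hf) (e11 f hf)
    (Finset.ne_of_mem_erase (Finset.mem_of_mem_erase hf')) (Finset.ne_of_mem_erase hf') (e10 (Finset.mem_of_mem_erase e15))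
    (e10 (Finset.mem_of_mem_erase hf))

omit L in
theorem Tr.notX (T : Tr p c u e X Y) (he : 1 < e) {f f' : H → ℂ} (h1 : f ∈ X) (h2 : f' ∈ X ∨ f' ∈ Y) (h3 : f ≠ f')
    (h4 : ∀ g, IsPRegular p g → f g = f' g) : False := by
  classical
  rcases h2 with h2 | h2
  · simpa [h3] using T.ind (fun x => (if x = f then 1 else 0) - if x = f' then 1 else 0) (fun g hg => by
      simp [sub_mul, h1, h2, h4 g hg]) f h1
  · obtain ⟨δ, δ₀, e1, -, e2⟩ := T.rel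
    obtain ⟨x, e3, e4⟩ := Finset.exists_mem_ne (T.cX ▸ he) f
    have e5 := T.ind (fun x => δ x + if x = f then (δ₀ : ℂ) else 0) (fun g hg => by
      simpa [add_mul, Finset.sum_add_distrib, h1, h4 g hg, add_comm] using e2 f' h2 g hg) x e3
    rcases e1 x e3 with e6 | e6 <;> simp [e4, e6] at e5

omit L in
theorem z5 : ∀ r s : (ZMod 5)ˣ, r ≠ 1 → r ^ 2 = 1 → (s ^ 2 = 1 ∨ s ^ 2 = r) ∧ (s ^ 2 = 1 → s = 1 ∨ s = r) := by decide

end Cfsg.Agent.TO.K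

namespace Cfsg.Agent.TO.K

open Cfsg Cfsg.Agent.Characters.Core Cfsg.Agent.ODD.Red

variable {H : Type} [Group H] [Finite H] {M : Ideal AlgInt} {c : Set (IrrCharacter H)}
  {D R : Subgroup H} {θ η : H → ℂ} {u : H} {Γ : Subgroup (MulAut H)} {X Y : Finset (H → ℂ)}

/-- the case `p = 5`, `e = 2` -/
theorem Sc.half [Fact (Nat.Prime 5)] {L : Loc 5 M c D R θ η u Γ} {φ : Γ →* (ZMod 5)ˣ} {ψ : In D θ →* (ZMod 5)ˣ}
    (S : Sc L φ ψ) (hCY : BoxCY) (hCOV : BoxCOV2) (hDA : BoxDA) (T : Tr 5 c u 2 X Y) (h1 : (Ce D).relIndex (In D θ) = 2)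
    (h2 : In D θ ≤ R) : False := by
  classical
  obtain rfl := h2.antisymm L.Rle
  have e1 : ∀ α ∈ Γ, α ∈ LE D θ η := fun α hα => ⟨L.le hα, fun x hx => L.inv α hα x hx (LA_In (L.le hα) hx)⟩
  have e2 : ∀ α (hα : α ∈ Γ), φ ⟨α, hα⟩ ∈ ψ.range → ∀ {f}, f ∈ X ∨ f ∈ Y → f ∘ α = f := fun α hα h _ =>
    S.fixes hDA T (by decide) (by decide) L.ext hα (e1 α hα) h
  obtain ⟨t, t1, t2⟩ := SetLike.not_le_iff_exists.1 L.Rne
  have e3 := fun s => z5 (ψ ⟨t, t1⟩) s (fun h => t2 ((S.ker' _).1 h)) (by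
    rw [← map_pow]
    exact (S.ker' _).2 (h1 ▸ pow_mem_Ce t1))
  have e4 : ∀ {s}, s = 1 ∨ s = ψ ⟨t, t1⟩ → s ∈ ψ.range := fun h => h.elim (· ▸ one_mem _) (· ▸ ⟨_, rfl⟩)
  have e5 : ∀ α ∈ Γ, ∀ {f}, f ∈ X ∨ f ∈ Y → f ∘ ⇑(α ^ 2) = f := fun α hα _ =>
    e2 _ (pow_mem hα 2) (e4 (map_pow φ ⟨α, hα⟩ 2 ▸ (e3 _).1))
  obtain ⟨χ, χ', x1, rfl⟩ := Finset.card_eq_two.1 T.cX
  obtain ⟨ξ, ξ', y1, rfl⟩ := Finset.card_eq_two.1 T.cY
  have m1 : ∀ {a b f : H → ℂ}, f ∈ ({a, b} : Finset (H → ℂ)) ↔ f = a ∨ f = b := by simp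
  have e6 : ∀ α ∈ Γ, ∀ f ∈ ({ξ, ξ'} : Finset (H → ℂ)), f ∘ α ∈ ({ξ, ξ'} : Finset (H → ℂ)) := fun α hα f hf => by
    obtain ⟨f', b1, b2⟩ := Finset.exists_mem_ne (T.cY ▸ (by decide : 1 < (5 - 1) / 2)) f
    exact (L.act T hα (.inr hf)).resolve_left fun h => T.notX (by decide) h (L.act T hα (.inr b1))
      ((comp_inj α).not.2 b2.symm) fun g hg => T.eqY f hf f' b1 _ (by rwa [IsPRegular, MulEquiv.orderOf_eq])
  have e7 : ∀ α ∈ Γ, ∀ f ∈ ({χ, χ'} : Finset (H → ℂ)), f ∘ α ∈ ({χ, χ'} : Finset (H → ℂ)) := fun α hα f hf =>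
    (L.act T hα (.inl hf)).resolve_right fun h => Finset.disjoint_left.1 T.dis hf (by
      have := e6 _ (inv_mem hα) _ h
      rwa [← Q8.comp_mul, mul_inv_cancel] at this)
  obtain ⟨α, a1, a2⟩ : ∃ α ∈ Γ, χ ∘ α ≠ χ := by_contra fun h => L.two T (by decide) fun α hα f hf => by
    have b1 : χ ∘ α = χ := by_contra fun e => h ⟨α, hα, e⟩
    rcases m1.1 hf with rfl | rfl
    · exact b1
    · exact (m1.1 (e7 α hα _ hf)).resolve_left fun e => x1 ((comp_inj α).1 (b1.trans e.symm))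
  have : Finite (MulAut H) := Finite.of_injective (fun α : MulAut H => (α : H → H)) DFunLike.coe_injective
  obtain ⟨k, n, a3, a4⟩ := Nat.exists_eq_pow_mul_and_not_dvd (orderOf_pos α).ne' 5 (by decide)
  have a5 : ¬ 5 ∣ orderOf (α ^ 5 ^ k) := by
    rwa [orderOf_pow_of_dvd (by positivity) (a4 ▸ dvd_mul_right _ _), a4, Nat.mul_div_cancel_left _ (by positivity)]
  have a6 : χ ∘ ⇑(α ^ 5 ^ k) ≠ χ := by
    obtain ⟨j, hj⟩ : Odd (5 ^ k) := Odd.pow (by decide)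
    rwa [hj, pow_succ, mul_comm 2, pow_mul, Q8.comp_mul, e5 _ (pow_mem a1 j) (.inl (m1.2 (.inl rfl)))]
  have a7 := pow_mem a1 (5 ^ k)
  generalize α ^ 5 ^ k = β at a5 a6 a7
  have b1 : χ ∘ β = χ' := (m1.1 (e7 β a7 _ (m1.2 (.inl rfl)))).resolve_left a6
  have b2 : ∀ f ∈ ({ξ, ξ'} : Finset (H → ℂ)), f 1 = 2 * χ 1 := fun f hf => by
    obtain ⟨δ, δ₀, c1, c2, c3⟩ := T.rel
    have c4 := c3 f hf 1 reg_one
    obtain ⟨a, ha, c5⟩ := isIrr_apply_one (T.irr (.inl (m1.2 (.inl rfl))))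
    obtain ⟨b, hb, c6⟩ := isIrr_apply_one (T.irr (.inr hf))
    rw [Finset.sum_pair x1, ← b1, Function.comp_apply, map_one, b1, c5, c6] at c4
    have c7 : δ₀ * b + (δ χ * a + δ χ' * a) = 0 := by exact_mod_cast c4
    have c8 : b = 2 * a := by
      rcases c1 χ (m1.2 (.inl rfl)) with d1 | d1 <;> rcases c1 χ' (m1.2 (.inr rfl)) with d2 | d2 <;>
        rcases c2 with rfl | rfl <;> rw [d1, d2] at c7 <;> omega
    rw [c5, c6, c8, Nat.cast_mul, Nat.cast_ofNat]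
  refine top hCY hCOV L.can L.card L.mem L.ne L.pow L.cen L.ext (e1 β a7) (L.fix β a7) a5
    (fun h => a6 (e2 β a7 (e4 ((e3 _).2 (map_pow φ ⟨β, a7⟩ 2 ▸ S.one ⟨_, pow_mem a7 2⟩ h))) (.inl (m1.2 (.inl rfl)))))
    (T.irr (.inl (m1.2 (.inl rfl)))) (T.irr (.inr (m1.2 (.inl rfl)))) (T.irr (.inr (m1.2 (.inr rfl))))
    (b2 _ (m1.2 (.inl rfl))) (b2 _ (m1.2 (.inr rfl))) a6 (e5 β a7 (.inl (m1.2 (.inl rfl)))) ?_ fun f h h' => by
      rw [b1, ← m1, ← m1]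
      exact (T.mem f).2 ⟨h, h'⟩
  rcases m1.1 (e6 β a7 _ (m1.2 (.inl rfl))) with h | h
  · exact .inl ⟨h, (m1.1 (e6 β a7 _ (m1.2 (.inr rfl)))).resolve_left fun e => y1 ((comp_inj β).1 (h.trans e.symm))⟩
  · exact .inr ⟨h ▸ y1.symm, h, e5 β a7 (.inr (m1.2 (.inl rfl)))⟩

/-- **the local theorem** -/
theorem Loc.false {p : ℕ} [Fact p.Prime] (L : Loc p M c D R θ η u Γ) (hCY : BoxCY) (hCOV : BoxCOV2) (hDA : BoxDA)
    (hp : p = 3 ∨ p = 5) : False := by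
  obtain ⟨φ, ψ, S⟩ := L.exists_sc
  obtain ⟨h1, X, Y, T⟩ := exists_tr hCY L.can L.card L.mem L.ne L.pow L.cen
  have h2 := Subgroup.relIndex_mul_relIndex _ _ _ L.ext.le L.Rle
  have h3 : (Ce D).relIndex R ≠ 1 := fun h => L.Rne (Subgroup.relIndex_eq_one.1 h)
  have h4 : R.relIndex (In D θ) = 1 → In D θ ≤ R := Subgroup.relIndex_eq_one.1
  generalize (Ce D).relIndex R = a at h2 h3
  generalize hb : R.relIndex (In D θ) = b at h2 h4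
  have h5 : ∀ a b : ℕ, a ≠ 1 → a * b ∣ 4 → b = 1 ∧ a * b = 2 ∨ (b = 1 ∨ b = 2) ∧ a * b = 4 := fun a b h h' => by
    have h6 := Nat.le_of_dvd (by decide) (Dvd.dvd.trans (Dvd.intro _ rfl) h')
    have h7 := Nat.le_of_dvd (by decide) (Dvd.dvd.trans (Dvd.intro_left _ rfl) h')
    interval_cases a <;> interval_cases b <;> simp_all
  rw [← h2] at h1
  rcases hp with rfl | rfl
  · rcases h5 a b h3 (h1.trans (by decide)) with ⟨h6, h7⟩ | ⟨-, h7⟩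
    · exact S.full hDA ((h2.symm.trans h7) ▸ T) (h2.symm.trans h7) (.inl rfl) (.inl (h4 h6))
    · exact absurd (h7 ▸ h1) (by decide)
  · rcases h5 a b h3 h1 with ⟨h6, h7⟩ | ⟨h6, h7⟩
    · exact S.half hCY hCOV hDA ((h2.symm.trans h7) ▸ T) (h2.symm.trans h7) (h4 h6)
    · exact S.full hDA ((h2.symm.trans h7) ▸ T) (h2.symm.trans h7) (.inr rfl) (h6.imp h4 fun h => ⟨rfl, hb.trans h⟩)

end Cfsg.Agent.TO.K
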