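import Cfsg.Agent.TO.Box
import Cfsg.Agent.S4666
import Cfsg.Agent.S4648
import Cfsg.Agent.S4607
import Cfsg.Agent.S4733
import Cfsg.Agent.S0908
import Cfsg.Agent.H648.HeightForm
import Cfsg.Agent.H613.RankPos

/-!
# S4817, task S1: blocks with at most four characters and an involutive symmetry

`Mat` is the integral matrix `p ^ d ⟨χ°, ψ⟩` of a block.

* `cyc_of_le_two` : a block with at most two members has cyclic defect groups;
* `three` : three members, two of them symmetric;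
* `four` : two symmetric pairs.
-/

set_option autoImplicit false

namespace Cfsg.Agent.TO.S1

open Cfsg Cfsg.Agent.Characters.Core
open scoped ComplexConjugate

variable {G : Type*} [Group G] {p : ℕ} {M : Ideal AlgInt}

/-- the inner product of the `p`-regular parts -/
noncomputable def ip [Fintype G] (p : ℕ) (χ ψ : G → ℂ) : ℂ := classInner (pRegularPart p χ) ψ

theorem reg_of {f : G → ℂ} {g : G} (h : IsPRegular p g) : pRegularPart p f g = f g := if_pos h

theorem reg_of_not {f : G → ℂ} {g : G} (h : ¬ IsPRegular p g) : pRegularPart p f g = 0 := if_neg h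

theorem reg_one [Fact p.Prime] : IsPRegular p (1 : G) := by
  unfold IsPRegular
  rw [orderOf_one]
  exact (Fact.out : p.Prime).not_dvd_one

theorem reg_swap [Fintype G] (f h : G → ℂ) :
    classInner (pRegularPart p f) h = classInner f (pRegularPart p h) := by
  rw [classInner_def, classInner_def]
  congr 1
  refine Finset.sum_congr rfl fun g _ => ?_
  by_cases hg : IsPRegular p g
  · rw [reg_of hg, reg_of hg]
  · rw [reg_of_not hg, reg_of_not hg]
    simp

theorem reg_reg (f : G → ℂ) : pRegularPart p (pRegularPart p f) = pRegularPart p f := by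
  funext g
  by_cases hg : IsPRegular p g
  · rw [reg_of hg]
  · rw [reg_of_not hg, reg_of_not hg]

/-- the integral matrix of the trivial subsection -/
structure Mat [Fintype G] (p : ℕ) (s : Finset (IrrCharacter G)) (q : ℤ)
    (m : IrrCharacter G → IrrCharacter G → ℤ) : Prop where
  val : ∀ χ ∈ s, ∀ ψ ∈ s, (q : ℂ) * ip p χ.1 ψ.1 = m χ ψ
  exp : ∀ χ ∈ s, ∀ g, (q : ℂ) * pRegularPart p χ.1 g = ∑ ψ ∈ s, (m χ ψ : ℂ) * ψ.1 g
  sym : ∀ χ ∈ s, ∀ ψ ∈ s, m χ ψ = m ψ χ
  idem : ∀ χ ∈ s, ∀ φ ∈ s, ∑ ψ ∈ s, m χ ψ * m ψ φ = q * m χ φ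
  deg : ∀ χ ∈ s, ∑ ψ ∈ s, m χ ψ * charDegree ψ.1 = q * charDegree χ.1
  ne : ∃ χ ∈ s, ∀ ψ ∈ s, m χ ψ ≠ 0

theorem exists_mat [Fintype G] [Fact p.Prime] (hM : IsPModular p M) {B : Set (IrrCharacter G)}
    (hB : IsPBlock M B) (s : Finset (IrrCharacter G)) (hs : B = ↑s) :
    ∃ m, Mat p s ((p : ℤ) ^ blockDefect p B) m := by
  classical
  have h0 : ∀ χ : IrrCharacter G, ∃ n : IrrCharacter G → ℤ, χ ∈ s → ∀ g : G,
      (((p : ℤ) ^ blockDefect p B : ℤ) : ℂ) * pRegularPart p χ.1 g = ∑ ψ ∈ s, (n ψ : ℂ) * ψ.1 g := by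
    intro χ
    by_cases hχ : χ ∈ s
    · obtain ⟨n, hn⟩ := S4666.result p M hM B hB χ.1 ⟨fun ψ => if ψ = χ then 1 else 0, fun g => by
        rw [hs, finsum_mem_coe_finset, Finset.sum_eq_single χ]
        · simp
        · intro ψ _ h
          simp [h]
        · exact fun h => absurd hχ h⟩
      refine ⟨n, fun _ g => ?_⟩
      have := hn g
      rw [hs, finsum_mem_coe_finset, ← hs] at this
      rw [← this]
      push_cast
      rfl
    · exact ⟨0, fun h => absurd h hχ⟩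
  choose m hm using h0
  set q : ℤ := (p : ℤ) ^ blockDefect p B with hq
  have hfun : ∀ χ ∈ s, (q : ℂ) • pRegularPart p χ.1 = ∑ ψ ∈ s, (m χ ψ : ℂ) • ψ.1 := by
    intro χ hχ
    funext g
    rw [Pi.smul_apply, smul_eq_mul, hm χ hχ g, Finset.sum_apply]
    rfl
  have hin : ∀ χ ∈ s, ∀ f : G → ℂ,
      (q : ℂ) * classInner (pRegularPart p χ.1) f = ∑ ψ ∈ s, (m χ ψ : ℂ) * classInner ψ.1 f := by
    intro χ hχ f
    rw [← classInner_smul_left, hfun χ hχ, classInner_sum_left]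
    exact Finset.sum_congr rfl fun ψ _ => classInner_smul_left _ _ _
  have hval : ∀ χ ∈ s, ∀ ψ ∈ s, (q : ℂ) * ip p χ.1 ψ.1 = m χ ψ := by
    intro χ hχ ψ hψ
    rw [ip, hin χ hχ, Finset.sum_eq_single ψ]
    · rw [classInner_irr_self ψ.2, mul_one]
    · intro φ _ h
      rw [classInner_irr_ne φ.2 ψ.2 (fun h' => h (Subtype.ext h')), mul_zero]
    · exact fun h => absurd hψ h
  refine ⟨m, hval, hm, ?_, ?_, ?_, ?_⟩
  · intro χ hχ ψ hψ
    have h1 := hval χ hχ ψ hψ
    have h2 := congrArg conj (hval ψ hψ χ hχ)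
    rw [map_mul, map_intCast, map_intCast, ip, reg_swap, classInner_conj_symm] at h2
    rw [ip, h2] at h1
    exact_mod_cast h1.symm
  · intro χ hχ φ hφ
    have h1 := hin χ hχ (pRegularPart p φ.1)
    rw [← reg_swap, reg_reg] at h1
    have h2 : (q : ℂ) * ((q : ℂ) * ip p χ.1 φ.1) = ∑ ψ ∈ s, (m χ ψ : ℂ) * m ψ φ := by
      rw [ip, h1, Finset.mul_sum]
      refine Finset.sum_congr rfl fun ψ hψ => ?_
      rw [← hval ψ hψ φ hφ, ip, reg_swap]
      ring
    rw [hval χ hχ φ hφ] at h2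
    exact_mod_cast h2.symm
  · intro χ hχ
    have h1 := hm χ hχ 1
    rw [reg_of reg_one, Blocks.Basic.irr_one_eq_charDegree χ.2,
      Finset.sum_congr rfl fun ψ _ => by rw [Blocks.Basic.irr_one_eq_charDegree ψ.2]] at h1
    exact_mod_cast h1.symm
  · have := hM.2.1.isPrime
    obtain ⟨χ, hχ, h0⟩ := H648.HeightForm.exists_height_zero (p := p) hB
    have hχ' : χ ∈ s := by rwa [hs] at hχ
    refine ⟨χ, hχ', fun ψ hψ h => ?_⟩
    obtain ⟨n, h1, -, h2⟩ := H648.HeightForm.exists_int_height hM hB hχ h0 (ψ := ψ) (by rw [hs]; exact hψ)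
    have h3 := hval χ hχ' ψ hψ
    rw [h, ip, hq] at h3
    push_cast at h1 h3
    rw [h3] at h1
    have h4 : n = 0 := by exact_mod_cast h1.symm
    exact h2 (by rw [h4]; exact dvd_zero _)

/-- a block with at most two members has cyclic defect groups -/
theorem cyc_of_le_two [Finite G] [Fact p.Prime] (hM : IsPModular p M) {B : Set (IrrCharacter G)}
    (hB : IsPBlock M B) {D : Subgroup G} (hD : IsDefectGroup p M B D) (hk : Nat.card B ≤ 2) : IsCyclic D := by
  have := hM.2.1.isPrime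
  have h1 := H613.RankPos.one_le_blockRank (p := p) (Blocks.Basic.isPBlock_nonempty hB)
  obtain ⟨h2, -, h3⟩ := S4733.result p M hM B hB
  by_cases h : Nat.card B = 2
  · have : Fact (Nat.Prime 2) := ⟨Nat.prime_two⟩
    exact isCyclic_of_prime_card ((S4607.result p M hM B hB D hD).1 h)
  · have h4 := S0908.result p M hM B hB D hD
    rw [h3.2 (by omega), pow_zero] at h4
    have : Subsingleton D := (Nat.card_eq_one_iff_unique.1 h4).1
    infer_instance

theorem odd_q [Fact p.Prime] (hp : p ≠ 2) (d : ℕ) : Odd ((p : ℤ) ^ d) := by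
  have := (Fact.out : p.Prime).odd_of_ne_two hp
  exact Odd.pow (by exact_mod_cast this)

/-- three members, two of them symmetric -/
theorem three [Fintype G] [Fact p.Prime] (hp : p ≠ 2) (hM : IsPModular p M) {B : Set (IrrCharacter G)}
    (hB : IsPBlock M B) {D : Subgroup G} (hD : IsDefectGroup p M B D) (hc : ¬ IsCyclic D)
    {χ₁ χ₂ χ₃ : IrrCharacter G} (h12 : χ₁ ≠ χ₂) (h13 : χ₁ ≠ χ₃) (h23 : χ₂ ≠ χ₃)
    (hs : B = {χ₁, χ₂, χ₃}) (e1 : ip p χ₁.1 χ₃.1 = ip p χ₁.1 χ₂.1) (e2 : ip p χ₃.1 χ₃.1 = ip p χ₂.1 χ₂.1)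
    (e3 : charDegree χ₃.1 = charDegree χ₂.1) :
    ∃ r y : ℤ, Odd r ∧ r * charDegree χ₁.1 = 2 * y * charDegree χ₂.1 := by
  classical
  obtain ⟨m, hm⟩ := exists_mat hM hB {χ₁, χ₂, χ₃} (by rw [hs]; simp)
  have hq := odd_q hp (blockDefect p B)
  generalize (p : ℤ) ^ blockDefect p B = q at hm hq
  have hq0 : q ≠ 0 := by
    rintro rfl
    exact absurd hq (by decide)
  have m1 : χ₁ ∈ ({χ₁, χ₂, χ₃} : Finset (IrrCharacter G)) := by simp
  have m2 : χ₂ ∈ ({χ₁, χ₂, χ₃} : Finset (IrrCharacter G)) := by simp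
  have m3 : χ₃ ∈ ({χ₁, χ₂, χ₃} : Finset (IrrCharacter G)) := by simp
  have hsum : ∀ {R : Type} [AddCommMonoid R] (f : IrrCharacter G → R),
      ∑ ψ ∈ ({χ₁, χ₂, χ₃} : Finset (IrrCharacter G)), f ψ = f χ₁ + (f χ₂ + f χ₃) := by
    intro R _ f
    rw [Finset.sum_insert (by simp [h12, h13]), Finset.sum_pair h23]
  have a13 : m χ₁ χ₃ = m χ₁ χ₂ := by
    have := hm.val _ m1 _ m3
    rw [e1, hm.val _ m1 _ m2] at this
    exact_mod_cast this.symm
  have a33 : m χ₃ χ₃ = m χ₂ χ₂ := by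
    have := hm.val _ m3 _ m3
    rw [e2, hm.val _ m2 _ m2] at this
    exact_mod_cast this.symm
  have a21 := hm.sym _ m2 _ m1
  have a31 := (hm.sym _ m3 _ m1).trans a13
  have a32 := hm.sym _ m3 _ m2
  have hy : m χ₁ χ₂ ≠ 0 := by
    obtain ⟨χ, hχ, h⟩ := hm.ne
    simp only [Finset.mem_insert, Finset.mem_singleton] at hχ
    rcases hχ with rfl | rfl | rfl
    · exact h _ m2
    · rw [← a21]; exact h _ m1
    · rw [← a31]; exact h _ m1
  have i12 := hm.idem _ m1 _ m2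
  have i22 := hm.idem _ m2 _ m2
  have i23 := hm.idem _ m2 _ m3
  have d1 := hm.deg _ m1
  have d2 := hm.deg _ m2
  have x1 := hm.exp _ m1
  have x2 := hm.exp _ m2
  have x3 := hm.exp _ m3
  simp only [hsum, a13, a33, a21, a31, a32, e3] at i12 i22 i23 d1 d2 x1 x2 x3
  have hc0 : ((charDegree χ₂.1 : ℕ) : ℂ) ≠ 0 := by
    exact_mod_cast (Blocks.Basic.charDegree_pos χ₂.2).ne'
  generalize m χ₁ χ₁ = x at *
  generalize m χ₁ χ₂ = y at *
  generalize m χ₂ χ₂ = z at *
  generalize m χ₂ χ₃ = w at *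
  generalize charDegree χ₁.1 = a at *
  generalize charDegree χ₂.1 = c at *
  have t1 : x + z + w = q := mul_right_cancel₀ hy (by linarith)
  have t2 : (z - w) * (z - w - q) = 0 := by linarith
  rcases mul_eq_zero.1 t2 with t3 | t3
  · exfalso
    have hw : w = z := by linarith
    subst hw
    have u1 : (y : ℂ) * c = w * a := by
      have : 2 * (y * c) = 2 * (w * a) := by rw [← t1] at d1; linarith
      exact_mod_cast mul_left_cancel₀ two_ne_zero this
    have u2 : (y : ℂ) * a = x * c := by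
      have : y * a = x * c := by rw [← t1] at d2; linarith
      exact_mod_cast this
    have hq1 : (q : ℂ) ≠ 0 := by exact_mod_cast hq0
    have v1 : pRegularPart p χ₁.1 = ((a : ℂ) / c) • pRegularPart p χ₂.1 := by
      funext g
      rw [Pi.smul_apply, smul_eq_mul]
      field_simp
      apply mul_left_cancel₀ hq1
      linear_combination (c : ℂ) * x1 g - (a : ℂ) * x2 g + (χ₂.1 g + χ₃.1 g) * u1 - χ₁.1 g * u2
    have v3 : pRegularPart p χ₃.1 = pRegularPart p χ₂.1 := by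
      funext g
      apply mul_left_cancel₀ hq1
      rw [x2 g, x3 g]
    have hl : blockRank p B = 1 := by
      have := hM.2.1.isPrime
      have h1 := H613.RankPos.one_le_blockRank (p := p) (Blocks.Basic.isPBlock_nonempty hB)
      have h2 : Submodule.span ℂ ((fun χ : IrrCharacter G => pRegularPart p (χ : G → ℂ)) '' B) ≤
          Submodule.span ℂ {pRegularPart p χ₂.1} := by
        rw [Submodule.span_le]
        rintro _ ⟨χ, hχ, rfl⟩
        rw [hs] at hχ
        rcases hχ with rfl | rfl | rfl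
        · exact Submodule.mem_span_singleton.2 ⟨_, v1.symm⟩
        · exact Submodule.mem_span_singleton_self _
        · show pRegularPart p χ.1 ∈ _
          rw [v3]
          exact Submodule.mem_span_singleton_self _
      have h3 := (Submodule.finrank_mono h2).trans (finrank_span_le_card ({pRegularPart p χ₂.1} : Set (G → ℂ)))
      simp only [Set.toFinset_singleton, Finset.card_singleton] at h3
      exact le_antisymm h3 h1
    have hk : Nat.card B = 3 := by
      rw [Nat.card_coe_set_eq, hs, Set.ncard_eq_three]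
      exact ⟨_, _, _, h12, h13, h23, rfl⟩
    have hD1 : D ≠ ⊥ := by
      rintro rfl
      exact hc inferInstance
    have h4 := (S4648.result p M hM B hB D hD hD1 hl (by omega)).2.1
    have : Fact (Nat.Prime 3) := ⟨Nat.prime_three⟩
    exact hc (isCyclic_of_prime_card (h4.trans hk))
  · refine ⟨q - x, y, ?_, by linarith⟩
    have : x = 2 * (-w) := by linarith
    rw [this]
    exact hq.sub_even (even_two_mul _)

theorem sq_add_sq_pow [hp : Fact p.Prime] (h3 : p % 4 = 3) : ∀ (d : ℕ) (u v : ℤ),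
    u ^ 2 + v ^ 2 = ((p : ℤ) ^ d) ^ 2 → u = 0 ∨ v = 0 := by
  intro d
  induction d with
  | zero =>
    intro u v h
    by_contra hc
    push Not at hc
    have h1 := sq_pos_of_ne_zero hc.1
    have h2 := sq_pos_of_ne_zero hc.2
    simp only [pow_zero, one_pow] at h
    omega
  | succ d ih =>
    intro u v h
    have h0 : (u : ZMod p) ^ 2 = -(v : ZMod p) ^ 2 := by
      have := congrArg (fun z : ℤ => (z : ZMod p)) h
      simp only [Int.cast_add, Int.cast_pow, Int.cast_natCast, ZMod.natCast_self, ne_eq, Nat.add_eq_zero_iff,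
        one_ne_zero, and_false, not_false_eq_true, zero_pow, OfNat.ofNat_ne_zero] at this
      exact eq_neg_of_add_eq_zero_left this
    have hv : (v : ZMod p) = 0 := by
      by_contra hv
      exact ZMod.mod_four_ne_three_of_sq_eq_neg_sq' hv h0 h3
    have hu : (u : ZMod p) = 0 := by
      rw [hv] at h0
      simpa using h0
    obtain ⟨u, rfl⟩ := (ZMod.intCast_zmod_eq_zero_iff_dvd _ _).1 hu
    obtain ⟨v, rfl⟩ := (ZMod.intCast_zmod_eq_zero_iff_dvd _ _).1 hv
    have hp0 : (p : ℤ) ^ 2 ≠ 0 := pow_ne_zero _ (by exact_mod_cast hp.out.ne_zero)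
    rcases ih u v (mul_left_cancel₀ hp0 (by linear_combination h)) with h | h
    · left; rw [h, mul_zero]
    · right; rw [h, mul_zero]

/-- two symmetric pairs -/
theorem four [Fintype G] [hp' : Fact p.Prime] (hp : p ≠ 2) (hM : IsPModular p M) {B : Set (IrrCharacter G)}
    (hB : IsPBlock M B) {χ₁ χ₂ χ₃ χ₄ : IrrCharacter G} (h12 : χ₁ ≠ χ₂) (h13 : χ₁ ≠ χ₃) (h14 : χ₁ ≠ χ₄)
    (h23 : χ₂ ≠ χ₃) (h24 : χ₂ ≠ χ₄) (h34 : χ₃ ≠ χ₄) (hs : B = {χ₁, χ₂, χ₃, χ₄})
    (e1 : ip p χ₂.1 χ₂.1 = ip p χ₁.1 χ₁.1) (e2 : ip p χ₄.1 χ₄.1 = ip p χ₃.1 χ₃.1)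
    (e3 : ip p χ₂.1 χ₄.1 = ip p χ₁.1 χ₃.1) (e4 : ip p χ₂.1 χ₃.1 = ip p χ₁.1 χ₄.1)
    (e5 : charDegree χ₂.1 = charDegree χ₁.1) (e6 : charDegree χ₄.1 = charDegree χ₃.1) : p % 4 = 1 := by
  classical
  obtain ⟨m, hm⟩ := exists_mat hM hB {χ₁, χ₂, χ₃, χ₄} (by rw [hs]; simp)
  have hq := odd_q hp (blockDefect p B)
  have hsq := fun h => sq_add_sq_pow (p := p) h (blockDefect p B)
  generalize (p : ℤ) ^ blockDefect p B = q at hm hq hsq
  have m1 : χ₁ ∈ ({χ₁, χ₂, χ₃, χ₄} : Finset (IrrCharacter G)) := by simp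
  have m2 : χ₂ ∈ ({χ₁, χ₂, χ₃, χ₄} : Finset (IrrCharacter G)) := by simp
  have m3 : χ₃ ∈ ({χ₁, χ₂, χ₃, χ₄} : Finset (IrrCharacter G)) := by simp
  have m4 : χ₄ ∈ ({χ₁, χ₂, χ₃, χ₄} : Finset (IrrCharacter G)) := by simp
  have hsum : ∀ f : IrrCharacter G → ℤ,
      ∑ ψ ∈ ({χ₁, χ₂, χ₃, χ₄} : Finset (IrrCharacter G)), f ψ = f χ₁ + (f χ₂ + (f χ₃ + f χ₄)) := by
    intro f
    rw [Finset.sum_insert (by simp [h12, h13, h14]), Finset.sum_insert (by simp [h23, h24]), Finset.sum_pair h34]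
  have key : ∀ {a b c d : IrrCharacter G}, a ∈ ({χ₁, χ₂, χ₃, χ₄} : Finset (IrrCharacter G)) →
      b ∈ ({χ₁, χ₂, χ₃, χ₄} : Finset (IrrCharacter G)) → c ∈ ({χ₁, χ₂, χ₃, χ₄} : Finset (IrrCharacter G)) →
      d ∈ ({χ₁, χ₂, χ₃, χ₄} : Finset (IrrCharacter G)) → ip p a.1 b.1 = ip p c.1 d.1 → m a b = m c d := by
    intro a b c d ha hb hc hd h
    have := hm.val _ ha _ hb
    rw [h, hm.val _ hc _ hd] at this
    exact_mod_cast this.symm
  have a22 := key m2 m2 m1 m1 e1
  have a44 := key m4 m4 m3 m3 e2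
  have a24 := key m2 m4 m1 m3 e3
  have a23 := key m2 m3 m1 m4 e4
  have a21 := hm.sym _ m2 _ m1
  have a31 := hm.sym _ m3 _ m1
  have a41 := hm.sym _ m4 _ m1
  have a32 := (hm.sym _ m3 _ m2).trans a23
  have a42 := (hm.sym _ m4 _ m2).trans a24
  have a43 := hm.sym _ m4 _ m3
  have hy : m χ₁ χ₃ ≠ 0 := by
    obtain ⟨χ, hχ, h⟩ := hm.ne
    simp only [Finset.mem_insert, Finset.mem_singleton] at hχ
    rcases hχ with rfl | rfl | rfl | rfl
    · exact h _ m3
    · rw [← a24]; exact h _ m4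
    · rw [← a31]; exact h _ m1
    · rw [← a42]; exact h _ m2
  have i11 := hm.idem _ m1 _ m1
  have i12 := hm.idem _ m1 _ m2
  have i13 := hm.idem _ m1 _ m3
  have d1 := hm.deg _ m1
  have d3 := hm.deg _ m3
  simp only [hsum, a22, a23, a21, a31, a41, a32, a42, a43, e5, e6] at i11 i12 i13 d1 d3
  have ha : ((charDegree χ₁.1 : ℕ) : ℤ) ≠ 0 := by exact_mod_cast (Blocks.Basic.charDegree_pos χ₁.2).ne'
  have hc : ((charDegree χ₃.1 : ℕ) : ℤ) ≠ 0 := by exact_mod_cast (Blocks.Basic.charDegree_pos χ₃.2).ne'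
  generalize m χ₁ χ₁ = x at *
  generalize m χ₁ χ₂ = x' at *
  generalize m χ₁ χ₃ = y at *
  generalize m χ₁ χ₄ = y' at *
  generalize m χ₃ χ₃ = w at *
  generalize m χ₃ χ₄ = w' at *
  generalize ((charDegree χ₁.1 : ℕ) : ℤ) = a at *
  generalize ((charDegree χ₃.1 : ℕ) : ℤ) = c at *
  obtain ⟨k, hk⟩ := hq
  have hY : y + y' ≠ 0 := by
    intro h
    have h1 : y' = -y := by linarith
    subst h1
    have h2 : x + x' = q := mul_right_cancel₀ ha (by linarith)
    have h3 : w + w' = q := mul_right_cancel₀ hc (by linarith)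
    have h4 : x - x' + (w - w') = q := mul_right_cancel₀ hy (by linarith)
    omega
  have h3 : p % 4 ≠ 3 := by
    intro h
    rcases hsq h (2 * (x + x') - q) (2 * (y + y')) (by linear_combination 4 * i11 + 4 * i12) with h1 | h1
    · omega
    · omega
  have := hp'.out.eq_two_or_odd.resolve_left hp
  omega

end Cfsg.Agent.TO.S1
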